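import Mathlib.RingTheory.Extension.Presentation.Core
import Mathlib.Algebra.Category.Ring.Constructions
import Mathlib.AlgebraicGeometry.Pullbacks
import Mathlib.AlgebraicGeometry.Morphisms.FinitePresentation
import Mathlib.AlgebraicGeometry.Morphisms.FiniteType
import Mathlib.RingTheory.TensorProduct.Basic

/-!
# Noetherian approximation of finitely presented morphisms of affine schemes
-/

universe u

open AlgebraicGeometry CategoryTheory Limits TensorProduct

namespace Groth.Agent.FlatH4

/-- Pushout square of spectra attached to an isomorphism `A ⊗[R] B₀ ≃ B`. -/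
theorem isPullback_SpecMap_of_algEquiv {R A B₀ B : Type u} [CommRing R] [CommRing A] [CommRing B₀]
    [CommRing B] [Algebra R A] [Algebra R B₀] [Algebra A B] (e : A ⊗[R] B₀ ≃ₐ[A] B) :
    IsPullback (Spec.map (CommRingCat.ofHom
        (e.toRingEquiv.toRingHom.comp Algebra.TensorProduct.includeRight.toRingHom)))
      (Spec.map (CommRingCat.ofHom (algebraMap A B)))
      (Spec.map (CommRingCat.ofHom (algebraMap R B₀)))
      (Spec.map (CommRingCat.ofHom (algebraMap R A))) := by
  let _ : Algebra B₀ B :=
    (e.toRingEquiv.toRingHom.comp Algebra.TensorProduct.includeRight.toRingHom).toAlgebra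
  let _ : Algebra R B := ((algebraMap A B).comp (algebraMap R A)).toAlgebra
  have : IsScalarTower R A B := IsScalarTower.of_algebraMap_eq fun _ => rfl
  have : IsScalarTower R B₀ B := IsScalarTower.of_algebraMap_eq fun r => by
    show algebraMap A B (algebraMap R A r) = e ((1 : A) ⊗ₜ[R] algebraMap R B₀ r)
    rw [← e.commutes, Algebra.TensorProduct.algebraMap_apply, Algebra.algebraMap_self_apply,
      Algebra.algebraMap_eq_smul_one r,
      Algebra.algebraMap_eq_smul_one r, TensorProduct.smul_tmul]
  have hP : Algebra.IsPushout R A B₀ B := ⟨IsBaseChange.of_equiv e.toLinearEquiv fun b => rfl⟩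
  have hPO := (CommRingCat.isPushout_iff_isPushout (R := R) (R' := A) (S := B₀) (S' := B)).2 hP
  exact isPullback_SpecMap_of_isPushout _ _ _ _ hPO.flip

/-- Noetherian approximation in algebra form. -/
theorem exists_approx (A B : Type u) [CommRing A] [CommRing B] [Algebra A B]
    [Algebra.FinitePresentation A B] :
    ∃ (R B₀ : Type u) (_ : CommRing R) (_ : CommRing B₀) (_ : Algebra R A) (_ : Algebra R B₀),
      Algebra.FiniteType ℤ R ∧ Algebra.FinitePresentation R B₀ ∧
        Nonempty (A ⊗[R] B₀ ≃ₐ[A] B) := by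
  let P := Algebra.Presentation.ofFinitePresentation A B
  exact ⟨P.Core, P.ModelOfHasCoeffs P.Core, inferInstance, inferInstance, inferInstance,
    inferInstance, inferInstance, inferInstance, ⟨P.tensorModelOfHasCoeffsEquiv P.Core⟩⟩

/-- An affine pullback square built from ring maps, transported to affine schemes. -/
theorem isPullback_of_affine {X S : Scheme.{u}} (f : X ⟶ S) [IsAffine X] [IsAffine S]
    {R B₀ : Type u} [CommRing R] [CommRing B₀] [Algebra R B₀] [Algebra R Γ(S, ⊤)]
    (e : letI := f.appTop.hom.toAlgebra; Γ(S, ⊤) ⊗[R] B₀ ≃ₐ[Γ(S, ⊤)] Γ(X, ⊤)) :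
    ∃ g' : X ⟶ Spec (.of B₀), IsPullback g' f (Spec.map (CommRingCat.ofHom (algebraMap R B₀)))
      (S.isoSpec.hom ≫ Spec.map (CommRingCat.ofHom (algebraMap R Γ(S, ⊤)))) := by
  let _ := f.appTop.hom.toAlgebra
  have h := isPullback_SpecMap_of_algEquiv e
  have hsq : IsPullback X.isoSpec.hom f (Spec.map f.appTop) S.isoSpec.hom :=
    IsPullback.of_horiz_isIso ⟨Scheme.isoSpec_hom_naturality f⟩
  exact ⟨_, hsq.paste_horiz h⟩

end Groth.Agent.FlatH4
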