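import Groth.Agent.Lib.FlatH4.FlatLocusFP
import Mathlib.AlgebraicGeometry.Morphisms.Flat
import Mathlib.AlgebraicGeometry.Morphisms.FinitePresentation
import Mathlib.AlgebraicGeometry.Morphisms.Smooth

/-!
# Openness of the flat locus of a morphism
-/

universe u

namespace Groth.Agent.FlatH4

open AlgebraicGeometry CategoryTheory

theorem flat_localization_iff {R S : Type u} [CommRing R] [CommRing S] [Algebra R S] (q : Ideal S)
    [q.IsPrime] :
    Module.Flat R (LocalizedModule q.primeCompl S) ↔ Module.Flat R (Localization.AtPrime q) :=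
  let e := (IsLocalizedModule.iso q.primeCompl (Algebra.linearMap S (Localization.AtPrime q))).restrictScalars R
  ⟨fun _ => Module.Flat.of_linearEquiv e.symm, fun _ => Module.Flat.of_linearEquiv e⟩

/-- Flatness of the stalk map in terms of affine charts. -/
theorem flat_stalkMap_iff {X Y : Scheme.{u}} (f : X ⟶ Y) (U : Y.Opens) (hU : IsAffineOpen U)
    (V : X.Opens) (hV : IsAffineOpen V) (hVU : V ≤ f ⁻¹ᵁ U) {x : X} (hx : x ∈ V) :
    letI := (f.appLE U V hVU).hom.toAlgebra
    (f.stalkMap x).hom.Flat ↔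
      Module.Flat Γ(Y, U)
        (LocalizedModule (hV.primeIdealOf ⟨x, hx⟩).asIdeal.primeCompl Γ(X, V)) := by
  let := (f.appLE U V hVU).hom.toAlgebra
  let p := (hU.primeIdealOf ⟨f x, hVU hx⟩).asIdeal
  let q := (hV.primeIdealOf ⟨x, hx⟩).asIdeal
  have : q.LiesOver p :=
    ⟨congr($(IsAffineOpen.comap_primeIdealOf_appLE U hU V hV hVU hx).1).symm⟩
  let := Localization.AtPrime.algebraOfLiesOver p q
  refine Iff.trans ?_ (flat_localization_iff q).symm
  trans Module.Flat (Localization.AtPrime p) (Localization.AtPrime q)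
  · rw [← RingHom.flat_algebraMap_iff]
    exact RingHom.Flat.respectsIso.arrow_mk_iso_iff
      (IsAffineOpen.arrowStalkMapIso f U hU V hV hVU hx)
  · exact Module.flat_iff_of_isLocalization (Localization.AtPrime p) p.primeCompl _

/-- The flat locus of a morphism locally of finite presentation is open. -/
theorem isOpen_flatLocus {X Y : Scheme.{u}} (f : X ⟶ Y) [LocallyOfFinitePresentation f] :
    IsOpen {x : X | (f.stalkMap x).hom.Flat} := by
  refine isOpen_iff_forall_mem_open.mpr fun x hx ↦ ?_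
  obtain ⟨_, ⟨U, hU, rfl⟩, hxU, -⟩ :=
    Y.isBasis_affineOpens.exists_subset_of_mem_open (Set.mem_univ (f x)) isOpen_univ
  obtain ⟨_, ⟨V, hV, rfl⟩, hxV, hVU⟩ :=
    X.isBasis_affineOpens.exists_subset_of_mem_open hxU (U.2.preimage f.continuous)
  have hfp := f.finitePresentation_appLE hU hV hVU
  algebraize [(f.appLE U V hVU).hom]
  have hopen := isOpen_flat_localized (R := Γ(Y, U)) (S := Γ(X, V)) (M := Γ(X, V))
  obtain ⟨W, hW, hWeq⟩ : ∃ W : Set X, IsOpen W ∧
      W = {y : X | ∃ hy : y ∈ V, Module.Flat Γ(Y, U)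
        (LocalizedModule (hV.primeIdealOf ⟨y, hy⟩).asIdeal.primeCompl Γ(X, V))} := by
    refine ⟨_, ?_, rfl⟩
    have h1 : Continuous fun y : V => hV.primeIdealOf y := by
      exact hV.isoSpec.hom.continuous
    have h2 := V.2.isOpenEmbedding_subtypeVal.isOpenMap _ (hopen.preimage h1)
    convert h2 using 1
    ext y
    constructor
    · rintro ⟨hy, h⟩; exact ⟨⟨y, hy⟩, h, rfl⟩
    · rintro ⟨⟨y, hy⟩, h, rfl⟩; exact ⟨hy, h⟩
  refine ⟨W, fun y hy => ?_, hW, ?_⟩
  · rw [hWeq] at hy
    obtain ⟨hy, h⟩ := hy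
    exact (flat_stalkMap_iff f U hU V hV hVU hy).2 h
  · rw [hWeq]
    exact ⟨hxV, (flat_stalkMap_iff f U hU V hV hVU hxV).1 hx⟩

end Groth.Agent.FlatH4
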