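import Groth.Agent.Lib.FlatH4.FibreCritScheme
import Mathlib.AlgebraicGeometry.Morphisms.Smooth
import Mathlib.AlgebraicGeometry.Morphisms.Etale
import Mathlib.AlgebraicGeometry.ResidueField
import Mathlib.AlgebraicGeometry.Fiber
import Mathlib.RingTheory.Smooth.Fiber
import Mathlib.RingTheory.Kaehler.TensorProduct
import Mathlib.RingTheory.LocalRing.Module

/-!
# Smooth and etale morphisms through their fibres
-/

universe u

open AlgebraicGeometry CategoryTheory Limits

namespace Groth.Agent.FlatH4

open TensorProduct in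
/-- Unramifiedness can be checked on the fibres. -/
theorem formallyUnramified_of_fibres {R S : Type u} [CommRing R] [CommRing S] [Algebra R S]
    [Algebra.FiniteType R S]
    (H : ∀ (p : Ideal R) [p.IsPrime],
      Algebra.FormallyUnramified p.ResidueField (p.ResidueField ⊗[R] S)) :
    Algebra.FormallyUnramified R S := by
  rw [Algebra.formallyUnramified_iff, ← Module.support_eq_empty_iff (R := S),
    Set.eq_empty_iff_forall_notMem]
  intro q hq
  rw [Module.mem_support_iff_nontrivial_residueField_tensorProduct] at hq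
  let p := q.asIdeal.under R
  letI : Algebra S (p.ResidueField ⊗[R] S) := Algebra.TensorProduct.rightAlgebra
  haveI := H p
  haveI : Subsingleton (p.ResidueField ⊗[R] Ω[S⁄R]) :=
    (KaehlerDifferential.tensorKaehlerEquivBase R p.ResidueField S
      (p.ResidueField ⊗[R] S)).subsingleton
  let φ : p.ResidueField →+* q.asIdeal.ResidueField :=
    Ideal.ResidueField.map p q.asIdeal (algebraMap R S) rfl
  let φ' : p.ResidueField →ₗ[R] q.asIdeal.ResidueField :=
    { φ.toAddMonoidHom with
      map_smul' := fun r c => by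
        show φ (r • c) = r • φ c
        rw [Algebra.smul_def, map_mul, Algebra.smul_def]
        congr 1
        rw [IsScalarTower.algebraMap_apply R S q.asIdeal.ResidueField]
        exact Ideal.ResidueField.map_algebraMap p q.asIdeal (algebraMap R S) rfl r }
  let ν : p.ResidueField ⊗[R] Ω[S⁄R] →ₗ[R] q.asIdeal.ResidueField ⊗[S] Ω[S⁄R] :=
    TensorProduct.lift (((TensorProduct.mk S q.asIdeal.ResidueField Ω[S⁄R]).restrictScalars₁₂ R R).comp φ')
  have h1 : ∀ ω : Ω[S⁄R], (1 : q.asIdeal.ResidueField) ⊗ₜ[S] ω = 0 := fun ω => by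
    have : ν ((1 : p.ResidueField) ⊗ₜ[R] ω) = (1 : q.asIdeal.ResidueField) ⊗ₜ[S] ω := by
      show φ 1 ⊗ₜ[S] ω = _
      rw [map_one]
    rw [← this, Subsingleton.elim ((1 : p.ResidueField) ⊗ₜ[R] ω) 0, map_zero]
  have h2 : ∀ z : q.asIdeal.ResidueField ⊗[S] Ω[S⁄R], z = 0 := fun z => by
    induction z using TensorProduct.induction_on with
    | zero => rfl
    | tmul c ω =>
      rw [show c ⊗ₜ[S] ω = c • ((1 : q.asIdeal.ResidueField) ⊗ₜ[S] ω) by
        rw [TensorProduct.smul_tmul', smul_eq_mul, mul_one], h1, smul_zero]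
    | add a b ha hb => rw [ha, hb, add_zero]
  haveI : Subsingleton (q.asIdeal.ResidueField ⊗[S] Ω[S⁄R]) := ⟨fun a b => by rw [h2 a, h2 b]⟩
  exact not_nontrivial _ hq

variable {X Y : Scheme.{u}} (f : X ⟶ Y)

/-- Base change of an affine chart of `f` to a residue field. -/
theorem pullback_residueField_of_forall {P : MorphismProperty Scheme.{u}} [P.IsStableUnderComposition]
    (hP : ∀ {W Z : Scheme.{u}} (e : W ⟶ Z) [IsOpenImmersion e], P e)
    (H : ∀ (K : Type u) [Field K] (a : Spec (CommRingCat.of K) ⟶ Y), P (pullback.fst a f))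
    {U : Y.Opens} (hU : IsAffineOpen U) {V : X.Opens} (hV : IsAffineOpen V) (e : V ≤ f ⁻¹ᵁ U)
    (p : Ideal Γ(Y, U)) [p.IsPrime] :
    letI := (f.appLE U V e).hom.toAlgebra
    P (Spec.map (CommRingCat.ofHom
      (algebraMap p.ResidueField (TensorProduct Γ(Y, U) p.ResidueField Γ(X, V))))) := by
  letI := (f.appLE U V e).hom.toAlgebra
  let sK := Spec.map (CommRingCat.ofHom (algebraMap Γ(Y, U) p.ResidueField))
  let sC := Spec.map (CommRingCat.ofHom (algebraMap Γ(Y, U) Γ(X, V)))
  have hC : sC ≫ hU.fromSpec = hV.fromSpec ≫ f := hU.SpecMap_appLE_fromSpec f hV e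
  let Φ := pullback.map sK sC (sK ≫ hU.fromSpec) f (𝟙 _) hV.fromSpec hU.fromSpec (by simp) hC
  have hΦ : Φ ≫ pullback.fst (sK ≫ hU.fromSpec) f = pullback.fst sK sC := by
    simp [Φ, pullback.lift_fst]
  have key : Spec.map (CommRingCat.ofHom
      (algebraMap p.ResidueField (TensorProduct Γ(Y, U) p.ResidueField Γ(X, V)))) =
      (pullbackSpecIso Γ(Y, U) p.ResidueField Γ(X, V)).inv ≫ Φ ≫
        pullback.fst (sK ≫ hU.fromSpec) f := by
    rw [hΦ]
    exact (pullbackSpecIso_inv_fst' _ _ _).symm
  rw [key]
  exact P.comp_mem _ _ (hP _) (P.comp_mem _ _ (hP _) (H _ _))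

/-- A flat morphism with smooth fibres is smooth. -/
theorem smooth_of_flat_of_fibres [Flat f] [LocallyOfFinitePresentation f]
    (H : ∀ (K : Type u) [Field K] (a : Spec (CommRingCat.of K) ⟶ Y), Smooth (pullback.fst a f)) :
    Smooth f := by
  rw [HasRingHomProperty.iff_appLE (P := @Smooth)]
  rintro ⟨U, hU⟩ ⟨V, hV⟩ e
  have hfp := f.finitePresentation_appLE hU hV e
  have hfl := Flat.flat_appLE f hU hV e
  algebraize [(f.appLE U V e).hom]
  rw [← RingHom.algebraMap_toAlgebra (f.appLE U V e).hom, RingHom.smooth_algebraMap]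
  refine Algebra.Smooth.of_formallySmooth_fiber fun p _ => ?_
  have h := pullback_residueField_of_forall (P := @Smooth) f (fun e _ => inferInstance) H hU hV e p
  rw [HasRingHomProperty.Spec_iff (P := @Smooth), CommRingCat.hom_ofHom, RingHom.smooth_algebraMap] at h
  exact h.formallySmooth

/-- A flat morphism with etale fibres is etale. -/
theorem etale_of_flat_of_fibres [Flat f] [LocallyOfFinitePresentation f]
    (H : ∀ (K : Type u) [Field K] (a : Spec (CommRingCat.of K) ⟶ Y), Etale (pullback.fst a f)) :
    Etale f := by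
  rw [HasRingHomProperty.iff_appLE (P := @Etale)]
  rintro ⟨U, hU⟩ ⟨V, hV⟩ e
  have hfp := f.finitePresentation_appLE hU hV e
  have hfl := Flat.flat_appLE f hU hV e
  algebraize [(f.appLE U V e).hom]
  rw [← RingHom.algebraMap_toAlgebra (f.appLE U V e).hom, RingHom.etale_algebraMap]
  haveI : Algebra.FormallyUnramified Γ(Y, U) Γ(X, V) := formallyUnramified_of_fibres fun p _ => by
    have h := pullback_residueField_of_forall (P := @Etale) f (fun e _ => inferInstance) H hU hV e p
    rw [HasRingHomProperty.Spec_iff (P := @Etale), CommRingCat.hom_ofHom, RingHom.etale_algebraMap] at h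
    infer_instance
  exact Algebra.Etale.of_formallyUnramified_of_flat

section Source

variable {S : Scheme.{u}} (g : Y ⟶ S)

/-- Field valued fibres of `f` are base changes of the maps on fibres over `S`. -/
theorem pullback_field_of_fibres {P : MorphismProperty Scheme.{u}} [P.IsStableUnderBaseChange]
    [P.RespectsIso] (H : ∀ s : S, P (pullback.snd f (g.fiberι s)))
    (K : Type u) [Field K] (a : Spec (CommRingCat.of K) ⟶ Y) : P (pullback.fst a f) := by
  let a' := a ≫ g
  let s := a' (IsLocalRing.closedPoint K)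
  let l : Spec (CommRingCat.of K) ⟶ g.fiber s :=
    pullback.lift a (Spec.map (S.descResidueField (Scheme.stalkClosedPointTo a')))
      (Scheme.descResidueField_stalkClosedPointTo_fromSpecResidueField K S a').symm
  have hl : l ≫ g.fiberι s = a := pullback.lift_fst _ _ _
  have hsq : IsPullback (pullback.fst l (pullback.snd f (g.fiberι s)))
      (pullback.snd l (pullback.snd f (g.fiberι s)) ≫ pullback.fst f (g.fiberι s)) a f := by
    rw [← hl]
    exact ((IsPullback.of_hasPullback l (pullback.snd f (g.fiberι s))).flip.paste_horiz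
      (IsPullback.of_hasPullback f (g.fiberι s))).flip
  have hf : P (pullback.fst l (pullback.snd f (g.fiberι s))) :=
    P.of_isPullback (IsPullback.of_hasPullback l (pullback.snd f (g.fiberι s))).flip (H s)
  rw [← hsq.isoPullback_inv_fst]
  exact (P.cancel_left_of_respectsIso hsq.isoPullback.inv _).2 hf

/-- Over a base, a map from a flat source with flat maps on fibres is flat. -/
theorem flat_of_fibres [LocallyOfFiniteType g] [LocallyOfFinitePresentation (f ≫ g)] [Flat (f ≫ g)]
    (H : ∀ s : S, Flat (pullback.snd f (g.fiberι s))) : Flat f := by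
  refine Flat.of_stalkMap _ fun x => ?_
  let s := g (f x)
  let a := S.fromSpecResidueField s
  have hH : Flat (pullback.snd f (pullback.fst g a)) := H s
  have h1 : (pullbackRightPullbackFstIso g a f).inv ≫ pullback.snd f (pullback.fst g a) =
      fibreMapAt' f g a := by
    apply pullback.hom_ext
    · rw [Category.assoc, pullbackRightPullbackFstIso_inv_snd_fst]
      exact (pullback.lift_fst _ _ _).symm
    · rw [Category.assoc, pullbackRightPullbackFstIso_inv_snd_snd]
      exact ((pullback.lift_snd _ _ _).trans (Category.comp_id _)).symm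
  haveI : Flat (fibreMapAt' f g a) := by
    rw [← h1]
    exact MorphismProperty.comp_mem @Flat _ _ inferInstance hH
  have hx : pullback.fst (f ≫ g) a ((f ≫ g).asFiber x) = x := (f ≫ g).fiberι_asFiber x
  exact flat_stalkMap_of_eq f hx (flat_of_flat_fibreMapAt' f g a _ (Flat.stalkMap _ _) (Flat.stalkMap _ _))

end Source

end Groth.Agent.FlatH4
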