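import Mathlib.AlgebraicGeometry.Noetherian
import Mathlib.AlgebraicGeometry.Morphisms.UniversallyOpen

/-! Maximal points (generic points of irreducible components) of schemes and flat morphisms. -/

universe u

open AlgebraicGeometry CategoryTheory

namespace Groth.Agent.FlatH4

/-- a point with no proper generalization -/
def IsMaxPt {α : Type*} [TopologicalSpace α] (x : α) : Prop := ∀ y, y ⤳ x → y = x

theorem exists_isMaxPt_specializes {X : Scheme.{u}} (x : X) : ∃ η : X, IsMaxPt η ∧ η ⤳ x := by
  obtain ⟨Z, hZ, hxZ, hmax⟩ := exists_preirreducible ({x} : Set X) isPreirreducible_singleton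
  have hirr : IsIrreducible Z := ⟨⟨x, hxZ rfl⟩, hZ⟩
  have hcl : IsClosed Z := by
    rw [← closure_eq_iff_isClosed]
    exact hmax _ hZ.closure subset_closure
  obtain ⟨η, hη⟩ := QuasiSober.sober hirr hcl
  refine ⟨η, fun y hy => ?_, hη.specializes (hxZ rfl)⟩
  have h2 : closure {y} = Z := by
    refine hmax _ isPreirreducible_singleton.closure ?_
    rw [← hη.def]
    exact closure_minimal (Set.singleton_subset_iff.mpr hy.mem_closure) isClosed_closure
  have h3 : IsGenericPoint y Z := h2
  exact h3.eq hη

theorem IsMaxPt.map_of_flat {X Y : Scheme.{u}} (f : X ⟶ Y) [Flat f] {x : X} (hx : IsMaxPt x) :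
    IsMaxPt (f x) := by
  intro y hy
  obtain ⟨x', hx', rfl⟩ := Flat.generalizingMap f hy
  rw [hx x' hx']

theorem IsMaxPt.mem_of_dense {X : Scheme.{u}} [IsLocallyNoetherian X] {η : X} (hη : IsMaxPt η)
    {U : Set X} (hU : IsOpen U) (hd : Dense U) : η ∈ U := by
  obtain ⟨V, hV, hηV, -⟩ :=
    exists_isAffineOpen_mem_and_subset (U := ⊤) (x := η) (Set.mem_univ _)
  have : IsNoetherianRing Γ(X, V) := IsLocallyNoetherian.component_noetherian ⟨V, hV⟩
  have : TopologicalSpace.NoetherianSpace (V : Set X) := AlgebraicGeometry.noetherianSpace_of_isAffineOpen V hV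
  have : QuasiSober (V : Set X) := V.2.isOpenEmbedding_subtypeVal.quasiSober
  let η' : (V : Set X) := ⟨η, hηV⟩
  have hZ : closure ({η'} : Set (V : Set X)) ∈ irreducibleComponents (V : Set X) := by
    refine ⟨isIrreducible_singleton.closure, fun W hW hsub => ?_⟩
    obtain ⟨w, hw⟩ := QuasiSober.sober hW.closure isClosed_closure
    have h1 : w ⤳ η' := hw.specializes (subset_closure (hsub (subset_closure rfl)))
    have h2 : Subtype.val w = η := hη _ (h1.map continuous_subtype_val)
    have h3 : w = η' := Subtype.ext h2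
    rw [← h3, hw.def]
    exact subset_closure
  obtain ⟨o, ho, hne, hsub⟩ :=
    TopologicalSpace.NoetherianSpace.exists_isOpen_nonempty_subset_irreducibleComponent _ hZ
  have ho' : IsOpen (Subtype.val '' o : Set X) := V.2.isOpenMap_subtype_val _ ho
  obtain ⟨z, ⟨z', hz', rfl⟩, hzU⟩ := hd.inter_open_nonempty _ ho' (hne.image _)
  have hsp : η' ⤳ z' := specializes_iff_mem_closure.mpr (hsub hz')
  exact (hsp.map continuous_subtype_val).mem_open hU hzU

end Groth.Agent.FlatH4
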