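import Groth.Agent.Lib.FlatH4.FlatDescentAux
import Mathlib.RingTheory.TensorProduct.DirectLimitFG
import Mathlib.RingTheory.Adjoin.FG
import Mathlib.RingTheory.Polynomial.Basic
import Mathlib.RingTheory.FiniteType

/-!
# Flatness of a limit comes from a finite stage
-/

universe u

namespace Groth.Agent.FlatH4

open TensorProduct LinearMap

section Generic

variable {B : Type u} [CommRing B] {V U N : Type u} [AddCommGroup V] [Module B V] [AddCommGroup U]
  [Module B U] [AddCommGroup N] [Module B N]

theorem exists_tensor_of_mem_smul (J : Ideal B) {z : U} (hz : z ∈ J • (⊤ : Submodule B U)) :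
    ∃ y : U ⊗[B] J, TensorProduct.rid B U (J.subtype.lTensor U y) = z := by
  refine Submodule.smul_induction_on hz (fun r hr n _ => ⟨n ⊗ₜ ⟨r, hr⟩, by simp⟩) ?_
  rintro _ _ ⟨a, rfl⟩ ⟨b, rfl⟩
  exact ⟨a + b, by simp⟩

theorem rid_mem_smul (J : Ideal B) (y : U ⊗[B] J) :
    TensorProduct.rid B U (J.subtype.lTensor U y) ∈ J • (⊤ : Submodule B U) := by
  induction y using TensorProduct.induction_on with
  | zero => simp
  | tmul n r => simpa using Submodule.smul_mem_smul r.2 Submodule.mem_top
  | add a b ha hb => rw [map_add, map_add]; exact add_mem ha hb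

theorem rid_natural (J : Ideal B) (g : U →ₗ[B] N) (y : U ⊗[B] J) :
    TensorProduct.rid B N (J.subtype.lTensor N (g.rTensor J y)) =
      g (TensorProduct.rid B U (J.subtype.lTensor U y)) := by
  induction y using TensorProduct.induction_on with
  | zero => simp
  | tmul n r => simp
  | add a b ha hb => simp only [map_add, ha, hb]

/-- If `N = U / V` is flat, `V ∩ J U = J V`. -/
theorem exists_mem_smul_of_flat (ι : V →ₗ[B] U) (ρ : U →ₗ[B] N) (hex : Function.Exact ι ρ)
    (hρ : Function.Surjective ρ) [Module.Flat B N] (J : Ideal B) {z : U}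
    (hz : z ∈ J • (⊤ : Submodule B U)) (hρz : ρ z = 0) :
    ∃ t ∈ J • (⊤ : Submodule B V), ι t = z := by
  obtain ⟨y, rfl⟩ := exists_tensor_of_mem_smul J hz
  have h0 : ρ.rTensor J y = 0 := by
    apply Module.Flat.lTensor_preserves_injective_linearMap (M := N) J.subtype J.injective_subtype
    apply (TensorProduct.rid B N).injective
    rw [rid_natural, hρz, map_zero, map_zero]
  obtain ⟨η, rfl⟩ := (rTensor_exact J hex hρ y).1 h0
  exact ⟨_, rid_mem_smul J η, (rid_natural J ι η).symm⟩

/-- Conversely, kernels of `N ⊗ J → N` are killed when `V ∩ J U ⊆ J V` up to powers of `c`. -/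
theorem exists_pow_smul_eq_zero (ι : V →ₗ[B] U) (ρ : U →ₗ[B] N) (hex : Function.Exact ι ρ)
    (hρ : Function.Surjective ρ) [Module.Flat B U] (J : Ideal B) (c : B)
    (h : ∀ z ∈ J • (⊤ : Submodule B U), ρ z = 0 →
      ∃ k : ℕ, ∃ t ∈ J • (⊤ : Submodule B V), ι t = c ^ k • z)
    (x : N ⊗[B] J) (hx : J.subtype.lTensor N x = 0) : ∃ k : ℕ, c ^ k • x = 0 := by
  obtain ⟨y, rfl⟩ := rTensor_surjective J hρ x
  obtain ⟨k, t, ht, hkt⟩ := h _ (rid_mem_smul J y) (by rw [← rid_natural, hx, map_zero])
  obtain ⟨η, hη⟩ := exists_tensor_of_mem_smul J ht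
  have hy : c ^ k • y = ι.rTensor J η := by
    apply Module.Flat.lTensor_preserves_injective_linearMap (M := U) J.subtype J.injective_subtype
    apply (TensorProduct.rid B U).injective
    rw [rid_natural, hη, hkt, map_smul, map_smul]
  refine ⟨k, ?_⟩
  rw [← map_smul, hy, ← rTensor_comp_apply, hex.linearMap_comp_eq_zero]
  simp

end Generic

variable {R A S M : Type u} [CommRing R] [CommRing A] [Algebra R A] [CommRing S] [Algebra R S]
  [AddCommGroup M] [Module R M] [Module S M] [IsScalarTower R S M]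
  {F : Type u} [AddCommGroup F] [Module R F] [Module S F] [IsScalarTower R S F]
  (π : F →ₗ[S] M)

local notation "Kπ" => LinearMap.ker π

/-- The inclusion of the kernel, as an `R`-linear map. -/
abbrev kerIncl : Kπ →ₗ[R] F := (LinearMap.ker π).subtype.restrictScalars R

theorem exact_kerIncl (B : Type u) [CommRing B] [Algebra R B] (hπ : Function.Surjective π) :
    Function.Exact ((kerIncl (R := R) π).baseChange B) ((π.restrictScalars R).baseChange B) := by
  have hs : Function.Surjective (π.restrictScalars R) := hπ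
  have hex : Function.Exact (kerIncl (R := R) π) (π.restrictScalars R) :=
    LinearMap.exact_subtype_ker_map π
  intro z
  exact lTensor_exact B hex hs z

/-- The condition that relations in `p F` come from `p (B ⊗ ker π)`. -/
def RelIn (B : Type u) [CommRing B] [Algebra R B] (p : Ideal R) (w : Kπ) : Prop :=
  ∃ t ∈ p • (⊤ : Submodule R (B ⊗[R] Kπ)),
    (kerIncl (R := R) π).baseChange B t = (1 : B) ⊗ₜ[R] kerIncl (R := R) π w

/-- One relation descends. -/
theorem exists_relIn [Module.Flat R F] (hπ : Function.Surjective π)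
    [Module.Flat A (A ⊗[R] M)] (p : Ideal R) (w : Kπ)
    (hw : kerIncl (R := R) π w ∈ p • (⊤ : Submodule R F)) :
    ∃ B₀ : Subalgebra R A, B₀.FG ∧ ∀ B : Subalgebra R A, B₀ ≤ B → RelIn π B p w := by
  let ι := kerIncl (R := R) π
  -- flatness at the level of `A`
  have hz : (1 : A) ⊗ₜ[R] ι w ∈ p.map (algebraMap R A) • (⊤ : Submodule A (A ⊗[R] F)) := by
    show _ ∈ (p.map (algebraMap R A) • (⊤ : Submodule A (A ⊗[R] F))).restrictScalars R
    rw [map_smul_top_restrictScalars]
    have hle : (p • (⊤ : Submodule R F)).map (TensorProduct.mk R A F 1) ≤ p • ⊤ := by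
      rw [Submodule.map_smul'']
      exact Submodule.smul_mono le_rfl le_top
    exact hle (Submodule.mem_map_of_mem hw)
  obtain ⟨t, ht, htw⟩ := exists_mem_smul_of_flat (ι.baseChange A) ((π.restrictScalars R).baseChange A)
    (exact_kerIncl π A hπ) (LinearMap.lTensor_surjective A hπ) _ hz (by
      simp [ι])
  -- descend the element `t`
  have ht' : t ∈ p • (⊤ : Submodule R (A ⊗[R] Kπ)) := by
    rw [← map_smul_top_restrictScalars (S := A)]
    exact ht
  obtain ⟨B₁, hB₁, t₁, ht₁, rfl⟩ : ∃ B₁ : Subalgebra R A, B₁.FG ∧ ∃ t₁ ∈ p • (⊤ : Submodule R (B₁ ⊗[R] Kπ)),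
      B₁.val.toLinearMap.rTensor Kπ t₁ = t := by
    refine Submodule.smul_induction_on ht' (fun r hr y _ => ?_) ?_
    · obtain ⟨B₁, hB₁, y₁, rfl⟩ := TensorProduct.Algebra.exists_of_fg y
      exact ⟨B₁, hB₁, r • y₁, Submodule.smul_mem_smul hr trivial, by rw [map_smul]⟩
    · rintro _ _ ⟨B₁, hB₁, y₁, hy₁, rfl⟩ ⟨B₂, hB₂, y₂, hy₂, rfl⟩
      refine ⟨B₁ ⊔ B₂, hB₁.sup hB₂, _, add_mem
        ((Submodule.map_smul'' p (⊤ : Submodule R (B₁ ⊗[R] Kπ))
          ((Subalgebra.inclusion (le_sup_left : B₁ ≤ B₁ ⊔ B₂)).toLinearMap.rTensor Kπ)).trans_le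
            (Submodule.smul_mono le_rfl le_top) (Submodule.mem_map_of_mem hy₁))
        ((Submodule.map_smul'' p (⊤ : Submodule R (B₂ ⊗[R] Kπ))
          ((Subalgebra.inclusion (le_sup_right : B₂ ≤ B₁ ⊔ B₂)).toLinearMap.rTensor Kπ)).trans_le
            (Submodule.smul_mono le_rfl le_top) (Submodule.mem_map_of_mem hy₂)), ?_⟩
      rw [map_add, ← rTensor_comp_apply, ← rTensor_comp_apply]
      rfl
  refine ⟨B₁, hB₁, fun B hB => ⟨(Subalgebra.inclusion hB).toLinearMap.rTensor Kπ t₁,
    (Submodule.map_smul'' p (⊤ : Submodule R (B₁ ⊗[R] Kπ))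
      ((Subalgebra.inclusion hB).toLinearMap.rTensor Kπ)).trans_le
        (Submodule.smul_mono le_rfl le_top) (Submodule.mem_map_of_mem ht₁), ?_⟩⟩
  apply Module.Flat.rTensor_preserves_injective_linearMap (M := F) B.val.toLinearMap Subtype.val_injective
  rw [LinearMap.rTensor_tmul]
  show B.val.toLinearMap.rTensor F (ι.lTensor B _) = _
  rw [← LinearMap.comp_apply, rTensor_comp_lTensor, ← lTensor_comp_rTensor, LinearMap.comp_apply,
    ← rTensor_comp_apply]
  refine Eq.trans ?_ htw
  rfl

/-- All relations in `p F` descend. -/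
theorem exists_forall_relIn [IsNoetherianRing S] [Module.Finite S F] [Module.Flat R F]
    (hπ : Function.Surjective π) [Module.Flat A (A ⊗[R] M)] (p : Ideal R) :
    ∃ B₀ : Subalgebra R A, B₀.FG ∧ ∀ B : Subalgebra R A, B₀ ≤ B →
      ∀ w : Kπ, kerIncl (R := R) π w ∈ p • (⊤ : Submodule R F) → RelIn π B p w := by
  classical
  haveI : IsNoetherian S F := isNoetherian_of_isNoetherianRing_of_finite S F
  let W : Submodule S Kπ := (p.map (algebraMap R S) • (⊤ : Submodule S F)).comap (LinearMap.ker π).subtype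
  obtain ⟨s, hs⟩ := IsNoetherian.noetherian W
  have hmem : ∀ w : Kπ, kerIncl (R := R) π w ∈ p • (⊤ : Submodule R F) ↔ w ∈ W := fun w => by
    rw [← map_smul_top_restrictScalars (S := S)]
    rfl
  have hgen : ∀ w : s, ∃ B₀ : Subalgebra R A, B₀.FG ∧ ∀ B : Subalgebra R A, B₀ ≤ B → RelIn π B p w :=
    fun w => exists_relIn π hπ p w ((hmem _).2 (hs.le (Submodule.subset_span w.2)))
  choose Bw hBw hrel using hgen
  refine ⟨Finset.univ.sup Bw, Finset.sup_induction Subalgebra.fg_bot (fun a ha b hb => ha.sup hb)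
    (fun i _ => hBw i), fun B hB w hw => ?_⟩
  have hw' : w ∈ Submodule.span S (s : Set Kπ) := hs.ge ((hmem w).1 hw)
  clear hw
  induction hw' using Submodule.span_induction with
  | mem x hx => exact hrel ⟨x, hx⟩ B ((Finset.le_sup (Finset.mem_univ _)).trans hB)
  | zero => exact ⟨0, zero_mem _, by simp⟩
  | add x y _ _ hx hy =>
    obtain ⟨tx, htx, hex⟩ := hx
    obtain ⟨ty, hty, hey⟩ := hy
    exact ⟨tx + ty, add_mem htx hty, by rw [map_add, hex, hey, ← TensorProduct.tmul_add, map_add]⟩
  | smul a x _ hx =>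
    obtain ⟨t, ht, he⟩ := hx
    let m := (Algebra.lsmul R R Kπ a).baseChange B
    refine ⟨m t, (Submodule.map_smul'' p (⊤ : Submodule R (B ⊗[R] Kπ))
      (m.restrictScalars R)).trans_le (Submodule.smul_mono le_rfl le_top) (Submodule.mem_map_of_mem ht), ?_⟩
    rw [← LinearMap.comp_apply, ← LinearMap.baseChange_comp,
      show kerIncl (R := R) π ∘ₗ Algebra.lsmul R R Kπ a = Algebra.lsmul R R F a ∘ₗ kerIncl (R := R) π from rfl,
      LinearMap.baseChange_comp, LinearMap.comp_apply, he, LinearMap.baseChange_tmul]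
    rfl

/-- Kernel elements in `p (B ⊗ F)` come from `p (B ⊗ ker π)` up to powers of `f`. -/
theorem exists_pow_preimage (hπ : Function.Surjective π) (B : Type u) [CommRing B] [Algebra R B]
    (p : Ideal R) (f : R) (hstar : ModFree p f M)
    (hT : ∀ w : Kπ, kerIncl (R := R) π w ∈ p • (⊤ : Submodule R F) → RelIn π B p w)
    (z : B ⊗[R] F) (hz : z ∈ p • (⊤ : Submodule R (B ⊗[R] F)))
    (hρz : (π.restrictScalars R).baseChange B z = 0) :
    ∃ k : ℕ, ∃ t ∈ p • (⊤ : Submodule R (B ⊗[R] Kπ)),
      (kerIncl (R := R) π).baseChange B t = f ^ k • z := by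
  let ι := kerIncl (R := R) π
  obtain ⟨u, rfl⟩ := (exact_kerIncl π B hπ z).1 hρz
  let C := B ⧸ (p • ⊤ : Submodule R B)
  let mk : B →ₗ[R] C := (p • ⊤ : Submodule R B).mkQ
  have hC : Module.IsTorsionBySet R C (p : Set R) := Module.isTorsionBySet_quotient_ideal_smul B p
  have h0 : mk.rTensor F ((kerIncl (R := R) π).baseChange B u) = 0 := by
    refine Submodule.smul_induction_on hz (fun r hr y hy => ?_) (fun a b ha hb => by simp [ha, hb])
    clear hy
    rw [map_smul]
    induction y using TensorProduct.induction_on with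
    | zero => simp
    | tmul b x => rw [LinearMap.rTensor_tmul, TensorProduct.smul_tmul', @hC (mk b) ⟨r, hr⟩,
        TensorProduct.zero_tmul]
    | add a b ha hb => rw [map_add, smul_add, ha, hb, add_zero]
  have hs : Function.Surjective (π.restrictScalars R) := hπ
  have hex : Function.Exact (kerIncl (R := R) π) (π.restrictScalars R) :=
    LinearMap.exact_subtype_ker_map π
  let W : Submodule R Kπ := (p • (⊤ : Submodule R F)).comap (kerIncl (R := R) π)
  obtain ⟨k, c, hc⟩ := exists_pow_mem_range_of_rTensor_eq_zero (kerIncl (R := R) π)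
    (π.restrictScalars R) hex hs p f hstar W (fun _ h => h) hC (mk.rTensor Kπ u) (by
      rw [← LinearMap.comp_apply, lTensor_comp_rTensor, ← rTensor_comp_lTensor, LinearMap.comp_apply]
      exact h0)
  obtain ⟨c', rfl⟩ := rTensor_surjective W (Submodule.mkQ_surjective (p • ⊤ : Submodule R B)) c
  refine ⟨k, ?_⟩
  -- the part coming from `W`
  obtain ⟨t₁, ht₁, he₁⟩ : ∃ t ∈ p • (⊤ : Submodule R (B ⊗[R] Kπ)),
      ι.baseChange B t = ι.baseChange B (W.subtype.lTensor B c') := by
    clear hc
    induction c' using TensorProduct.induction_on with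
    | zero => exact ⟨0, zero_mem _, by simp⟩
    | add a b ha hb =>
      obtain ⟨ta, hta, hea⟩ := ha
      obtain ⟨tb, htb, heb⟩ := hb
      exact ⟨ta + tb, add_mem hta htb, by simp [map_add, hea, heb]⟩
    | tmul b w =>
      obtain ⟨t, ht, he⟩ := hT w.1 w.2
      refine ⟨b • t, (Submodule.map_smul'' p (⊤ : Submodule R (B ⊗[R] Kπ))
        ((LinearMap.lsmul B (B ⊗[R] Kπ) b).restrictScalars R)).trans_le
          (Submodule.smul_mono le_rfl le_top) (Submodule.mem_map_of_mem ht), ?_⟩
      rw [map_smul, he, TensorProduct.smul_tmul', smul_eq_mul, mul_one]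
      rfl
  -- the part killed in `C ⊗ K`
  have h2 : f ^ k • u - W.subtype.lTensor B c' ∈ p • (⊤ : Submodule R (B ⊗[R] Kπ)) := by
    have hker : mk.rTensor Kπ (f ^ k • u - W.subtype.lTensor B c') = 0 := by
      rw [map_sub, map_smul, hc, ← LinearMap.comp_apply (mk.rTensor Kπ), rTensor_comp_lTensor,
        ← lTensor_comp_rTensor, LinearMap.comp_apply, sub_self]
    obtain ⟨e, he⟩ := (rTensor_exact Kπ (LinearMap.exact_subtype_mkQ (p • ⊤ : Submodule R B))
      (Submodule.mkQ_surjective _) _).1 hker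
    rw [← he]
    clear he hker
    induction e using TensorProduct.induction_on with
    | zero => simp
    | add a b ha hb => rw [map_add]; exact add_mem ha hb
    | tmul b x =>
      rw [LinearMap.rTensor_tmul]
      exact (Submodule.map_smul'' p (⊤ : Submodule R B) ((TensorProduct.mk R B Kπ).flip x)).trans_le
        (Submodule.smul_mono le_rfl le_top) (Submodule.mem_map_of_mem b.2)
  refine ⟨t₁ + (f ^ k • u - W.subtype.lTensor B c'), add_mem ht₁ h2, ?_⟩
  rw [map_add, he₁, ← map_add, add_sub_cancel, LinearMap.map_smul_of_tower]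

/-- Flatness at the primes over one stratum. -/
theorem flat_localized_of_stratum [IsNoetherianRing R] [Module.Finite S M] [Module.Flat R F]
    [Algebra.FiniteType R S] (hπ : Function.Surjective π)
    (B : Type u) [CommRing B] [Algebra R B] [IsNoetherianRing B]
    (p : Ideal R) (f : R) (hstar : ModFree p f M)
    (hT : ∀ w : Kπ, kerIncl (R := R) π w ∈ p • (⊤ : Submodule R F) → RelIn π B p w)
    (q : Ideal (B ⊗[R] S)) [q.IsPrime]
    (hp : ∀ r ∈ p, algebraMap B (B ⊗[R] S) (algebraMap R B r) ∈ q)
    (hf : algebraMap B (B ⊗[R] S) (algebraMap R B f) ∉ q) :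
    letI := tensorModule R B S M
    haveI := tensorModule_isScalarTower R B S M
    Module.Flat B (LocalizedModule q.primeCompl (B ⊗[R] M)) := by
  letI := tensorModule R B S M
  haveI := tensorModule_isScalarTower R B S M
  haveI := tensorModule_finite R B S M
  haveI : IsNoetherianRing (B ⊗[R] S) := Algebra.FiniteType.isNoetherianRing B _
  have hkill : ∀ {X : Type u} [AddCommGroup X] [Module B X] (x : (B ⊗[R] M) ⊗[B] X) (k : ℕ),
      (algebraMap R B f) ^ k • x = 0 → ∃ s ∈ q.primeCompl, s • x = 0 := fun x k hk =>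
    ⟨algebraMap B (B ⊗[R] S) ((algebraMap R B f) ^ k),
      by rw [map_pow]; exact fun h => hf (Ideal.IsPrime.mem_of_pow_mem ‹_› k h),
      by rw [algebraMap_smul]; exact hk⟩
  refine flat_localized_of_kernels (p.map (algebraMap R B)) q ?_ (fun x hx => ?_)
    (fun {N N'} _ _ _ _ hN hN' g hg x hx => ?_)
  · rw [Ideal.map_le_iff_le_comap, Ideal.map_le_iff_le_comap]
    exact fun r hr => hp r hr
  · obtain ⟨k, hk⟩ := exists_pow_smul_eq_zero ((kerIncl (R := R) π).baseChange B)
      ((π.restrictScalars R).baseChange B) (exact_kerIncl π B hπ) (LinearMap.lTensor_surjective B hπ)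
      (p.map (algebraMap R B)) (algebraMap R B f) (fun z hz hρz => by
        obtain ⟨k, t, ht, he⟩ := exists_pow_preimage π hπ B p f hstar hT z
          (by rw [← map_smul_top_restrictScalars (S := B)]; exact hz) hρz
        refine ⟨k, t, ?_, ?_⟩
        · rw [← map_smul_top_restrictScalars (S := B)] at ht
          exact ht
        · rw [he, ← map_pow, algebraMap_smul]) x hx
    exact hkill x k hk
  · let _ : Module R N := Module.compHom N (algebraMap R B)
    let _ : Module R N' := Module.compHom N' (algebraMap R B)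
    haveI : IsScalarTower R B N := IsScalarTower.of_algebraMap_smul fun _ _ => rfl
    haveI : IsScalarTower R B N' := IsScalarTower.of_algebraMap_smul fun _ _ => rfl
    have hN0 : Module.IsTorsionBySet R N (p : Set R) := fun n r => by
      rw [← algebraMap_smul B (r : R) n]
      exact @hN n ⟨_, Ideal.mem_map_of_mem _ r.2⟩
    have hN0' : Module.IsTorsionBySet R N' (p : Set R) := fun n r => by
      rw [← algebraMap_smul B (r : R) n]
      exact @hN' n ⟨_, Ideal.mem_map_of_mem _ r.2⟩
    let e := TensorProduct.comm B (B ⊗[R] M) N ≪≫ₗ AlgebraTensorModule.cancelBaseChange R B B N M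
    let e' := TensorProduct.comm B (B ⊗[R] M) N' ≪≫ₗ AlgebraTensorModule.cancelBaseChange R B B N' M
    have key : ∀ y, (g.restrictScalars R).rTensor M (e y) = e' (g.lTensor _ y) := by
      intro y
      induction y using TensorProduct.induction_on with
      | zero => simp
      | tmul z n =>
        induction z using TensorProduct.induction_on with
        | zero => simp
        | tmul b m => simp [e, e']
        | add a b ha hb => simp only [add_tmul, map_add, ha, hb]
      | add a b ha hb => simp only [map_add, ha, hb]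
    obtain ⟨k, hk⟩ := hstar hN0 hN0' (g.restrictScalars R) hg (e x) (by rw [key, hx, map_zero])
    refine hkill x k (e.injective ?_)
    rw [map_smul, map_zero, ← map_pow, algebraMap_smul, hk]

/-- Flatness of `A ⊗ M` descends to a finitely generated subalgebra (module-with-presentation form). -/
theorem exists_subalgebra_flat_of_presentation [IsNoetherianRing R] [Algebra.FiniteType R S]
    [Module.Finite S M] [Module.Finite S F] [Module.Flat R F] (hπ : Function.Surjective π)
    [Module.Flat A (A ⊗[R] M)] :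
    ∃ B₀ : Subalgebra R A, B₀.FG ∧ ∀ B : Subalgebra R A, B₀ ≤ B → B.FG →
      Module.Flat B (B ⊗[R] M) := by
  classical
  haveI : IsNoetherianRing S := Algebra.FiniteType.isNoetherianRing R S
  suffices ∀ I : Ideal R, ∃ B₀ : Subalgebra R A, B₀.FG ∧ ∀ B : Subalgebra R A, B₀ ≤ B → B.FG →
      ∀ (q : Ideal (B ⊗[R] S)) [q.IsPrime],
        (∀ r ∈ I, algebraMap B (B ⊗[R] S) (algebraMap R B r) ∈ q) →
        letI := tensorModule R B S M
        haveI := tensorModule_isScalarTower R B S M
        Module.Flat B (LocalizedModule q.primeCompl (B ⊗[R] M)) by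
    obtain ⟨B₀, hB₀, hflat⟩ := this ⊥
    refine ⟨B₀, hB₀, fun B hle hB => ?_⟩
    letI := tensorModule R B S M
    haveI := tensorModule_isScalarTower R B S M
    exact flat_of_localized_maximal_algebra (S := B ⊗[R] S) fun q _ =>
      hflat B hle hB q (fun r hr => by simp [(Submodule.mem_bot R).1 hr])
  intro I
  induction I using WellFoundedGT.induction with
  | _ I ih =>
  by_cases htop : I = ⊤
  · refine ⟨⊥, Subalgebra.fg_bot, fun B _ _ q hq hmem => absurd ?_ hq.ne_top⟩
    exact q.eq_top_iff_one.2 (by have := hmem 1 (htop ▸ trivial); rwa [map_one, map_one] at this)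
  by_cases hI : I.IsPrime
  · obtain ⟨f, hfI, hstar⟩ := exists_modFree (M := M) (S := S) I
    obtain ⟨B₁, hB₁, hT⟩ := exists_forall_relIn (A := A) π hπ I
    obtain ⟨B₂, hB₂, hflat₂⟩ := ih (I ⊔ Ideal.span {f}) (lt_of_le_of_ne le_sup_left fun h => hfI (by
      rw [h]; exact Ideal.mem_sup_right (Ideal.mem_span_singleton_self f)))
    refine ⟨B₁ ⊔ B₂, hB₁.sup hB₂, fun B hle hB q hq hmem => ?_⟩
    haveI : IsNoetherianRing B := isNoetherianRing_of_fg hB
    by_cases hfq : algebraMap B (B ⊗[R] S) (algebraMap R B f) ∈ q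
    · refine hflat₂ B (le_sup_right.trans hle) hB q fun r hr => ?_
      have hle' : I ⊔ Ideal.span {f} ≤ q.comap ((algebraMap B (B ⊗[R] S)).comp (algebraMap R B)) :=
        sup_le hmem ((Ideal.span_singleton_le_iff_mem _).2 hfq)
      exact hle' hr
    · exact flat_localized_of_stratum π hπ B I f hstar
        (fun w hw => hT B (le_sup_left.trans hle) w hw) q hmem hfq
  · rw [Ideal.isPrime_iff] at hI
    push Not at hI
    obtain ⟨a, b, hab, ha, hb⟩ := hI htop
    obtain ⟨B₁, hB₁, h₁⟩ := ih (I ⊔ Ideal.span {a}) (lt_of_le_of_ne le_sup_left fun h => ha (by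
      rw [h]; exact Ideal.mem_sup_right (Ideal.mem_span_singleton_self a)))
    obtain ⟨B₂, hB₂, h₂⟩ := ih (I ⊔ Ideal.span {b}) (lt_of_le_of_ne le_sup_left fun h => hb (by
      rw [h]; exact Ideal.mem_sup_right (Ideal.mem_span_singleton_self b)))
    refine ⟨B₁ ⊔ B₂, hB₁.sup hB₂, fun B hle hB q hq hmem => ?_⟩
    have hmul := hmem _ hab
    rw [map_mul, map_mul] at hmul
    rcases hq.mem_or_mem hmul with h | h
    · refine h₁ B (le_sup_left.trans hle) hB q fun r hr => ?_
      have hle' : I ⊔ Ideal.span {a} ≤ q.comap ((algebraMap B (B ⊗[R] S)).comp (algebraMap R B)) :=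
        sup_le hmem ((Ideal.span_singleton_le_iff_mem _).2 h)
      exact hle' hr
    · refine h₂ B (le_sup_right.trans hle) hB q fun r hr => ?_
      have hle' : I ⊔ Ideal.span {b} ≤ q.comap ((algebraMap B (B ⊗[R] S)).comp (algebraMap R B)) :=
        sup_le hmem ((Ideal.span_singleton_le_iff_mem _).2 h)
      exact hle' hr

omit π in
/-- Flatness of `A ⊗ M` descends to finitely generated subalgebras of `A`. -/
theorem exists_subalgebra_flat (R A S M : Type u) [CommRing R] [CommRing A] [Algebra R A]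
    [CommRing S] [Algebra R S] [AddCommGroup M] [Module R M] [Module S M] [IsScalarTower R S M]
    [IsNoetherianRing R] [Algebra.FiniteType R S] [Module.Finite S M] [Module.Flat A (A ⊗[R] M)] :
    ∃ B₀ : Subalgebra R A, B₀.FG ∧ ∀ B : Subalgebra R A, B₀ ≤ B → B.FG →
      Module.Flat B (B ⊗[R] M) := by
  obtain ⟨n, φ, hφ⟩ := Algebra.FiniteType.iff_quotient_mvPolynomial''.1 ‹Algebra.FiniteType R S›
  let _ : Algebra (MvPolynomial (Fin n) R) S := φ.toRingHom.toAlgebra
  let _ : Module (MvPolynomial (Fin n) R) M := Module.compHom M φ.toRingHom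
  haveI : IsScalarTower (MvPolynomial (Fin n) R) S M :=
    IsScalarTower.of_algebraMap_smul fun p m => rfl
  haveI : IsScalarTower R (MvPolynomial (Fin n) R) M := IsScalarTower.of_algebraMap_smul fun r m => by
    show φ (algebraMap R _ r) • m = r • m
    rw [AlgHom.commutes, algebraMap_smul]
  haveI : Module.Finite (MvPolynomial (Fin n) R) S :=
    Module.Finite.of_surjective (Algebra.linearMap _ S) hφ
  haveI : Module.Finite (MvPolynomial (Fin n) R) M := Module.Finite.trans S M
  obtain ⟨m, π, hπ⟩ := Module.Finite.exists_fin' (MvPolynomial (Fin n) R) M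
  exact exists_subalgebra_flat_of_presentation π hπ

end Groth.Agent.FlatH4
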