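import Groth.Agent.Lib.FlatH4.FibreCritFP
import Mathlib.RingTheory.Localization.BaseChange

/-!
# The fibrewise criterion of flatness, finite type middle algebra
-/

universe u

namespace Groth.Agent.FlatH4

open TensorProduct LinearMap

/-- Finitely many elements of an ideal `J` of a finite type algebra generate it on the fibre at `p`. -/
theorem exists_finset_fibre_gen {A P : Type u} [CommRing A] [CommRing P] [Algebra A P]
    [Algebra.FiniteType A P] (p : Ideal A) [p.IsPrime] (J : Ideal P) :
    ∃ G : Finset P, (G : Set P) ⊆ J ∧ ∀ (L : Type u) [CommRing L] (χ : P →+* L),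
      p ≤ RingHom.ker (χ.comp (algebraMap A P)) →
      (∀ a ∉ p, IsUnit (χ (algebraMap A P a))) → (∀ x ∈ G, χ x = 0) → ∀ j ∈ J, χ j = 0 := by
  classical
  haveI : IsNoetherianRing (p.ResidueField ⊗[A] P) := Algebra.FiniteType.isNoetherianRing p.ResidueField _
  let inc : P →+* p.ResidueField ⊗[A] P :=
    (Algebra.TensorProduct.includeRight (R := A) (A := p.ResidueField) (B := P)).toRingHom
  have hfg : (Submodule.span (p.ResidueField ⊗[A] P) (inc '' J)).FG := IsNoetherian.noetherian _
  obtain ⟨s', hs', hspan⟩ := (Submodule.fg_span_iff_fg_span_finset_subset _).1 hfg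
  obtain ⟨G, hG, hGs⟩ := Finset.subset_set_image_iff.1 hs'
  refine ⟨G, hG, fun L _ χ hp hu hχ j hj => ?_⟩
  letI : Algebra A L := (χ.comp (algebraMap A P)).toAlgebra
  let χ' : P →ₐ[A] L := AlgHom.mk χ fun _ => rfl
  let kL : p.ResidueField →ₐ[A] L := Ideal.ResidueField.liftₐ p (Algebra.ofId A L) hp fun a ha => hu a ha
  let X : p.ResidueField ⊗[A] P →ₐ[A] L := Algebra.TensorProduct.lift kL χ' fun _ _ => Commute.all _ _
  have hX : ∀ y : P, X (inc y) = χ y := fun y => by simp [X, inc, χ']
  have hmem : inc j ∈ RingHom.ker X.toRingHom := by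
    have h1 : inc j ∈ Submodule.span (p.ResidueField ⊗[A] P) (inc '' J) :=
      Submodule.subset_span ⟨j, hj, rfl⟩
    rw [hspan, ← hGs, Finset.coe_image] at h1
    refine Submodule.span_le.2 ?_ h1
    rintro _ ⟨x, hx, rfl⟩
    exact (hX x).trans (hχ x hx)
  rw [← hX]
  exact hmem

/-- Base change along a surjection acting trivially. -/
theorem flat_of_surjective_scalars {R S N : Type u} [CommRing R] [CommRing S] [Algebra R S]
    (h : Function.Surjective (algebraMap R S)) [AddCommGroup N] [Module R N] [Module S N]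
    [IsScalarTower R S N] [Module.Flat R N] : Module.Flat S N := by
  let f : S ⊗[R] N →ₗ[S] N := (LinearMap.id : N →ₗ[R] N).liftBaseChange S
  refine Module.Flat.of_linearEquiv (LinearEquiv.ofBijective f ⟨fun x y hxy => ?_, fun m => ⟨1 ⊗ₜ m, by simp [f]⟩⟩).symm
  have key : ∀ x, x = (1 : S) ⊗ₜ[R] f x := by
    intro x
    induction x using TensorProduct.induction_on with
    | zero => simp
    | tmul s m =>
      obtain ⟨r, rfl⟩ := h s
      simp only [f, LinearMap.liftBaseChange_tmul, LinearMap.id_coe, id_eq, algebraMap_smul]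
      rw [← TensorProduct.smul_tmul, Algebra.smul_def, mul_one]
    | add a b ha hb => rw [map_add, TensorProduct.tmul_add, ← ha, ← hb]
  rw [key x, key y, hxy]

section

variable {A P S₁ S T M : Type u} [CommRing A] [CommRing S₁] [CommRing S] [CommRing T]
  [Algebra A S₁] [Algebra A S] [Algebra S₁ S] [IsScalarTower A S₁ S]
  [AddCommGroup M] [Module S₁ M] [Module S M] [IsScalarTower S₁ S M]
  [Module T M] [SMulCommClass S₁ T M] [SMulCommClass S T M]
  [Algebra A T] [Module A M] [IsScalarTower A T M] [IsScalarTower A S₁ M]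

/-- Fibrewise flatness over a quotient with the same fibre. -/
theorem fibFlat_of_surjective (hsurj : Function.Surjective (algebraMap S₁ S)) (p : Ideal A) [p.IsPrime]
    (q : Ideal T) [q.IsPrime] (hqp : q.comap (algebraMap A T) = p)
    (hker : ∀ (L : Type u) [CommRing L] (χ : S₁ →+* L), p ≤ RingHom.ker (χ.comp (algebraMap A S₁)) →
      (∀ a ∉ p, IsUnit (χ (algebraMap A S₁ a))) → ∀ j, algebraMap S₁ S j = 0 → χ j = 0)
    (hfib : FibFlat S M (p.map (algebraMap A S)) q) :
    FibFlat S₁ M (p.map (algebraMap A S₁)) q := by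
  intro N N' _ _ _ _ hN hN' g hg x hx
  let U : Submonoid S₁ := p.primeCompl.map (algebraMap A S₁).toMonoidHom
  let C := Localization U
  let L := C ⧸ p.map (algebraMap A C)
  have hχ : ∀ j, algebraMap S₁ S j = 0 → algebraMap S₁ C j ∈ p.map (algebraMap A C) := by
    intro j hj
    rw [← Ideal.Quotient.eq_zero_iff_mem]
    refine hker L ((Ideal.Quotient.mk _).comp (algebraMap S₁ C)) (fun a ha => ?_) (fun a ha => ?_) j hj
    · show Ideal.Quotient.mk _ (algebraMap S₁ C (algebraMap A S₁ a)) = 0
      rw [Ideal.Quotient.eq_zero_iff_mem, ← IsScalarTower.algebraMap_apply]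
      exact Ideal.mem_map_of_mem _ ha
    · exact (IsLocalization.map_units C (⟨_, a, ha, rfl⟩ : U)).map (Ideal.Quotient.mk _)
  -- modules killed by `p` become `S`-modules after localization at `U`
  have htor : ∀ {X : Type u} [AddCommGroup X] [Module S₁ X],
      Module.IsTorsionBySet S₁ X (p.map (algebraMap A S₁) : Set S₁) →
      Module.IsTorsionBySet S₁ (LocalizedModule U X) (RingHom.ker (algebraMap S₁ S) : Set S₁) := by
    intro X _ _ hX z j
    have hj := hχ j.1 j.2
    rw [← algebraMap_smul C (j : S₁) z]
    have h0 : p.map (algebraMap A C) ≤ Module.annihilator C (LocalizedModule U X) := by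
      rw [IsScalarTower.algebraMap_eq A S₁ C, ← Ideal.map_map, Ideal.map_le_iff_le_comap]
      intro r hr
      rw [Ideal.mem_comap, Module.mem_annihilator]
      intro z
      obtain ⟨⟨z, u⟩, rfl⟩ := IsLocalizedModule.mk'_surjective U (LocalizedModule.mkLinearMap U X) z
      rw [algebraMap_smul]
      show r • IsLocalizedModule.mk' (LocalizedModule.mkLinearMap U X) z u = 0
      rw [← IsLocalizedModule.mk'_smul, @hX z ⟨r, hr⟩, IsLocalizedModule.mk'_zero]
    exact Module.mem_annihilator.1 (h0 hj) z
  let σ : S ≃+* S₁ ⧸ RingHom.ker (algebraMap S₁ S) :=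
    (RingHom.quotientKerEquivOfSurjective hsurj).symm
  have hσ : ∀ r, σ (algebraMap S₁ S r) = Ideal.Quotient.mk _ r := fun r => by
    rw [RingEquiv.symm_apply_eq]
    exact (RingHom.quotientKerEquivOfSurjective_apply_mk hsurj r).symm
  letI := (htor hN).module
  letI := (htor hN').module
  letI : Module S (LocalizedModule U N) := Module.compHom _ σ.toRingHom
  letI : Module S (LocalizedModule U N') := Module.compHom _ σ.toRingHom
  have hsm : ∀ (r : S₁) (z : LocalizedModule U N), algebraMap S₁ S r • z = r • z := fun r z => by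
    show σ (algebraMap S₁ S r) • z = r • z
    rw [hσ]
    rfl
  have hsm' : ∀ (r : S₁) (z : LocalizedModule U N'), algebraMap S₁ S r • z = r • z := fun r z => by
    show σ (algebraMap S₁ S r) • z = r • z
    rw [hσ]
    rfl
  haveI : IsScalarTower S₁ S (LocalizedModule U N) := IsScalarTower.of_algebraMap_smul hsm
  haveI : IsScalarTower S₁ S (LocalizedModule U N') := IsScalarTower.of_algebraMap_smul hsm'
  let gU₁ := IsLocalizedModule.map U (LocalizedModule.mkLinearMap U N) (LocalizedModule.mkLinearMap U N') g
  let gU : LocalizedModule U N →ₗ[S] LocalizedModule U N' :=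
    LinearMap.extendScalarsOfSurjective hsurj gU₁
  have hgU : Function.Injective gU :=
    IsLocalizedModule.map_injective U (LocalizedModule.mkLinearMap U N) (LocalizedModule.mkLinearMap U N') g hg
  have htorS : ∀ {X : Type u} [AddCommGroup X] [Module S₁ X] [Module S (LocalizedModule U X)]
      [IsScalarTower S₁ S (LocalizedModule U X)],
      Module.IsTorsionBySet S₁ X (p.map (algebraMap A S₁) : Set S₁) →
      Module.IsTorsionBySet S (LocalizedModule U X) (p.map (algebraMap A S) : Set S) := by
    intro X _ _ _ _ hX z r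
    obtain ⟨r₀, hr₀⟩ := r
    have hr₁ : r₀ ∈ (p.map (algebraMap A S₁)).map (algebraMap S₁ S) := by
      rw [Ideal.map_map, ← IsScalarTower.algebraMap_eq A S₁ S]
      exact hr₀
    obtain ⟨r, hr, rfl⟩ := (Ideal.mem_map_iff_of_surjective _ hsurj).1 hr₁
    show algebraMap S₁ S r • z = 0
    obtain ⟨⟨z, u⟩, rfl⟩ := IsLocalizedModule.mk'_surjective U (LocalizedModule.mkLinearMap U X) z
    rw [algebraMap_smul]
    show r • IsLocalizedModule.mk' (LocalizedModule.mkLinearMap U X) z u = 0
    rw [← IsLocalizedModule.mk'_smul, @hX z ⟨r, hr⟩, IsLocalizedModule.mk'_zero]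
  let J₁ : M ⊗[S₁] N →+ M ⊗[S] LocalizedModule U N := TensorProduct.liftAddHom
    (AddMonoidHom.mk' (fun m => AddMonoidHom.mk' (fun n => m ⊗ₜ[S] LocalizedModule.mkLinearMap U N n)
      fun a b => by rw [map_add, TensorProduct.tmul_add]) fun a b => by ext n; simp [TensorProduct.add_tmul])
    (fun r m n => by
      show (r • m) ⊗ₜ[S] _ = m ⊗ₜ[S] LocalizedModule.mkLinearMap U N (r • n)
      rw [map_smul, ← hsm r (LocalizedModule.mkLinearMap U N n), ← algebraMap_smul S r m,
        TensorProduct.smul_tmul])
  have hJT : ∀ (t : T) y, J₁ (t • y) = t • J₁ y := by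
    intro t y
    induction y using TensorProduct.induction_on with
    | zero => simp
    | tmul m n => rfl
    | add a b ha hb => simp only [smul_add, map_add, ha, hb]
  have h0 : gU.lTensor M (J₁ x) = 0 := by
    let J₂ : M ⊗[S₁] N' →+ M ⊗[S] LocalizedModule U N' := TensorProduct.liftAddHom
      (AddMonoidHom.mk' (fun m => AddMonoidHom.mk' (fun n => m ⊗ₜ[S] LocalizedModule.mkLinearMap U N' n)
        fun a b => by rw [map_add, TensorProduct.tmul_add]) fun a b => by ext n; simp [TensorProduct.add_tmul])
      (fun r m n => by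
        show (r • m) ⊗ₜ[S] _ = m ⊗ₜ[S] LocalizedModule.mkLinearMap U N' (r • n)
        rw [map_smul, ← hsm' r (LocalizedModule.mkLinearMap U N' n), ← algebraMap_smul S r m,
          TensorProduct.smul_tmul])
    rw [show gU.lTensor M (J₁ x) = J₂ (g.lTensor M x) from by
      clear hx
      induction x using TensorProduct.induction_on with
      | zero => simp
      | tmul m n =>
        show m ⊗ₜ[S] gU₁ (LocalizedModule.mkLinearMap U N n) = m ⊗ₜ[S] LocalizedModule.mkLinearMap U N' (g n)
        rw [IsLocalizedModule.map_apply]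
      | add a b ha hb => simp only [map_add, ha, hb], hx, map_zero]
  obtain ⟨s, hs, hsx⟩ := hfib (htorS hN) (htorS hN') gU hgU (J₁ x) h0
  rw [← hJT] at hsx
  let g₁ := AlgebraTensorModule.rTensor S₁ M (LocalizedModule.mkLinearMap U N)
  have h1 : g₁ (TensorProduct.comm S₁ M N (s • x)) = 0 := by
    let K : M ⊗[S] LocalizedModule U N →+ LocalizedModule U N ⊗[S₁] M := TensorProduct.liftAddHom
      (AddMonoidHom.mk' (fun m => AddMonoidHom.mk' (fun n => n ⊗ₜ[S₁] m)
        fun a b => by simp [TensorProduct.add_tmul]) fun a b => by ext n; simp [TensorProduct.tmul_add])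
      (fun r m n => by
        obtain ⟨r, rfl⟩ := hsurj r
        show n ⊗ₜ[S₁] (algebraMap S₁ S r • m) = (algebraMap S₁ S r • n) ⊗ₜ[S₁] m
        rw [algebraMap_smul, hsm, TensorProduct.smul_tmul])
    rw [← map_zero K, ← hsx]
    generalize s • x = y
    induction y using TensorProduct.induction_on with
    | zero => simp
    | tmul m n => rfl
    | add a b ha hb => simp only [map_add, ha, hb]
  obtain ⟨⟨_, a, ha, rfl⟩, hu⟩ := (IsLocalizedModule.eq_zero_iff U g₁).1 h1
  refine ⟨algebraMap A T a * s, fun hmem => ?_, ?_⟩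
  · rcases Ideal.IsPrime.mem_or_mem inferInstance hmem with h | h
    · exact ha (hqp ▸ h)
    · exact hs h
  · rw [mul_smul]
    apply (TensorProduct.comm S₁ M N).injective
    rw [map_zero, ← hu]
    show _ = algebraMap A S₁ a • TensorProduct.comm S₁ M N (s • x)
    rw [← map_smul]
    congr 1
    generalize s • x = y
    induction y using TensorProduct.induction_on with
    | zero => simp
    | add b c hb hc => simp only [smul_add, hb, hc]
    | tmul m n => rw [TensorProduct.smul_tmul', TensorProduct.smul_tmul', algebraMap_smul, algebraMap_smul]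

end

/-- Reduction of the fibrewise criterion to a finitely presented algebra with the same fibre. -/
theorem flat_localized_of_fibFlat_of_surjective {A S₁ S T M : Type u} [CommRing A] [CommRing S₁]
    [CommRing S] [CommRing T] [Algebra A S₁] [Algebra A S] [Algebra S T] [Algebra A T]
    [IsScalarTower A S T] [Algebra.FinitePresentation A S₁] [Algebra.FinitePresentation A T]
    [AddCommGroup M] [Module A M] [Module S M] [Module T M] [IsScalarTower A S M]
    [IsScalarTower S T M] [IsScalarTower A T M] [Module.FinitePresentation T M]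
    (φ : S₁ →ₐ[A] S) (hsurj : Function.Surjective φ)
    (q : Ideal T) [q.IsPrime] [Module.Flat A (LocalizedModule q.primeCompl M)]
    (hker : ∀ (L : Type u) [CommRing L] (χ : S₁ →+* L),
      q.comap (algebraMap A T) ≤ RingHom.ker (χ.comp (algebraMap A S₁)) →
      (∀ a ∉ q.comap (algebraMap A T), IsUnit (χ (algebraMap A S₁ a))) → ∀ j, φ j = 0 → χ j = 0)
    (hfib : FibFlat S M ((q.comap (algebraMap A T)).map (algebraMap A S)) q) :
    Module.Flat S (LocalizedModule q.primeCompl M) := by
  letI : Algebra S₁ S := φ.toRingHom.toAlgebra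
  letI : Algebra S₁ T := ((algebraMap S T).comp φ.toRingHom).toAlgebra
  letI : Module S₁ M := Module.compHom M φ.toRingHom
  haveI : IsScalarTower A S₁ S := IsScalarTower.of_algebraMap_eq fun a => (φ.commutes a).symm
  haveI : IsScalarTower S₁ S T := IsScalarTower.of_algebraMap_eq fun _ => rfl
  haveI : IsScalarTower A S₁ T := IsScalarTower.of_algebraMap_eq fun a => by
    show _ = algebraMap S T (φ (algebraMap A S₁ a))
    rw [AlgHom.commutes, ← IsScalarTower.algebraMap_apply]
  haveI : IsScalarTower S₁ S M := IsScalarTower.of_algebraMap_smul fun _ _ => rfl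
  haveI : IsScalarTower S₁ T M := IsScalarTower.of_algebraMap_smul fun r m => by
    show algebraMap S T (φ r) • m = φ r • m
    rw [algebraMap_smul]
  haveI : IsScalarTower A S₁ M := IsScalarTower.of_algebraMap_smul fun a m => by
    show φ (algebraMap A S₁ a) • m = a • m
    rw [AlgHom.commutes, algebraMap_smul]
  haveI := flat_localized_of_fibFlat_fp (S := S₁) q (fibFlat_of_surjective hsurj _ q rfl hker hfib)
  exact flat_of_surjective_scalars (R := S₁) hsurj

/-- The fibrewise criterion of flatness: `S` of finite type, `T` and `M` finitely presented. -/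
theorem flat_localized_of_fibFlat_ft {A S T M : Type u} [CommRing A] [CommRing S] [CommRing T]
    [Algebra A S] [Algebra S T] [Algebra A T] [IsScalarTower A S T]
    [Algebra.FiniteType A S] [Algebra.FinitePresentation A T]
    [AddCommGroup M] [Module A M] [Module S M] [Module T M] [IsScalarTower A S M]
    [IsScalarTower S T M] [IsScalarTower A T M] [Module.FinitePresentation T M]
    (q : Ideal T) [q.IsPrime] [Module.Flat A (LocalizedModule q.primeCompl M)]
    (hfib : FibFlat S M ((q.comap (algebraMap A T)).map (algebraMap A S)) q) :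
    Module.Flat S (LocalizedModule q.primeCompl M) := by
  classical
  obtain ⟨n, f, hf⟩ := Algebra.FiniteType.iff_quotient_mvPolynomial''.1 ‹Algebra.FiniteType A S›
  obtain ⟨G, hGJ, hG⟩ := exists_finset_fibre_gen (q.comap (algebraMap A T)) (RingHom.ker f.toRingHom)
  have hle : Ideal.span (G : Set (MvPolynomial (Fin n) A)) ≤ RingHom.ker f.toRingHom := Ideal.span_le.2 hGJ
  haveI : Algebra.FinitePresentation A
      (MvPolynomial (Fin n) A ⧸ Ideal.span (G : Set (MvPolynomial (Fin n) A))) :=
    Algebra.FinitePresentation.quotient ⟨G, rfl⟩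
  refine flat_localized_of_fibFlat_of_surjective (Ideal.Quotient.liftₐ _ f fun x hx => hle hx)
    (fun s => (hf s).elim fun y hy => ⟨Ideal.Quotient.mk _ y, hy⟩) q (fun L _ χ hp hu j hj => ?_) hfib
  obtain ⟨y, rfl⟩ := Ideal.Quotient.mk_surjective j
  exact hG L (χ.comp (Ideal.Quotient.mk _)) hp hu
    (fun x hx => by
      show χ (Ideal.Quotient.mk _ x) = 0
      rw [Ideal.Quotient.eq_zero_iff_mem.2 (Ideal.subset_span hx), map_zero]) y hj

end Groth.Agent.FlatH4
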