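import Groth.Agent.Lib.FlatH4.PullChart
import Groth.Agent.Lib.FlatH4.FibreCritFT
import Mathlib.Algebra.Category.Ring.Constructions

/-!
# Flatness of modules over a base under base change
-/

universe u

open AlgebraicGeometry CategoryTheory Limits TensorProduct

namespace Groth.Agent.FlatH4

theorem algebra_isPushout_sections {X Y S T : Scheme.{u}} {f : T ⟶ S} {g : Y ⟶ X} {iX : X ⟶ S}
    {iY : Y ⟶ T} (H : IsPullback g iY iX f) {US : S.Opens} {UT : T.Opens} {UX : X.Opens}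
    (hUST : UT ≤ f ⁻¹ᵁ US) (hUSX : UX ≤ iX ⁻¹ᵁ US) {UY : Y.Opens}
    (hUY : UY = g ⁻¹ᵁ UX ⊓ iY ⁻¹ᵁ UT) (hUS : IsAffineOpen US) (hUT : IsAffineOpen UT)
    (hUX : IsAffineOpen UX) [Algebra Γ(S, US) Γ(T, UT)] [Algebra Γ(S, US) Γ(X, UX)]
    [Algebra Γ(T, UT) Γ(Y, UY)] [Algebra Γ(X, UX) Γ(Y, UY)] [Algebra Γ(S, US) Γ(Y, UY)]
    [IsScalarTower Γ(S, US) Γ(T, UT) Γ(Y, UY)] [IsScalarTower Γ(S, US) Γ(X, UX) Γ(Y, UY)]
    (h₁ : algebraMap Γ(S, US) Γ(T, UT) = (f.appLE US UT hUST).hom)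
    (h₂ : algebraMap Γ(S, US) Γ(X, UX) = (iX.appLE US UX hUSX).hom)
    (h₃ : algebraMap Γ(T, UT) Γ(Y, UY) = (iY.appLE UT UY (by simp [*])).hom)
    (h₄ : algebraMap Γ(X, UX) Γ(Y, UY) = (g.appLE UX UY (by simp [*])).hom) :
    Algebra.IsPushout Γ(S, US) Γ(T, UT) Γ(X, UX) Γ(Y, UY) := by
  refine CommRingCat.isPushout_iff_isPushout.1 ?_
  rw [h₁, h₂, h₃, h₄]
  exact (isPushout_sections H hUST hUSX hUY hUS hUT hUX).flip

/-- Flatness at a point is stable under base change of the target. -/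
theorem isFlatOverAt_baseChange {X Y X' Y' : Scheme.{u}} {f : X ⟶ Y} {f' : X' ⟶ Y'} {gX : X' ⟶ X}
    {gY : Y' ⟶ Y} (H : IsPullback gX f' f gY) (F : X.Modules) [Coh.IsQCoh F] (x' : X')
    (hF : FlatMod.IsFlatOverAt f F (gX x')) :
    FlatMod.IsFlatOverAt f' ((Scheme.Modules.pullback gX).obj F) x' := by
  have hyy : gY (f' x') = f (gX x') := by rw [← Scheme.Hom.comp_apply, ← H.w]; rfl
  obtain ⟨U, hU, hyU, -⟩ :=
    exists_isAffineOpen_mem_and_subset (X := Y) (x := f (gX x')) (U := ⊤) trivial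
  obtain ⟨U', hU', hyU', hUU'⟩ :=
    exists_isAffineOpen_mem_and_subset (X := Y') (x := f' x') (U := gY ⁻¹ᵁ U)
      (show gY (f' x') ∈ U by rw [hyy]; exact hyU)
  obtain ⟨W, hW, hxW, hWU⟩ :=
    exists_isAffineOpen_mem_and_subset (X := X) (x := gX x') (U := f ⁻¹ᵁ U) hyU
  let W' := gX ⁻¹ᵁ W ⊓ f' ⁻¹ᵁ U'
  have hW' : IsAffineOpen W' := isAffineOpen_of_isPullback H hUU' hWU rfl hU hU' hW
  have hx' : x' ∈ W' := ⟨hxW, hyU'⟩
  have eX : W' ≤ gX ⁻¹ᵁ W := inf_le_left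
  have eY : W' ≤ f' ⁻¹ᵁ U' := inf_le_right
  letI : Algebra Γ(Y, U) Γ(Y', U') := (gY.appLE U U' hUU').hom.toAlgebra
  letI : Algebra Γ(Y, U) Γ(X, W) := (f.appLE U W hWU).hom.toAlgebra
  letI : Algebra Γ(Y', U') Γ(X', W') := (f'.appLE U' W' eY).hom.toAlgebra
  letI : Algebra Γ(X, W) Γ(X', W') := (gX.appLE W W' eX).hom.toAlgebra
  letI : Algebra Γ(Y, U) Γ(X', W') :=
    ((algebraMap Γ(X, W) Γ(X', W')).comp (algebraMap Γ(Y, U) Γ(X, W))).toAlgebra
  haveI : IsScalarTower Γ(Y, U) Γ(X, W) Γ(X', W') := IsScalarTower.of_algebraMap_eq fun _ => rfl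
  haveI : IsScalarTower Γ(Y, U) Γ(Y', U') Γ(X', W') := IsScalarTower.of_algebraMap_eq fun r => by
    show (f.appLE U W hWU ≫ gX.appLE W W' eX) r = (gY.appLE U U' hUU' ≫ f'.appLE U' W' eY) r
    rw [Scheme.Hom.appLE_comp_appLE, Scheme.Hom.appLE_comp_appLE]
    simp only [H.w]
  haveI := algebra_isPushout_sections H hUU' hWU (UY := W') rfl hU hU' hW rfl rfl rfl rfl
  letI := secModuleOver f F U W hWU
  haveI : IsScalarTower Γ(Y, U) Γ(X, W) Γ(F, W) := IsScalarTower.of_algebraMap_smul fun _ _ => rfl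
  haveI := (isFlatOverAt_iff f F U hU W hW hWU hxW).1 hF
  rw [isFlatOverAt_pullback_iff gX F hW hW' eX f' U' hU' eY hx']
  let q' := (hW'.primeIdealOf ⟨x', hx'⟩).asIdeal
  have hq : q'.comap (algebraMap Γ(X, W) Γ(X', W')) = (hW.primeIdealOf ⟨gX x', hxW⟩).asIdeal :=
    congr($(IsAffineOpen.comap_primeIdealOf_appLE W hW W' hW' eX hx').1)
  haveI : Module.Flat Γ(Y, U)
      (LocalizedModule (q'.comap (algebraMap Γ(X, W) Γ(X', W'))).primeCompl Γ(F, W)) := by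
    have hc : (q'.comap (algebraMap Γ(X, W) Γ(X', W'))).primeCompl =
        (hW.primeIdealOf ⟨gX x', hxW⟩).asIdeal.primeCompl := SetLike.ext fun z => not_congr (by rw [hq])
    rwa [hc]
  refine flat_localized_baseChange (R := Γ(Y, U)) Γ(Y', U') (algebraMap Γ(X, W) Γ(X', W')) q'
    (Algebra.IsPushout.cancelBaseChange Γ(Y, U) Γ(Y', U') Γ(X, W) Γ(X', W') Γ(F, W)).symm ?_
  intro s m
  rw [Algebra.IsPushout.cancelBaseChange_symm_tmul, Algebra.IsPushout.cancelBaseChange_symm_tmul,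
    map_one, TensorProduct.tmul_smul, algebraMap_smul]

/-- Flatness at a point descends along base change of the base, given flatness over the base. -/
theorem isFlatOverAt_of_baseChange {X Y S X' Y' S' : Scheme.{u}} (f : X ⟶ Y) (g : Y ⟶ S)
    [LocallyOfFinitePresentation (f ≫ g)] [LocallyOfFiniteType g] {h : S' ⟶ S} {gY : Y' ⟶ Y}
    {g' : Y' ⟶ S'} (hY : IsPullback gY g' g h) {gX : X' ⟶ X} {f' : X' ⟶ Y'}
    (hX : IsPullback gX (f' ≫ g') (f ≫ g) h) (w : gX ≫ f = f' ≫ gY)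
    (F : X.Modules) [Coh.IsQCoh F] (hfp : CohB1.IsFP F) (x' : X')
    (hfl : FlatMod.IsFlatOverAt (f ≫ g) F (gX x'))
    (hF : FlatMod.IsFlatOverAt f' ((Scheme.Modules.pullback gX).obj F) x') :
    FlatMod.IsFlatOverAt f F (gX x') := by
  have hyy : gY (f' x') = f (gX x') := by rw [← Scheme.Hom.comp_apply, ← w]; rfl
  have hss : h (g' (f' x')) = g (f (gX x')) := by
    rw [← hyy, ← Scheme.Hom.comp_apply g', ← Scheme.Hom.comp_apply gY, hY.w]
  obtain ⟨V, hV, hsV, -⟩ :=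
    exists_isAffineOpen_mem_and_subset (X := S) (x := g (f (gX x'))) (U := ⊤) trivial
  obtain ⟨V', hV', hsV', hVV'⟩ :=
    exists_isAffineOpen_mem_and_subset (X := S') (x := g' (f' x')) (U := h ⁻¹ᵁ V)
      (show h (g' (f' x')) ∈ V by rw [hss]; exact hsV)
  obtain ⟨U, hU, hyU, hUV⟩ :=
    exists_isAffineOpen_mem_and_subset (X := Y) (x := f (gX x')) (U := g ⁻¹ᵁ V) hsV
  obtain ⟨W, hW, hxW, hWU⟩ :=
    exists_isAffineOpen_mem_and_subset (X := X) (x := gX x') (U := f ⁻¹ᵁ U) hyU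
  have hWV : W ≤ (f ≫ g) ⁻¹ᵁ V := fun z hz => hUV (hWU hz)
  let U' := gY ⁻¹ᵁ U ⊓ g' ⁻¹ᵁ V'
  let W' := gX ⁻¹ᵁ W ⊓ (f' ≫ g') ⁻¹ᵁ V'
  have hU' : IsAffineOpen U' := isAffineOpen_of_isPullback hY hVV' hUV rfl hV hV' hU
  have hW' : IsAffineOpen W' := isAffineOpen_of_isPullback hX hVV' hWV rfl hV hV' hW
  have hx' : x' ∈ W' := ⟨hxW, hsV'⟩
  have eX : W' ≤ gX ⁻¹ᵁ W := inf_le_left
  have eU : U' ≤ gY ⁻¹ᵁ U := inf_le_left
  have eUV : U' ≤ g' ⁻¹ᵁ V' := inf_le_right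
  have eWV : W' ≤ (f' ≫ g') ⁻¹ᵁ V' := inf_le_right
  have eY : W' ≤ f' ⁻¹ᵁ U' := fun z hz => ⟨by
    show gY (f' z) ∈ U
    rw [← Scheme.Hom.comp_apply, ← w]
    exact hWU hz.1, hz.2⟩
  letI : Algebra Γ(S, V) Γ(S', V') := (h.appLE V V' hVV').hom.toAlgebra
  letI : Algebra Γ(S, V) Γ(Y, U) := (g.appLE V U hUV).hom.toAlgebra
  letI : Algebra Γ(S, V) Γ(X, W) := ((f ≫ g).appLE V W hWV).hom.toAlgebra
  letI : Algebra Γ(Y, U) Γ(X, W) := (f.appLE U W hWU).hom.toAlgebra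
  letI : Algebra Γ(S', V') Γ(Y', U') := (g'.appLE V' U' eUV).hom.toAlgebra
  letI : Algebra Γ(Y, U) Γ(Y', U') := (gY.appLE U U' eU).hom.toAlgebra
  letI : Algebra Γ(X, W) Γ(X', W') := (gX.appLE W W' eX).hom.toAlgebra
  letI : Algebra Γ(Y', U') Γ(X', W') := (f'.appLE U' W' eY).hom.toAlgebra
  letI : Algebra Γ(S', V') Γ(X', W') := ((f' ≫ g').appLE V' W' eWV).hom.toAlgebra
  letI : Algebra Γ(S, V) Γ(Y', U') :=
    ((algebraMap Γ(Y, U) Γ(Y', U')).comp (algebraMap Γ(S, V) Γ(Y, U))).toAlgebra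
  letI : Algebra Γ(S, V) Γ(X', W') :=
    ((algebraMap Γ(X, W) Γ(X', W')).comp (algebraMap Γ(S, V) Γ(X, W))).toAlgebra
  haveI : IsScalarTower Γ(S, V) Γ(Y, U) Γ(X, W) := IsScalarTower.of_algebraMap_eq fun r => by
    show (f ≫ g).appLE V W hWV r = (g.appLE V U hUV ≫ f.appLE U W hWU) r
    rw [Scheme.Hom.appLE_comp_appLE]
  haveI : IsScalarTower Γ(S, V) Γ(Y, U) Γ(Y', U') := IsScalarTower.of_algebraMap_eq fun _ => rfl
  haveI : IsScalarTower Γ(S, V) Γ(S', V') Γ(Y', U') := IsScalarTower.of_algebraMap_eq fun r => by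
    show (g.appLE V U hUV ≫ gY.appLE U U' eU) r = (h.appLE V V' hVV' ≫ g'.appLE V' U' eUV) r
    rw [Scheme.Hom.appLE_comp_appLE, Scheme.Hom.appLE_comp_appLE]
    simp only [hY.w]
  haveI : IsScalarTower Γ(S, V) Γ(X, W) Γ(X', W') := IsScalarTower.of_algebraMap_eq fun _ => rfl
  haveI : IsScalarTower Γ(S, V) Γ(S', V') Γ(X', W') := IsScalarTower.of_algebraMap_eq fun r => by
    show ((f ≫ g).appLE V W hWV ≫ gX.appLE W W' eX) r =
      (h.appLE V V' hVV' ≫ (f' ≫ g').appLE V' W' eWV) r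
    rw [Scheme.Hom.appLE_comp_appLE, Scheme.Hom.appLE_comp_appLE]
    simp only [hX.w]
  haveI : IsScalarTower Γ(S', V') Γ(Y', U') Γ(X', W') := IsScalarTower.of_algebraMap_eq fun r => by
    show (f' ≫ g').appLE V' W' eWV r = (g'.appLE V' U' eUV ≫ f'.appLE U' W' eY) r
    rw [Scheme.Hom.appLE_comp_appLE]
  have hBT : ∀ s : Γ(Y, U), algebraMap Γ(X, W) Γ(X', W') (algebraMap Γ(Y, U) Γ(X, W) s) =
      algebraMap Γ(Y', U') Γ(X', W') (algebraMap Γ(Y, U) Γ(Y', U') s) := fun s => by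
    show (f.appLE U W hWU ≫ gX.appLE W W' eX) s = (gY.appLE U U' eU ≫ f'.appLE U' W' eY) s
    rw [Scheme.Hom.appLE_comp_appLE, Scheme.Hom.appLE_comp_appLE]
    simp only [w]
  haveI := algebra_isPushout_sections hY hVV' hUV (UY := U') rfl hV hV' hU rfl rfl rfl rfl
  haveI := algebra_isPushout_sections hX hVV' hWV (UY := W') rfl hV hV' hW rfl rfl rfl rfl
  letI := secModuleOver (f ≫ g) F V W hWV
  letI := secModuleOver f F U W hWU
  haveI : IsScalarTower Γ(S, V) Γ(X, W) Γ(F, W) := IsScalarTower.of_algebraMap_smul fun _ _ => rfl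
  haveI : IsScalarTower Γ(Y, U) Γ(X, W) Γ(F, W) := IsScalarTower.of_algebraMap_smul fun _ _ => rfl
  haveI : IsScalarTower Γ(S, V) Γ(Y, U) Γ(F, W) := IsScalarTower.of_algebraMap_smul fun r a => by
    show algebraMap Γ(Y, U) Γ(X, W) (algebraMap Γ(S, V) Γ(Y, U) r) • a =
      algebraMap Γ(S, V) Γ(X, W) r • a
    rw [← IsScalarTower.algebraMap_apply]
  haveI : Algebra.FinitePresentation Γ(S, V) Γ(X, W) := (f ≫ g).finitePresentation_appLE hV hW hWV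
  haveI : Algebra.FiniteType Γ(S, V) Γ(Y, U) := g.finiteType_appLE hV hU hUV
  haveI : Module.FinitePresentation Γ(X, W) Γ(F, W) := M1.finitePresentation_sections hfp hW
  let q := (hW.primeIdealOf ⟨gX x', hxW⟩).asIdeal
  let q' := (hW'.primeIdealOf ⟨x', hx'⟩).asIdeal
  have hq : q'.comap (algebraMap Γ(X, W) Γ(X', W')) = q :=
    congr($(IsAffineOpen.comap_primeIdealOf_appLE W hW W' hW' eX hx').1)
  haveI : Module.Flat Γ(S, V) (LocalizedModule q.primeCompl Γ(F, W)) :=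
    (isFlatOverAt_iff (f ≫ g) F V hV W hW hWV hxW).1 hfl
  haveI := (isFlatOverAt_pullback_iff gX F hW hW' eX f' U' hU' eY hx').1 hF
  let eS := Algebra.IsPushout.equiv Γ(S, V) Γ(S', V') Γ(Y, U) Γ(Y', U')
  let eM := (Algebra.IsPushout.cancelBaseChange Γ(S, V) Γ(S', V') Γ(X, W) Γ(X', W') Γ(F, W)).symm
  have hT : Submodule.span Γ(S', V') (Set.range (algebraMap Γ(X, W) Γ(X', W'))) = ⊤ := by
    rw [eq_top_iff]
    intro z _
    obtain ⟨z, rfl⟩ := (Algebra.IsPushout.equiv Γ(S, V) Γ(S', V') Γ(X, W) Γ(X', W')).surjective z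
    induction z using TensorProduct.induction_on with
    | zero => simp
    | tmul a t =>
      rw [Algebra.IsPushout.equiv_tmul, ← Algebra.smul_def]
      exact Submodule.smul_mem _ _ (Submodule.subset_span ⟨t, rfl⟩)
    | add a b ha hb => rw [map_add]; exact Submodule.add_mem _ (ha trivial) (hb trivial)
  have hfib : FibFlat Γ(Y, U) Γ(F, W) ((q.comap (algebraMap Γ(S, V) Γ(X, W))).map
      (algebraMap Γ(S, V) Γ(Y, U))) q := by
    have hd : FibFlat Γ(Y, U) Γ(F, W) (((q'.comap (algebraMap Γ(S', V') Γ(X', W'))).comap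
        (algebraMap Γ(S, V) Γ(S', V'))).map (algebraMap Γ(S, V) Γ(Y, U)))
        (q'.comap (algebraMap Γ(X, W) Γ(X', W'))) := fibFlat_descend (R := Γ(S, V)) (A := Γ(S', V')) (S₀ := Γ(Y, U)) (T₀ := Γ(X, W))
      (M₀ := Γ(F, W)) (S := Γ(Y', U')) (T := Γ(X', W')) (M := Γ(X', W') ⊗[Γ(X, W)] Γ(F, W)) eS
      (algebraMap Γ(X, W) Γ(X', W'))
      (fun s => by rw [hBT, Algebra.IsPushout.equiv_tmul, map_one, one_mul]) hT eM
      (fun t m => by
        simp only [eM]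
        rw [Algebra.IsPushout.cancelBaseChange_symm_tmul,
          Algebra.IsPushout.cancelBaseChange_symm_tmul, map_one, TensorProduct.tmul_smul,
          algebraMap_smul])
      (q'.comap (algebraMap Γ(S', V') Γ(X', W'))) q' rfl
      (fibFlat_of_flat_localized (S := Γ(Y', U')) (T := Γ(X', W'))
        (M := Γ(X', W') ⊗[Γ(X, W)] Γ(F, W)) _ q')
    rw [Ideal.comap_comap, ← IsScalarTower.algebraMap_eq,
      IsScalarTower.algebraMap_eq Γ(S, V) Γ(X, W) Γ(X', W'), ← Ideal.comap_comap, hq] at hd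
    exact @hd
  exact (isFlatOverAt_iff f F U hU W hW hWU hxW).2
    (flat_localized_of_fibFlat_ft (A := Γ(S, V)) (S := Γ(Y, U)) q hfib)

end Groth.Agent.FlatH4
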