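import Groth.Agent.Lib.FlatH4.FlatLocus
import Mathlib.Algebra.Module.FinitePresentation
import Mathlib.RingTheory.MvPolynomial.Basic
import Mathlib.RingTheory.FinitePresentation

/-!
# Openness of the flat locus, finitely presented case
-/

universe u

namespace Groth.Agent.FlatH4

open TensorProduct LinearMap

variable {R : Type u} [CommRing R] {n : ℕ}

local notation "P" => MvPolynomial (Fin n) R

/-- The flat locus of a finitely presented module over a polynomial ring is open. -/
theorem isOpen_flat_localized_mvPolynomial_quotient {m : ℕ} (K : Submodule P (Fin m → P))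
    (hK : K.FG) :
    IsOpen {q : PrimeSpectrum P |
      Module.Flat R (LocalizedModule q.asIdeal.primeCompl ((Fin m → P) ⧸ K))} := by
  classical
  obtain ⟨g, hg⟩ := hK
  let C : Set R := ⋃ v ∈ g, ⋃ i : Fin m, ((v i).coeffs : Set R)
  have hC : C.Finite :=
    g.finite_toSet.biUnion fun v _ => Set.finite_iUnion fun i => (v i).coeffs.finite_toSet
  let R₀ : Subalgebra ℤ R := Algebra.adjoin ℤ C
  haveI : IsNoetherianRing R₀ := isNoetherianRing_of_fg
    (Subalgebra.fg_def.2 ⟨C, hC, rfl⟩)
  let P₀ := MvPolynomial (Fin n) R₀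
  let μ : P₀ →ₐ[R₀] P := MvPolynomial.mapAlgHom (Algebra.ofId R₀ R)
  have hμ : ∀ v : g, ∃ w : Fin m → P₀, ∀ i, μ (w i) = (v : Fin m → P) i := by
    intro v
    have : ∀ i, ∃ w : P₀, μ w = (v : Fin m → P) i := fun i => by
      have h : (v : Fin m → P) i ∈ Set.range (MvPolynomial.map (σ := Fin n) (algebraMap R₀ R)) := by
        rw [MvPolynomial.mem_range_map_iff_coeffs_subset]
        exact fun c hc => ⟨⟨c, Algebra.subset_adjoin (Set.mem_biUnion v.2 (Set.mem_iUnion.2 ⟨i, hc⟩))⟩, rfl⟩
      obtain ⟨w, hw⟩ := h
      exact ⟨w, hw⟩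
    choose w hw using this
    exact ⟨w, hw⟩
  choose w hw using hμ
  let K₀ : Submodule P₀ (Fin m → P₀) := Submodule.span P₀ (Set.range w)
  let M₀ := (Fin m → P₀) ⧸ K₀
  let e : R ⊗[R₀] P₀ ≃ₐ[R] P := MvPolynomial.algebraTensorAlgEquiv R₀ R
  have he : ∀ p : P₀, e.symm (μ p) = (1 : R) ⊗ₜ p := fun p => by
    rw [AlgEquiv.symm_apply_eq, MvPolynomial.algebraTensorAlgEquiv_tmul, one_smul]
    rfl
  letI mT := tensorModule R₀ R P₀ M₀
  haveI tT := tensorModule_isScalarTower R₀ R P₀ M₀
  letI : Module P (R ⊗[R₀] M₀) := Module.compHom _ e.symm.toRingHom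
  haveI : IsScalarTower R P (R ⊗[R₀] M₀) := IsScalarTower.of_algebraMap_smul fun r x => by
    show e.symm (algebraMap R P r) • x = r • x
    rw [AlgEquiv.commutes, algebraMap_smul]
  have hact : ∀ (p : P₀) (x : R ⊗[R₀] M₀), μ p • x = tensorAct R₀ R P₀ M₀ ((1 : R) ⊗ₜ p) x := by
    intro p x
    show e.symm (μ p) • x = _
    rw [he]
    rfl
  let a : (Fin m → P) →ₗ[P] R ⊗[R₀] M₀ := Fintype.linearCombination P
    fun i => (1 : R) ⊗ₜ[R₀] (Submodule.Quotient.mk (Pi.single i 1) : M₀)
  have ha : ∀ v : Fin m → P₀, a (fun i => μ (v i)) = (1 : R) ⊗ₜ[R₀] (Submodule.Quotient.mk v : M₀) := by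
    intro v
    simp only [a, Fintype.linearCombination_apply, hact, tensorAct_tmul, one_mul, ← tmul_sum]
    congr 1
    rw [← Submodule.mkQ_apply]
    conv_rhs => rw [pi_eq_sum_univ' v]
    rw [map_sum]
    simp
  have haK : K ≤ LinearMap.ker a := by
    rw [← hg, Submodule.span_le]
    intro v hv
    rw [SetLike.mem_coe, LinearMap.mem_ker, show v = fun i => μ (w ⟨v, hv⟩ i) from
      funext fun i => (hw ⟨v, hv⟩ i).symm, ha,
      (Submodule.Quotient.mk_eq_zero K₀).2 (Submodule.subset_span ⟨_, rfl⟩), tmul_zero]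
  let a' : ((Fin m → P) ⧸ K) →ₗ[P] R ⊗[R₀] M₀ := K.liftQ a haK
  let b₁ : M₀ →ₗ[R₀] (Fin m → P) ⧸ K :=
    ((K₀.restrictScalars R₀).liftQ ((K.mkQ.restrictScalars R₀).comp
      (LinearMap.pi fun i => μ.toLinearMap.comp (LinearMap.proj i))) (by
      intro v hv
      rw [LinearMap.mem_ker, LinearMap.comp_apply, LinearMap.restrictScalars_apply,
        Submodule.mkQ_apply, Submodule.Quotient.mk_eq_zero]
      show (fun i => μ (v i)) ∈ K
      induction hv using Submodule.span_induction with
      | mem x hx =>
        obtain ⟨y, rfl⟩ := hx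
        rw [show (fun i => μ (w y i)) = (y : Fin m → P) from funext (hw y)]
        exact hg.le (Submodule.subset_span y.2)
      | zero => simp only [Pi.zero_apply, map_zero]; exact zero_mem _
      | add x y _ _ hx hy => simp only [Pi.add_apply, map_add]; exact add_mem hx hy
      | smul c x _ hx =>
        simp only [Pi.smul_apply, smul_eq_mul, map_mul]
        exact Submodule.smul_mem K (μ c) hx)).comp
      (Submodule.Quotient.restrictScalarsEquiv R₀ K₀).symm.toLinearMap
  have hb₁ : ∀ v : Fin m → P₀, b₁ (Submodule.Quotient.mk v) = Submodule.Quotient.mk (fun i => μ (v i)) :=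
    fun v => rfl
  let b : R ⊗[R₀] M₀ →ₗ[R] (Fin m → P) ⧸ K := b₁.liftBaseChange R
  have hab : ∀ x, a' (b x) = x := by
    intro x
    induction x using TensorProduct.induction_on with
    | zero => simp
    | add x y hx hy => simp only [map_add, hx, hy]
    | tmul r v =>
      obtain ⟨v, rfl⟩ := Submodule.Quotient.mk_surjective _ v
      rw [LinearMap.liftBaseChange_tmul, hb₁, LinearMap.map_smul_of_tower]
      show r • a _ = _
      rw [ha, TensorProduct.smul_tmul', smul_eq_mul, mul_one]
  have hba : ∀ x, b (a' x) = x := by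
    intro x
    obtain ⟨v, rfl⟩ := Submodule.Quotient.mk_surjective _ x
    have hv : v = ∑ i, v i • Pi.single (M := fun _ : Fin m => P) i 1 := pi_eq_sum_univ' v
    rw [hv]
    simp only [← Submodule.mkQ_apply, map_sum]
    refine Finset.sum_congr rfl fun i _ => ?_
    show b (a (v i • Pi.single i 1)) = _
    rw [show a (v i • Pi.single i 1) = v i • ((1 : R) ⊗ₜ[R₀] (Submodule.Quotient.mk (Pi.single i 1) : M₀)) from by
      rw [map_smul]; simp [a, Fintype.linearCombination_apply_single]]
    generalize v i = q
    induction q using MvPolynomial.induction_on' with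
    | monomial d r =>
      rw [show MvPolynomial.monomial d r = r • μ (MvPolynomial.monomial d 1) from by
          show _ = r • MvPolynomial.map (algebraMap R₀ R) (MvPolynomial.monomial d 1)
          simp [MvPolynomial.smul_monomial],
        smul_assoc, hact, tensorAct_tmul, one_mul, map_smul, LinearMap.liftBaseChange_tmul, one_smul,
        ← Submodule.Quotient.mk_smul, hb₁, smul_assoc, map_smul_of_tower]
      congr 1
      rw [Submodule.mkQ_apply]
      congr 1
      funext j
      by_cases hj : j = i
      · subst hj; simp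
      · simp [hj]
    | add p q hp hq => simp only [add_smul, map_add, hp, hq]
  let Φ : ((Fin m → P) ⧸ K) ≃ₗ[P] R ⊗[R₀] M₀ :=
    { a' with invFun := b, left_inv := hba, right_inv := hab }
  have hopen := isOpen_flat_localized_tensor (R := R₀) (F := Fin m → P₀) K₀.mkQ K₀.mkQ_surjective R
  have : {q : PrimeSpectrum P | Module.Flat R (LocalizedModule q.asIdeal.primeCompl ((Fin m → P) ⧸ K))} =
      PrimeSpectrum.comap e.toRingHom ⁻¹' {q : PrimeSpectrum (R ⊗[R₀] P₀) |
        Module.Flat R (LocalizedModule q.asIdeal.primeCompl (R ⊗[R₀] M₀))} := by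
    ext q
    let q' := PrimeSpectrum.comap e.toRingHom q
    have hq : q = PrimeSpectrum.comap e.symm.toRingHom q' := by
      ext x
      simp [q']
    have key := flat_localized_comap_iff (M := R ⊗[R₀] M₀) e.symm.toAlgHom e.symm.surjective
      q'.asIdeal (fun _ _ => rfl)
    show _ ↔ Module.Flat R (LocalizedModule q'.asIdeal.primeCompl (R ⊗[R₀] M₀))
    rw [← key]
    conv_lhs => rw [hq]
    exact flat_localized_congr _ Φ
  rw [this]
  exact hopen.preimage (PrimeSpectrum.continuous_comap _)

/-- The flat locus of a finitely presented module over a finitely presented algebra is open. -/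
theorem isOpen_flat_localized {R S : Type u} [CommRing R] [CommRing S] [Algebra R S]
    [Algebra.FinitePresentation R S] {M : Type u} [AddCommGroup M] [Module S M] [Module R M]
    [IsScalarTower R S M] [Module.FinitePresentation S M] :
    IsOpen {q : PrimeSpectrum S | Module.Flat R (LocalizedModule q.asIdeal.primeCompl M)} := by
  obtain ⟨n, φ, hφ, hker⟩ := Algebra.FinitePresentation.out (R := R) (A := S)
  letI : Algebra (MvPolynomial (Fin n) R) S := φ.toRingHom.toAlgebra
  letI : Module (MvPolynomial (Fin n) R) M := Module.compHom M φ.toRingHom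
  haveI : IsScalarTower (MvPolynomial (Fin n) R) S M :=
    IsScalarTower.of_algebraMap_smul fun _ _ => rfl
  haveI : IsScalarTower R (MvPolynomial (Fin n) R) M :=
    IsScalarTower.of_algebraMap_smul fun r x => by
      show φ (algebraMap R _ r) • x = r • x
      rw [AlgHom.commutes, algebraMap_smul]
  haveI : Module.FinitePresentation (MvPolynomial (Fin n) R) S :=
    Module.finitePresentation_of_surjective (Algebra.linearMap _ S) hφ
      (by exact hker)
  haveI : Module.FinitePresentation (MvPolynomial (Fin n) R) M :=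
    Module.FinitePresentation.trans (MvPolynomial (Fin n) R) M S
  obtain ⟨m, K, eM, hK⟩ := Module.FinitePresentation.exists_fin (MvPolynomial (Fin n) R) M
  have : {q : PrimeSpectrum S | Module.Flat R (LocalizedModule q.asIdeal.primeCompl M)} =
      PrimeSpectrum.comap φ.toRingHom ⁻¹' {q : PrimeSpectrum (MvPolynomial (Fin n) R) |
        Module.Flat R (LocalizedModule q.asIdeal.primeCompl ((Fin m → MvPolynomial (Fin n) R) ⧸ K))} := by
    ext q
    have key := flat_localized_comap_iff (M := M) φ hφ q.asIdeal (fun _ _ => rfl)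
    refine key.symm.trans ?_
    show _ ↔ Module.Flat R (LocalizedModule (q.asIdeal.comap φ).primeCompl _)
    exact flat_localized_congr _ eM
  rw [this]
  exact (isOpen_flat_localized_mvPolynomial_quotient K hK).preimage
    (PrimeSpectrum.continuous_comap _)

end Groth.Agent.FlatH4
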