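import Groth.Agent.Lib.FlatH4.ModFlatAt
import Groth.Agent.Lib.ModM1.Pull
import Groth.Agent.Lib.TensorMod.PullStalk
import Mathlib.AlgebraicGeometry.Morphisms.Flat
import Mathlib.RingTheory.Localization.BaseChange

/-!
# Affine charts of fibre products and pullback modules
-/

universe u

open AlgebraicGeometry CategoryTheory Limits TensorProduct

namespace Groth.Agent.FlatH4

/-- A module flat at `q` is fibrewise flat at `q`. -/
theorem fibFlat_of_flat_localized {S T M : Type u} [CommRing S] [CommRing T] [Algebra S T]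
    [AddCommGroup M] [Module S M] [Module T M] [IsScalarTower S T M] (P : Ideal S) (q : Ideal T)
    [q.IsPrime] [Module.Flat S (LocalizedModule q.primeCompl M)] : FibFlat S M P q := by
  intro N N' _ _ _ _ hN hN' f hf x hx
  let g := LocalizedModule.mkLinearMap q.primeCompl M
  let g₁ := AlgebraTensorModule.rTensor S N g
  have h1 : g₁ x = 0 := by
    apply Module.Flat.lTensor_preserves_injective_linearMap (M := LocalizedModule q.primeCompl M) f hf
    show f.lTensor _ ((g.restrictScalars S).rTensor N x) = f.lTensor _ 0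
    rw [← LinearMap.comp_apply, LinearMap.lTensor_comp_rTensor, ← LinearMap.rTensor_comp_lTensor,
      LinearMap.comp_apply, hx, map_zero, map_zero]
  obtain ⟨t, ht⟩ := (IsLocalizedModule.eq_zero_iff q.primeCompl g₁).1 h1
  exact ⟨t, t.2, ht⟩

section Chart

variable {X Y S T : Scheme.{u}} {f : T ⟶ S} {g : Y ⟶ X} {iX : X ⟶ S} {iY : Y ⟶ T}
  (H : IsPullback g iY iX f)
  {US : S.Opens} {UT : T.Opens}
  {UX : X.Opens} (hUST : UT ≤ f ⁻¹ᵁ US) (hUSX : UX ≤ iX ⁻¹ᵁ US)
  {UY : Y.Opens} (hUY : UY = g ⁻¹ᵁ UX ⊓ iY ⁻¹ᵁ UT)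
  (hUS : IsAffineOpen US) (hUT : IsAffineOpen UT) (hUX : IsAffineOpen UX)

include H hUST hUSX hUY hUS hUT hUX

theorem isAffineOpen_of_isPullback : IsAffineOpen UY := by
  haveI : IsAffine _ := hUS
  haveI : IsAffine _ := hUT
  haveI : IsAffine _ := hUX
  exact .of_isIso (Scheme.Hom.isPullback_resLE H hUST hUSX hUY).isoPullback.hom

theorem isPushout_sections : IsPushout (iX.appLE US UX hUSX) (f.appLE US UT hUST)
    (g.appLE UX UY (by simp [*])) (iY.appLE UT UY (by simp [*])) :=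
  (isIso_pushoutSection_iff H hUST hUSX hUY).1 (isIso_pushoutSection_of_isAffineOpen H hUST hUSX hUY hUS hUT hUX)

end Chart

section PullModule

variable {X X' : Scheme.{u}} (gX : X' ⟶ X) (F : X.Modules) [Coh.IsQCoh F] {W : X.Opens}
  (hW : IsAffineOpen W) {W' : X'.Opens} (hW' : IsAffineOpen W') (e : W' ≤ gX ⁻¹ᵁ W)

include hW

/-- The stalk of the pullback as a localisation of the base change of the sections. -/
theorem exists_isLocalizedModule_pullback {x' : X'} (hx' : x' ∈ W') :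
    letI := (gX.appLE W W' e).hom.toAlgebra
    letI := M1.stalkModule ((Scheme.Modules.pullback gX).obj F) hx'
    ∃ g : Γ(X', W') ⊗[Γ(X, W)] Γ(F, W) →ₗ[Γ(X', W')]
        (((Scheme.Modules.pullback gX).obj F).presheaf.stalk x' : Type u),
      IsLocalizedModule (hW'.primeIdealOf ⟨x', hx'⟩).asIdeal.primeCompl g := by
  letI := (gX.appLE W W' e).hom.toAlgebra
  let F' := (Scheme.Modules.pullback gX).obj F
  letI := M1.stalkModule F' hx'
  let q' := (hW'.primeIdealOf ⟨x', hx'⟩).asIdeal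
  have hxW : gX x' ∈ W := e hx'
  letI : Algebra Γ(X', W') (X'.presheaf.stalk x') := X'.presheaf.algebra_section_stalk ⟨x', hx'⟩
  haveI : IsLocalization.AtPrime (X'.presheaf.stalk x') q' := hW'.isLocalization_stalk ⟨x', hx'⟩
  letI : Algebra Γ(X, W) (X.presheaf.stalk (gX x')) := X.presheaf.algebra_section_stalk ⟨gX x', hxW⟩
  haveI : IsLocalization.AtPrime (X.presheaf.stalk (gX x')) (hW.primeIdealOf ⟨gX x', hxW⟩).asIdeal :=
    hW.isLocalization_stalk ⟨gX x', hxW⟩
  letI := M1.stalkModule F hxW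
  haveI : IsScalarTower Γ(X, W) (X.presheaf.stalk (gX x')) (F.presheaf.stalk (gX x') : Type u) :=
    IsScalarTower.of_algebraMap_smul fun _ _ => rfl
  haveI := M1.isLocalizedModule_germ F hW hxW
  have h1 : IsBaseChange (X.presheaf.stalk (gX x')) (M1.germₗ F hxW) :=
    IsLocalizedModule.isBaseChange (hW.primeIdealOf ⟨gX x', hxW⟩).asIdeal.primeCompl _ _
  letI : Algebra Γ(X, W) (X'.presheaf.stalk x') :=
    ((algebraMap Γ(X', W') (X'.presheaf.stalk x')).comp (algebraMap Γ(X, W) Γ(X', W'))).toAlgebra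
  haveI : IsScalarTower Γ(X, W) Γ(X', W') (X'.presheaf.stalk x') :=
    IsScalarTower.of_algebraMap_eq fun _ => rfl
  have hgerm : ∀ r : Γ(X, W), X'.presheaf.germ W' x' hx' (gX.appLE W W' e r) =
      gX.stalkMap x' (X.presheaf.germ W (gX x') hxW r) := fun r => by
    rw [Scheme.Hom.germ_stalkMap_apply]
    exact X'.presheaf.germ_res_apply (homOfLE e) x' hx' _
  haveI : IsScalarTower Γ(X, W) (X.presheaf.stalk (gX x')) (X'.presheaf.stalk x') :=
    IsScalarTower.of_algebraMap_eq hgerm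
  letI : Module Γ(X, W) (F'.presheaf.stalk x' : Type u) :=
    Module.compHom _ (algebraMap Γ(X, W) Γ(X', W'))
  haveI : IsScalarTower Γ(X, W) Γ(X', W') (F'.presheaf.stalk x' : Type u) :=
    IsScalarTower.of_algebraMap_smul fun _ _ => rfl
  haveI : IsScalarTower Γ(X', W') (X'.presheaf.stalk x') (F'.presheaf.stalk x' : Type u) :=
    IsScalarTower.of_algebraMap_smul fun _ _ => rfl
  haveI : IsScalarTower Γ(X, W) (X'.presheaf.stalk x') (F'.presheaf.stalk x' : Type u) :=
    IsScalarTower.of_algebraMap_smul fun _ _ => rfl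
  haveI : IsScalarTower Γ(X, W) (X.presheaf.stalk (gX x')) (F'.presheaf.stalk x' : Type u) :=
    IsScalarTower.of_algebraMap_smul fun r a => by
      show gX.stalkMap x' (X.presheaf.germ W (gX x') hxW r) • a = X'.presheaf.germ W' x' hx' (gX.appLE W W' e r) • a
      rw [hgerm]
  let ι : Γ(F, W) →ₗ[Γ(X, W)] (F'.presheaf.stalk x' : Type u) :=
    ((M2.stalkUnit gX x' F).restrictScalars Γ(X, W)).comp (M1.germₗ F hxW)
  have h2 : IsBaseChange (X'.presheaf.stalk x') ι := h1.comp (M2.isBaseChange_stalkUnit gX x' F)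
  refine ⟨ι.liftBaseChange Γ(X', W'), (isLocalizedModule_iff_isBaseChange q'.primeCompl
    (X'.presheaf.stalk x') _).2 ?_⟩
  have h0 : IsBaseChange Γ(X', W') (TensorProduct.mk Γ(X, W) Γ(X', W') Γ(F, W) 1) :=
    TensorProduct.isBaseChange _ _ _
  have hι : ((ι.liftBaseChange Γ(X', W')).restrictScalars Γ(X, W)) ∘ₗ
      (TensorProduct.mk Γ(X, W) Γ(X', W') Γ(F, W) 1) = ι := by
    ext m
    simp
  refine IsBaseChange.of_comp (T := X'.presheaf.stalk x') (O := (F'.presheaf.stalk x' : Type u))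
    (h := ι.liftBaseChange Γ(X', W')) h0 ?_
  rw [hι]
  exact h2

/-- Flatness of a pullback module at a point in affine charts. -/
theorem isFlatOverAt_pullback_iff {Y' : Scheme.{u}} (f' : X' ⟶ Y') (U' : Y'.Opens) (hU' : IsAffineOpen U')
    (e' : W' ≤ f' ⁻¹ᵁ U') {x' : X'} (hx' : x' ∈ W') :
    letI := (gX.appLE W W' e).hom.toAlgebra
    letI := (f'.appLE U' W' e').hom.toAlgebra
    FlatMod.IsFlatOverAt f' ((Scheme.Modules.pullback gX).obj F) x' ↔
      Module.Flat Γ(Y', U') (LocalizedModule (hW'.primeIdealOf ⟨x', hx'⟩).asIdeal.primeCompl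
        (Γ(X', W') ⊗[Γ(X, W)] Γ(F, W))) := by
  letI := (gX.appLE W W' e).hom.toAlgebra
  letI := (f'.appLE U' W' e').hom.toAlgebra
  let F' := (Scheme.Modules.pullback gX).obj F
  haveI : Coh.IsQCoh F' := M1.isQCoh_pullback gX inferInstance
  letI := secModuleOver f' F' U' W' e'
  haveI : IsScalarTower Γ(Y', U') Γ(X', W') Γ(F', W') := IsScalarTower.of_algebraMap_smul fun _ _ => rfl
  letI := M1.stalkModule F' hx'
  haveI := M1.isLocalizedModule_germ F' hW' hx'
  obtain ⟨g, hg⟩ := exists_isLocalizedModule_pullback gX F hW hW' e hx'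
  let eq := ((IsLocalizedModule.iso (hW'.primeIdealOf ⟨x', hx'⟩).asIdeal.primeCompl g).trans
    (IsLocalizedModule.iso (hW'.primeIdealOf ⟨x', hx'⟩).asIdeal.primeCompl
      (M1.germₗ F' hx')).symm).restrictScalars Γ(Y', U')
  rw [isFlatOverAt_iff f' F' U' hU' W' hW' e' hx']
  exact ⟨fun _ => Module.Flat.of_linearEquiv eq, fun _ => Module.Flat.of_linearEquiv eq.symm⟩

end PullModule

end Groth.Agent.FlatH4
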