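import Groth.Agent.Lib.FlatH4.FibreCritFT
import Groth.Agent.Lib.FlatH4.LocCrit
import Mathlib.RingTheory.Flat.FaithfullyFlat.Basic

/-!
# Consequences of the fibrewise criterion of flatness
-/

universe u

namespace Groth.Agent.FlatH4

open TensorProduct LinearMap

variable {A S T M : Type u} [CommRing A] [CommRing S] [CommRing T] [Algebra A S] [Algebra A T]
  [AddCommGroup M] [Module S M] [Module T M] [SMulCommClass S T M]

omit [Algebra A T] in
/-- Flatness of `M / P M` over `S / P` gives `FibFlat` everywhere. -/
theorem fibFlat_of_flat_mod (P : Ideal S) (h : Module.Flat (S ⧸ P) ((S ⧸ P) ⊗[S] M)) (q : Ideal T)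
    [q.IsPrime] : FibFlat S M P q := by
  intro N N' _ _ _ _ hN hN' g hg x hx
  refine ⟨1, fun h1 => Ideal.IsPrime.ne_top' ((Ideal.eq_top_iff_one q).2 h1), ?_⟩
  rw [one_smul]
  exact lTensor_injective_of_flat_mod P h hN hN' g hg (hx.trans (map_zero _).symm)

/-- A flat module keeps injections of modules over the algebra injective. -/
theorem lTensor_injective_of_flat_baseChange {C : Type u} [CommRing C] [Algebra S C]
    (hflat : Module.Flat C (C ⊗[S] M)) {X X' : Type u} [AddCommGroup X] [Module S X] [Module C X]
    [IsScalarTower S C X] [AddCommGroup X'] [Module S X'] [Module C X'] [IsScalarTower S C X']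
    (g : X →ₗ[C] X') (hg : Function.Injective g) :
    Function.Injective ((g.restrictScalars S).lTensor M) := by
  have h1 : Function.Injective (g.rTensor (C ⊗[S] M)) :=
    Module.Flat.rTensor_preserves_injective_linearMap g hg
  let e := AlgebraTensorModule.cancelBaseChange S C C X M
  let e' := AlgebraTensorModule.cancelBaseChange S C C X' M
  have h2 : Function.Injective ((g.restrictScalars S).rTensor M) := by
    intro x y hxy
    obtain ⟨x, rfl⟩ := e.surjective x
    obtain ⟨y, rfl⟩ := e.surjective y
    have key : ∀ z, (g.restrictScalars S).rTensor M (e z) = e' (g.rTensor _ z) := by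
      intro z
      induction z using TensorProduct.induction_on with
      | zero => simp
      | tmul a w =>
        induction w using TensorProduct.induction_on with
        | zero => simp
        | tmul c m => simp [e, e']
        | add a b ha hb => simp only [TensorProduct.tmul_add, map_add, ha, hb]
      | add a b ha hb => simp only [map_add, ha, hb]
    rw [key, key] at hxy
    rw [h1 (e'.injective hxy)]
  intro x y hxy
  apply (TensorProduct.comm S M X).injective
  apply h2
  have key : ∀ z, (g.restrictScalars S).rTensor M (TensorProduct.comm S M X z) =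
      TensorProduct.comm S M X' ((g.restrictScalars S).lTensor M z) := by
    intro z
    induction z using TensorProduct.induction_on with
    | zero => simp
    | tmul a b => simp
    | add a b ha hb => simp only [map_add, ha, hb]
  rw [key, key, hxy]

/-- Flatness of the fibre gives `FibFlat` at the primes over `p`. -/
theorem fibFlat_of_flat_fibre [Module A M] [IsScalarTower A S M] [IsScalarTower A T M] (p : Ideal A)
    [p.IsPrime] (h : Module.Flat (S ⊗[A] p.ResidueField) ((S ⊗[A] p.ResidueField) ⊗[S] M))
    (q : Ideal T) [q.IsPrime] (hqp : q.comap (algebraMap A T) ≤ p) :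
    FibFlat S M (p.map (algebraMap A S)) q := by
  intro N N' _ _ _ _ hN hN' g hg x hx
  let k := p.ResidueField
  letI : Module A N := Module.compHom N (algebraMap A S)
  letI : Module A N' := Module.compHom N' (algebraMap A S)
  haveI : IsScalarTower A S N := IsScalarTower.of_algebraMap_smul fun _ _ => rfl
  haveI : IsScalarTower A S N' := IsScalarTower.of_algebraMap_smul fun _ _ => rfl
  have hker : RingHom.ker (algebraMap A k) = p := Ideal.ker_algebraMap_residueField p
  have hNA : Module.IsTorsionBySet A N (RingHom.ker (algebraMap A k) : Set A) := fun n r => by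
    obtain ⟨r, hr⟩ := r
    rw [hker] at hr
    exact @hN n ⟨_, Ideal.mem_map_of_mem (algebraMap A S) hr⟩
  have hNA' : Module.IsTorsionBySet A N' (RingHom.ker (algebraMap A k) : Set A) := fun n r => by
    obtain ⟨r, hr⟩ := r
    rw [hker] at hr
    exact @hN' n ⟨_, Ideal.mem_map_of_mem (algebraMap A S) hr⟩
  let σ : S ⊗[A] k →ₐ[A] k ⊗[A] S := (Algebra.TensorProduct.comm A S k).toAlgHom
  letI : Module (S ⊗[A] k) (k ⊗[A] N) :=
    Module.compHom _ ((tensorAct A k S N).toRingHom.comp σ.toRingHom)
  letI : Module (S ⊗[A] k) (k ⊗[A] N') :=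
    Module.compHom _ ((tensorAct A k S N').toRingHom.comp σ.toRingHom)
  letI : Module S (k ⊗[A] N) := Module.compHom _ (algebraMap S (S ⊗[A] k))
  letI : Module S (k ⊗[A] N') := Module.compHom _ (algebraMap S (S ⊗[A] k))
  haveI : IsScalarTower S (S ⊗[A] k) (k ⊗[A] N) := IsScalarTower.of_algebraMap_smul fun _ _ => rfl
  haveI : IsScalarTower S (S ⊗[A] k) (k ⊗[A] N') := IsScalarTower.of_algebraMap_smul fun _ _ => rfl
  have hs : ∀ (s : S) (c : k) (n : N), s • (c ⊗ₜ[A] n) = c ⊗ₜ[A] (s • n) := fun s c n => by
    show tensorAct A k S N (σ (algebraMap S (S ⊗[A] k) s)) (c ⊗ₜ n) = _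
    rw [Algebra.TensorProduct.algebraMap_apply, Algebra.algebraMap_self_apply,
      show σ (s ⊗ₜ (1 : k)) = (1 : k) ⊗ₜ s from Algebra.TensorProduct.comm_tmul _ _ _,
      tensorAct_tmul, one_mul]
  let gk : k ⊗[A] N →ₗ[S ⊗[A] k] k ⊗[A] N' :=
    { (g.restrictScalars A).baseChange k with
      map_smul' := fun s y => tensorAct_natural (R := A) k g (σ s) y }
  have hgk : Function.Injective gk := baseChange_field_injective hNA hNA' (g.restrictScalars A) hg
  let j : M ⊗[S] N →+ M ⊗[S] (k ⊗[A] N) := TensorProduct.liftAddHom
    (AddMonoidHom.mk' (fun m => AddMonoidHom.mk' (fun n => m ⊗ₜ[S] ((1 : k) ⊗ₜ[A] n))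
      fun a b => by rw [TensorProduct.tmul_add, TensorProduct.tmul_add]) fun a b => by
      ext n; simp [TensorProduct.add_tmul])
    (fun s m n => by
      show (s • m) ⊗ₜ[S] ((1 : k) ⊗ₜ[A] n) = m ⊗ₜ[S] ((1 : k) ⊗ₜ[A] (s • n))
      rw [TensorProduct.smul_tmul, hs])
  have hjx : (gk.restrictScalars S).lTensor M (j x) = 0 := by
    have key : ∀ z, (gk.restrictScalars S).lTensor M (j z) = TensorProduct.liftAddHom
        (AddMonoidHom.mk' (fun m => AddMonoidHom.mk' (fun n => m ⊗ₜ[S] ((1 : k) ⊗ₜ[A] n))
          fun a b => by rw [TensorProduct.tmul_add, TensorProduct.tmul_add]) fun a b => by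
          ext n; simp [TensorProduct.add_tmul])
        (fun s m (n : N') => by
          show (s • m) ⊗ₜ[S] ((1 : k) ⊗ₜ[A] n) = m ⊗ₜ[S] ((1 : k) ⊗ₜ[A] (s • n))
          rw [TensorProduct.smul_tmul]
          congr 1
          show tensorAct A k S N' (σ (algebraMap S (S ⊗[A] k) s)) (1 ⊗ₜ n) = _
          rw [Algebra.TensorProduct.algebraMap_apply, Algebra.algebraMap_self_apply,
            show σ (s ⊗ₜ (1 : k)) = (1 : k) ⊗ₜ s from Algebra.TensorProduct.comm_tmul _ _ _,
            tensorAct_tmul, one_mul]) (g.lTensor M z) := by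
      intro z
      induction z using TensorProduct.induction_on with
      | zero => simp
      | tmul m n => rfl
      | add a b ha hb => simp only [map_add, ha, hb]
    rw [key, hx, map_zero]
  have h0 : j x = 0 := lTensor_injective_of_flat_baseChange h gk hgk (hjx.trans (map_zero _).symm)
  let gM : M →ₗ[A] N →ₗ[A] M ⊗[S] N := (TensorProduct.mk S M N).restrictScalars₁₂ A A
  let β : M →ₗ[A] k ⊗[A] N →ₗ[A] k ⊗[A] (M ⊗[S] N) := (LinearMap.lTensorHom k).comp gM
  let τ : M ⊗[S] (k ⊗[A] N) →+ k ⊗[A] (M ⊗[S] N) := TensorProduct.liftAddHom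
    (AddMonoidHom.mk' (fun m => (β m).toAddMonoidHom) fun a b => by ext n; simp)
    (fun s m y => by
      show β (s • m) y = β m (s • y)
      induction y using TensorProduct.induction_on with
      | zero => simp
      | add a b ha hb => simp only [map_add, smul_add, ha, hb]
      | tmul c n =>
        rw [hs]
        show c ⊗ₜ[A] ((s • m) ⊗ₜ[S] n) = c ⊗ₜ[A] (m ⊗ₜ[S] (s • n))
        rw [TensorProduct.smul_tmul])
  have hτ : τ (j x) = (1 : k) ⊗ₜ x := by
    clear hjx h0 hx
    induction x using TensorProduct.induction_on with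
    | zero => simp
    | add a b ha hb => simp only [map_add, TensorProduct.tmul_add, ha, hb]
    | tmul m n => rfl
  rw [h0, map_zero] at hτ
  by_contra hne
  push Not at hne
  have hann : ∀ a : A, a • x = 0 → a ∈ p := by
    intro a ha
    refine hqp ?_
    by_contra haq
    refine hne (algebraMap A T a) haq ?_
    rw [algebraMap_smul, ha]
  let u : A →ₗ[A] M ⊗[S] N := LinearMap.toSpanSingleton A _ x
  have hW : Module.IsTorsionBySet A (M ⊗[S] N) (RingHom.ker (algebraMap A k) : Set A) := fun w r => by
    induction w using TensorProduct.induction_on with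
    | zero => exact smul_zero _
    | tmul m n =>
      show ((r : A) • (m ⊗ₜ[S] n)) = 0
      rw [← algebraMap_smul S (r : A), ← TensorProduct.tmul_smul, algebraMap_smul, @hNA n r,
        TensorProduct.tmul_zero]
    | add a b ha hb => rw [smul_add, ha, hb, add_zero]
  let ū : A ⧸ RingHom.ker (algebraMap A k) →ₗ[A] M ⊗[S] N :=
    Submodule.liftQ _ u fun r hr => by
      rw [LinearMap.mem_ker]
      exact @hW x ⟨r, hr⟩
  have hū : Function.Injective ū := by
    rw [← LinearMap.ker_eq_bot, Submodule.ker_liftQ_eq_bot]
    intro r hr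
    rw [hker]
    exact hann r hr
  have hq : Module.IsTorsionBySet A (A ⧸ RingHom.ker (algebraMap A k))
      (RingHom.ker (algebraMap A k) : Set A) := fun w r => by
    obtain ⟨w, rfl⟩ := Submodule.Quotient.mk_surjective _ w
    rw [← Submodule.Quotient.mk_smul, Submodule.Quotient.mk_eq_zero]
    exact Ideal.mul_mem_right _ _ r.2
  have h1 : (1 : k) ⊗ₜ[A] (Submodule.Quotient.mk (1 : A) : A ⧸ RingHom.ker (algebraMap A k)) = 0 := by
    apply baseChange_field_injective hq hW ū hū
    rw [map_zero, LinearMap.baseChange_tmul, Submodule.liftQ_apply]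
    show (1 : k) ⊗ₜ[A] ((1 : A) • x) = 0
    rw [one_smul]
    exact hτ.symm
  let v : k ⊗[A] (A ⧸ RingHom.ker (algebraMap A k)) →ₗ[k] k :=
    (Submodule.liftQ _ (Algebra.linearMap A k) le_rfl : _ →ₗ[A] k).liftBaseChange k
  have := congrArg v h1
  have h2 : v ((1 : k) ⊗ₜ[A] (Submodule.Quotient.mk (1 : A) : A ⧸ RingHom.ker (algebraMap A k))) =
      (1 : k) • algebraMap A k (1 : A) := rfl
  rw [h2, map_zero, map_one, one_smul] at this
  exact one_ne_zero this

omit [SMulCommClass S T M] in
/-- If `M` is flat over `A` and over `S` and nonzero at a prime over `r`, then so is `S`. -/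
theorem flat_localization_of_flat_localized [Algebra S T] [IsScalarTower A S T] [Module A M]
    [IsScalarTower A S M] [IsScalarTower S T M] [IsScalarTower A T M] [Module.Finite T M] (q : Ideal T)
    [q.IsPrime] (r : Ideal S) [r.IsPrime] (hr : q.comap (algebraMap S T) = r)
    [Module.Flat A (LocalizedModule q.primeCompl M)] [Module.Flat S (LocalizedModule q.primeCompl M)]
    [Nontrivial (LocalizedModule q.primeCompl M)] :
    Module.Flat A (Localization.AtPrime r) := by
  haveI : q.LiesOver r := ⟨hr.symm⟩
  letI := Localization.AtPrime.algebraOfLiesOver r q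
  let S' := Localization.AtPrime r
  let T' := Localization.AtPrime q
  let M' := LocalizedModule q.primeCompl M
  letI : Module S' M' := Module.compHom M' (algebraMap S' T')
  haveI : IsScalarTower S' T' M' := IsScalarTower.of_algebraMap_smul fun _ _ => rfl
  haveI : IsScalarTower S S' M' := IsScalarTower.of_algebraMap_smul fun s x => by
    show algebraMap S' T' (algebraMap S S' s) • x = s • x
    rw [← IsScalarTower.algebraMap_apply S S' T', algebraMap_smul]
  haveI : IsScalarTower A S' M' := IsScalarTower.of_algebraMap_smul fun a x => by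
    rw [IsScalarTower.algebraMap_apply A S S', algebraMap_smul, algebraMap_smul]
  haveI : Module.Finite T' M' := Module.Finite.of_isLocalizedModule q.primeCompl (LocalizedModule.mkLinearMap q.primeCompl M)
  haveI : Module.Flat S' M' := (Module.flat_iff_of_isLocalization S' r.primeCompl M').2 inferInstance
  have : Module.FaithfullyFlat S' M' := by
    refine ⟨fun {m} hm htop => ?_⟩
    rw [IsLocalRing.eq_maximalIdeal hm] at htop
    have hle : (IsLocalRing.maximalIdeal S').map (algebraMap S' T') ≤ IsLocalRing.maximalIdeal T' :=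
      ((IsLocalRing.local_hom_TFAE (algebraMap S' T')).out 0 2).1
        (inferInstance : IsLocalHom (algebraMap S' T'))
    have h' : (⊤ : Submodule T' M') ≤
        (IsLocalRing.maximalIdeal S').map (algebraMap S' T') • (⊤ : Submodule T' M') := by
      intro x _
      have hx : x ∈ (IsLocalRing.maximalIdeal S') • (⊤ : Submodule S' M') := by rw [htop]; trivial
      refine Submodule.smul_induction_on hx (fun r hr n _ => ?_) fun a b ha hb => add_mem ha hb
      rw [← algebraMap_smul T' r n]
      exact Submodule.smul_mem_smul (Ideal.mem_map_of_mem _ hr) trivial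
    exact top_ne_bot (Submodule.eq_bot_of_le_smul_of_le_jacobson_bot _ (⊤ : Submodule T' M')
      Module.Finite.fg_top h' (by rw [IsLocalRing.jacobson_eq_maximalIdeal ⊥ bot_ne_top]; exact hle))
  refine Module.Flat.iff_rTensor_preserves_injective_linearMap.2 fun N N' _ _ _ _ f hf => ?_
  rw [← LinearMap.lTensor_inj_iff_rTensor_inj]
  refine (Module.FaithfullyFlat.lTensor_injective_iff_injective S' M' (f.baseChange S')).1 ?_
  let e := AlgebraTensorModule.cancelBaseChange A S' S' M' N
  let e' := AlgebraTensorModule.cancelBaseChange A S' S' M' N'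
  have key : ∀ x, f.lTensor M' (e x) = e' ((f.baseChange S').lTensor M' x) := by
    intro x
    induction x using TensorProduct.induction_on with
    | zero => simp
    | tmul m y =>
      induction y using TensorProduct.induction_on with
      | zero => simp
      | tmul s n => simp [e, e']
      | add a b ha hb => simp only [TensorProduct.tmul_add, map_add, ha, hb]
    | add a b ha hb => simp only [map_add, ha, hb]
  intro x y hxy
  apply e.injective
  apply Module.Flat.lTensor_preserves_injective_linearMap (M := M') f hf
  rw [key, key, hxy]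

end Groth.Agent.FlatH4
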