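import Groth.Agent.Lib.FlatH4.FlatLocusScheme
import Groth.Agent.Lib.FlatH4.FibreCritApps
import Groth.Agent.Lib.ModM1.Stalk

/-!
# Flatness of a module at a point, in affine charts
-/

universe u

open AlgebraicGeometry CategoryTheory TensorProduct

namespace Groth.Agent.FlatH4

/-- Sections over `W` as a module over functions on `V`. -/
noncomputable abbrev secModuleOver {X S : Scheme.{u}} (f : X ⟶ S) (F : X.Modules) (V : S.Opens)
    (W : X.Opens) (e : W ≤ f ⁻¹ᵁ V) : Module Γ(S, V) Γ(F, W) :=
  Module.compHom _ (f.appLE V W e).hom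

/-- Flatness over the base at a point, computed from sections over affine opens. -/
theorem isFlatOverAt_iff {X S : Scheme.{u}} (f : X ⟶ S) (F : X.Modules) [Coh.IsQCoh F]
    (V : S.Opens) (hV : IsAffineOpen V) (W : X.Opens) (hW : IsAffineOpen W) (e : W ≤ f ⁻¹ᵁ V)
    {x : X} (hx : x ∈ W) :
    letI := (f.appLE V W e).hom.toAlgebra
    letI := secModuleOver f F V W e
    haveI : IsScalarTower Γ(S, V) Γ(X, W) Γ(F, W) := IsScalarTower.of_algebraMap_smul fun _ _ => rfl
    FlatMod.IsFlatOverAt f F x ↔
      Module.Flat Γ(S, V) (LocalizedModule (hW.primeIdealOf ⟨x, hx⟩).asIdeal.primeCompl Γ(F, W)) := by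
  letI := (f.appLE V W e).hom.toAlgebra
  letI := secModuleOver f F V W e
  haveI : IsScalarTower Γ(S, V) Γ(X, W) Γ(F, W) := IsScalarTower.of_algebraMap_smul fun _ _ => rfl
  letI := M1.stalkModule F hx
  letI := FlatMod.moduleStalkOver f F x
  letI : Algebra Γ(S, V) (S.presheaf.stalk (f x)) := S.presheaf.algebra_section_stalk ⟨f x, e hx⟩
  haveI : IsLocalization.AtPrime (S.presheaf.stalk (f x)) (hV.primeIdealOf ⟨f x, e hx⟩).asIdeal :=
    hV.isLocalization_stalk ⟨f x, e hx⟩
  letI : Module Γ(S, V) (F.presheaf.stalk x) :=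
    Module.compHom _ (algebraMap Γ(S, V) (S.presheaf.stalk (f x)))
  haveI : IsScalarTower Γ(S, V) (S.presheaf.stalk (f x)) (F.presheaf.stalk x) :=
    IsScalarTower.of_algebraMap_smul fun _ _ => rfl
  haveI : IsScalarTower Γ(S, V) Γ(X, W) (F.presheaf.stalk x) :=
    IsScalarTower.of_algebraMap_smul fun r a => by
      show X.presheaf.germ W x hx (f.appLE V W e r) • a =
        f.stalkMap x (S.presheaf.germ V (f x) (e hx) r) • a
      rw [Scheme.Hom.germ_stalkMap_apply]
      congr 1
      exact X.presheaf.germ_res_apply (homOfLE e) x hx _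
  haveI := M1.isLocalizedModule_germ F hW hx
  let iso := (IsLocalizedModule.iso (hW.primeIdealOf ⟨x, hx⟩).asIdeal.primeCompl
    (M1.germₗ F hx)).restrictScalars Γ(S, V)
  show Module.Flat (S.presheaf.stalk (f x)) (F.presheaf.stalk x) ↔ _
  rw [Module.flat_iff_of_isLocalization (S.presheaf.stalk (f x))
    (hV.primeIdealOf ⟨f x, e hx⟩).asIdeal.primeCompl (F.presheaf.stalk x)]
  exact ⟨fun _ => Module.Flat.of_linearEquiv iso, fun _ => Module.Flat.of_linearEquiv iso.symm⟩

/-- A flat fibre of the localized module gives `FibFlat`. -/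
theorem fibFlat_of_flat_mod_localized {S S' T M M' : Type u} [CommRing S] [CommRing S'] [Algebra S S']
    [Module.Flat S S'] [CommRing T] [Algebra S T] [AddCommGroup M] [Module S M] [Module T M]
    [IsScalarTower S T M] [AddCommGroup M'] [Module S M'] [Module S' M'] [IsScalarTower S S' M']
    [Module T M'] [IsScalarTower S T M'] (P : Ideal S) (q : Ideal T) [q.IsPrime]
    (g : M →ₗ[T] M') [IsLocalizedModule q.primeCompl g]
    (h : Module.Flat (S' ⧸ P.map (algebraMap S S'))
      (M' ⧸ (P.map (algebraMap S S') • (⊤ : Submodule S' M')))) :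
    FibFlat S M P q := by
  intro N N' _ _ _ _ hN hN' f hf x hx
  let P' := P.map (algebraMap S S')
  have hmod : Module.Flat (S' ⧸ P') ((S' ⧸ P') ⊗[S'] M') := by
    haveI := h
    let e' : ((S' ⧸ P') ⊗[S'] M') ≃ₗ[S' ⧸ P'] M' ⧸ P' • (⊤ : Submodule S' M') :=
      { TensorProduct.quotTensorEquivQuotSMul M' P' with
        map_smul' := fun r x => by
          obtain ⟨r, rfl⟩ := Ideal.Quotient.mk_surjective r
          show TensorProduct.quotTensorEquivQuotSMul M' P' (Ideal.Quotient.mk P' r • x) =
            Ideal.Quotient.mk P' r • TensorProduct.quotTensorEquivQuotSMul M' P' x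
          rw [← Ideal.Quotient.algebraMap_eq, algebraMap_smul, algebraMap_smul, map_smul] }
    exact Module.Flat.of_linearEquiv e'
  have hF : Function.Injective (f.baseChange S') :=
    Module.Flat.lTensor_preserves_injective_linearMap f hf
  have htor : ∀ {X : Type u} [AddCommGroup X] [Module S X],
      Module.IsTorsionBySet S X (P : Set S) →
      Module.IsTorsionBySet S' (S' ⊗[S] X) (P' : Set S') := by
    intro X _ _ hX z r
    obtain ⟨r, hr⟩ := r
    have hann : P' ≤ Module.annihilator S' (S' ⊗[S] X) := by
      rw [Ideal.map_le_iff_le_comap]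
      intro a ha
      rw [Ideal.mem_comap, Module.mem_annihilator]
      intro z
      rw [algebraMap_smul]
      induction z using TensorProduct.induction_on with
      | zero => simp
      | tmul s n => rw [← TensorProduct.tmul_smul, @hX n ⟨a, ha⟩, TensorProduct.tmul_zero]
      | add a b ha hb => rw [smul_add, ha, hb, add_zero]
    exact Module.mem_annihilator.1 (hann hr) z
  have hinj : Function.Injective (f.lTensor M') := by
    let c := AlgebraTensorModule.cancelBaseChange S S' S' M' N
    let c' := AlgebraTensorModule.cancelBaseChange S S' S' M' N'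
    have key : ∀ z, f.lTensor M' (c z) = c' ((f.baseChange S').lTensor M' z) := by
      intro z
      induction z using TensorProduct.induction_on with
      | zero => simp
      | tmul m y =>
        induction y using TensorProduct.induction_on with
        | zero => simp
        | tmul s n => simp [c, c']
        | add a b ha hb => simp only [TensorProduct.tmul_add, map_add, ha, hb]
      | add a b ha hb => simp only [map_add, ha, hb]
    intro a b hab
    obtain ⟨a, rfl⟩ := c.surjective a
    obtain ⟨b, rfl⟩ := c.surjective b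
    rw [key, key] at hab
    rw [lTensor_injective_of_flat_mod P' hmod (htor hN) (htor hN') (f.baseChange S') hF (c'.injective hab)]
  let g₁ := AlgebraTensorModule.rTensor S N g
  have h1 : g₁ x = 0 := by
    apply hinj
    show f.lTensor M' ((g.restrictScalars S).rTensor N x) = f.lTensor M' 0
    rw [← LinearMap.comp_apply, LinearMap.lTensor_comp_rTensor, ← LinearMap.rTensor_comp_lTensor,
      LinearMap.comp_apply, hx, map_zero, map_zero]
  obtain ⟨t, ht⟩ := (IsLocalizedModule.eq_zero_iff q.primeCompl g₁).1 h1
  exact ⟨t, t.2, ht⟩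

end Groth.Agent.FlatH4
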