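import Groth.Agent.Lib.FlatH4.InjCrit
import Mathlib.RingTheory.Localization.BaseChange
import Mathlib.RingTheory.Localization.AtPrime.Basic
import Mathlib.RingTheory.Localization.Finiteness
import Mathlib.RingTheory.Localization.Submodule
import Mathlib.RingTheory.LocalProperties.Submodule

/-!
# Flatness of localized modules from torsion kernels
-/

universe u

namespace Groth.Agent.FlatH4

open TensorProduct LinearMap

/-- Tensoring with a localized module preserves injectivity of a map if all kernel elements are
killed by elements of the multiplicative set. -/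
theorem lTensor_localized_injective {R S : Type u} [CommRing R] [CommRing S] [Algebra R S]
    (T : Submonoid S) {M M' : Type u} [AddCommGroup M] [Module R M] [Module S M]
    [IsScalarTower R S M] [AddCommGroup M'] [Module R M'] [Module S M'] [IsScalarTower R S M']
    (g : M →ₗ[S] M') [IsLocalizedModule T g]
    {N N' : Type u} [AddCommGroup N] [Module R N] [AddCommGroup N'] [Module R N'] (φ : N →ₗ[R] N')
    (h : ∀ x : M ⊗[R] N, φ.lTensor M x = 0 → ∃ s ∈ T, s • x = 0) :
    Function.Injective (φ.lTensor M') := by
  let g₁ := AlgebraTensorModule.rTensor R N g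
  let g₂ := AlgebraTensorModule.rTensor R N' g
  let Φ := AlgebraTensorModule.lTensor S M' φ
  let Ψ := AlgebraTensorModule.lTensor S M φ
  have hcomm : ∀ w, Φ (g₁ w) = g₂ (Ψ w) := by
    intro w
    induction w using TensorProduct.induction_on with
    | zero => simp
    | tmul m r => simp [Φ, Ψ, g₁, g₂]
    | add a b ha hb => simp only [map_add, ha, hb]
  rw [injective_iff_map_eq_zero]
  intro z hz
  obtain ⟨⟨w, s⟩, hw⟩ := IsLocalizedModule.surj T g₁ z
  have h0 : g₂ (Ψ w) = 0 := by
    rw [← hcomm w, ← hw, LinearMap.map_smul_of_tower]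
    exact (congrArg (s • ·) (show Φ z = 0 from hz)).trans (smul_zero _)
  obtain ⟨t, ht⟩ := (IsLocalizedModule.eq_zero_iff T g₂).1 h0
  obtain ⟨c, hc, h1⟩ := h (t • w) (by
    show Ψ (t • w) = 0
    rw [LinearMap.map_smul_of_tower]; exact ht)
  have h2 : s • z = 0 := hw.trans ((IsLocalizedModule.eq_zero_iff T g₁).2
    ⟨(⟨c, hc⟩ : T) * t, by rw [mul_smul]; exact h1⟩)
  exact IsLocalizedModule.smul_injective g₁ s (h2.trans (smul_zero s).symm)

/-- Flatness modulo an ideal from injectivity on modules killed by it. -/
theorem flat_mod_of_injective {A M : Type u} [CommRing A] [AddCommGroup M] [Module A M] (a : Ideal A)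
    (h : ∀ {N N' : Type u} [AddCommGroup N] [Module A N] [AddCommGroup N'] [Module A N'],
      Module.IsTorsionBySet A N (a : Set A) → Module.IsTorsionBySet A N' (a : Set A) →
      ∀ f : N →ₗ[A] N', Function.Injective f → Function.Injective (f.lTensor M)) :
    Module.Flat (A ⧸ a) ((A ⧸ a) ⊗[A] M) := by
  refine Module.Flat.iff_rTensor_preserves_injective_linearMap.2 fun N N' _ _ _ _ f hf => ?_
  let _ : Module A N := Module.compHom N (Ideal.Quotient.mk a)
  let _ : Module A N' := Module.compHom N' (Ideal.Quotient.mk a)
  have : IsScalarTower A (A ⧸ a) N := IsScalarTower.of_algebraMap_smul fun _ _ => rfl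
  have : IsScalarTower A (A ⧸ a) N' := IsScalarTower.of_algebraMap_smul fun _ _ => rfl
  have hN : Module.IsTorsionBySet A N (a : Set A) := fun x r => by
    rw [← algebraMap_smul (A ⧸ a) (r : A) x, Ideal.Quotient.algebraMap_eq,
      Ideal.Quotient.eq_zero_iff_mem.2 r.2, zero_smul]
  have hN' : Module.IsTorsionBySet A N' (a : Set A) := fun x r => by
    rw [← algebraMap_smul (A ⧸ a) (r : A) x, Ideal.Quotient.algebraMap_eq,
      Ideal.Quotient.eq_zero_iff_mem.2 r.2, zero_smul]
  have hinj := (lTensor_inj_iff_rTensor_inj (f := f.restrictScalars A) M).1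
    (h hN hN' (f.restrictScalars A) hf)
  let e := AlgebraTensorModule.cancelBaseChange A (A ⧸ a) (A ⧸ a) N M
  let e' := AlgebraTensorModule.cancelBaseChange A (A ⧸ a) (A ⧸ a) N' M
  have key : ∀ x, (f.restrictScalars A).rTensor M (e x) = e' (f.rTensor _ x) := by
    intro x
    induction x using TensorProduct.induction_on with
    | zero => simp
    | tmul n y =>
      induction y using TensorProduct.induction_on with
      | zero => simp
      | tmul r m => simp [e, e']
      | add p q hp hq => simp only [tmul_add, map_add, hp, hq]
    | add x y hx hy => simp only [map_add, hx, hy]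
  intro x y hxy
  apply e.injective
  apply hinj
  rw [key, key, hxy]

/-- Local criterion of flatness at a prime, in terms of torsion kernels. -/
theorem flat_localized_of_kernels {R S : Type u} [CommRing R] [CommRing S] [Algebra R S]
    [IsNoetherianRing R] [IsNoetherianRing S] {M : Type u} [AddCommGroup M] [Module R M]
    [Module S M] [IsScalarTower R S M] [Module.Finite S M] (I : Ideal R) (q : Ideal S) [q.IsPrime]
    (hq : I.map (algebraMap R S) ≤ q)
    (h1 : ∀ x : M ⊗[R] I, I.subtype.lTensor M x = 0 → ∃ s ∈ q.primeCompl, s • x = 0)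
    (h2 : ∀ {N N' : Type u} [AddCommGroup N] [Module R N] [AddCommGroup N'] [Module R N'],
      Module.IsTorsionBySet R N (I : Set R) → Module.IsTorsionBySet R N' (I : Set R) →
      ∀ f : N →ₗ[R] N', Function.Injective f →
        ∀ x : M ⊗[R] N, f.lTensor M x = 0 → ∃ s ∈ q.primeCompl, s • x = 0) :
    Module.Flat R (LocalizedModule q.primeCompl M) := by
  let g := LocalizedModule.mkLinearMap q.primeCompl M
  let Sq := Localization q.primeCompl
  have : IsLocalRing Sq := Localization.AtPrime.isLocalRing q
  have : IsNoetherianRing Sq := IsLocalization.isNoetherianRing q.primeCompl Sq inferInstance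
  have : Module.Finite Sq (LocalizedModule q.primeCompl M) :=
    Module.Finite.of_isLocalizedModule q.primeCompl g
  refine flat_of_le_jacobson (S := Sq) I ?_ (lTensor_localized_injective q.primeCompl g _ h1)
    (flat_mod_of_injective I fun hN hN' f hf =>
      lTensor_localized_injective q.primeCompl g f (h2 hN hN' f hf))
  rw [IsLocalRing.jacobson_eq_maximalIdeal ⊥ bot_ne_top, IsScalarTower.algebraMap_eq R S Sq,
    ← Ideal.map_map]
  refine (Ideal.map_mono hq).trans (Ideal.map_le_iff_le_comap.2 fun x hx => ?_)
  exact (IsLocalization.AtPrime.to_map_mem_maximal_iff Sq q x).2 hx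

/-- Flatness over the base can be checked on the localizations at maximal ideals of the algebra. -/
theorem flat_of_localized_maximal_algebra {R S : Type u} [CommRing R] [CommRing S] [Algebra R S]
    {M : Type u} [AddCommGroup M] [Module R M] [Module S M] [IsScalarTower R S M]
    (h : ∀ (q : Ideal S) [q.IsMaximal], Module.Flat R (LocalizedModule q.primeCompl M)) :
    Module.Flat R M := by
  refine Module.Flat.iff_lTensor_injective'.2 fun J => ?_
  rw [injective_iff_map_eq_zero]
  intro x hx
  refine Module.eq_of_localization_maximal (R := S)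
    (fun q hq => LocalizedModule q.primeCompl M ⊗[R] J)
    (fun q hq => AlgebraTensorModule.rTensor R J (LocalizedModule.mkLinearMap q.primeCompl M))
    x 0 fun q hq => ?_
  rw [map_zero]
  have := h q
  apply Module.Flat.lTensor_preserves_injective_linearMap (M := LocalizedModule q.primeCompl M)
    J.subtype J.injective_subtype
  show J.subtype.lTensor _ ((LocalizedModule.mkLinearMap q.primeCompl M |>.restrictScalars R).rTensor J x) = _
  rw [← LinearMap.comp_apply, lTensor_comp_rTensor, ← rTensor_comp_lTensor, LinearMap.comp_apply,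
    hx, map_zero, map_zero]

end Groth.Agent.FlatH4
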