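import Groth.Agent.Lib.FlatH4.FibreCritField
import Groth.Agent.Lib.FlatH4.FlatLocusFP
import Mathlib.RingTheory.PolynomialAlgebra
import Mathlib.RingTheory.Flat.TorsionFree
import Mathlib.RingTheory.LocalRing.ResidueField.Fiber
import Mathlib.RingTheory.Polynomial.Quotient
import Mathlib.RingTheory.Localization.Away.Basic

/-!
# Slicing a flat algebra by an element regular on the fibre
-/

universe u

namespace Groth.Agent.FlatH4

open TensorProduct LinearMap Polynomial

/-- An element dying in the fibre at `p` dies after multiplication by an element outside `p`. -/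
theorem exists_smul_mem_of_one_tmul_eq_zero {A C : Type u} [CommRing A] [CommRing C] [Algebra A C]
    (p : Ideal A) [p.IsPrime] {c : C} (hc : (1 : p.ResidueField) ⊗ₜ[A] c = 0) :
    ∃ a ∉ p, a • c ∈ p.map (algebraMap A C) := by
  let W := C ⧸ p.map (algebraMap A C)
  let w : W := Ideal.Quotient.mk _ c
  by_contra hne
  push Not at hne
  have hker : RingHom.ker (algebraMap A p.ResidueField) = p := Ideal.ker_algebraMap_residueField p
  have hW : Module.IsTorsionBySet A W (RingHom.ker (algebraMap A p.ResidueField) : Set A) := fun z r => by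
    obtain ⟨z, rfl⟩ := Ideal.Quotient.mk_surjective z
    obtain ⟨r, hr⟩ := r
    rw [hker] at hr
    show r • Ideal.Quotient.mk _ z = 0
    rw [Algebra.smul_def, IsScalarTower.algebraMap_apply A C W, Ideal.Quotient.algebraMap_eq, ← map_mul,
      Ideal.Quotient.eq_zero_iff_mem]
    exact Ideal.mul_mem_right _ _ (Ideal.mem_map_of_mem _ hr)
  have hq : Module.IsTorsionBySet A (A ⧸ RingHom.ker (algebraMap A p.ResidueField))
      (RingHom.ker (algebraMap A p.ResidueField) : Set A) := fun w r => by
    obtain ⟨w, rfl⟩ := Submodule.Quotient.mk_surjective _ w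
    rw [← Submodule.Quotient.mk_smul, Submodule.Quotient.mk_eq_zero]
    exact Ideal.mul_mem_right _ _ r.2
  let ū : A ⧸ RingHom.ker (algebraMap A p.ResidueField) →ₗ[A] W :=
    Submodule.liftQ _ (LinearMap.toSpanSingleton A W w) fun r hr => by
      rw [LinearMap.mem_ker]
      exact @hW w ⟨r, hr⟩
  have hū : Function.Injective ū := by
    rw [← LinearMap.ker_eq_bot, Submodule.ker_liftQ_eq_bot]
    intro r hr
    rw [hker]
    by_contra hrp
    apply hne r hrp
    rw [← Ideal.Quotient.eq_zero_iff_mem, Algebra.smul_def, map_mul]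
    rw [LinearMap.mem_ker, LinearMap.toSpanSingleton_apply, Algebra.smul_def,
      IsScalarTower.algebraMap_apply A C W, Ideal.Quotient.algebraMap_eq] at hr
    exact hr
  have h1 : (1 : p.ResidueField) ⊗ₜ[A]
      (Submodule.Quotient.mk (1 : A) : A ⧸ RingHom.ker (algebraMap A p.ResidueField)) = 0 := by
    apply baseChange_field_injective hq hW ū hū
    rw [map_zero, LinearMap.baseChange_tmul, Submodule.liftQ_apply]
    show (1 : p.ResidueField) ⊗ₜ[A] ((1 : A) • w) = 0
    rw [one_smul]
    have := congrArg ((Ideal.Quotient.mkₐ A (p.map (algebraMap A C))).toLinearMap.lTensor p.ResidueField) hc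
    rw [map_zero, LinearMap.lTensor_tmul] at this
    exact this
  let v : p.ResidueField ⊗[A] (A ⧸ RingHom.ker (algebraMap A p.ResidueField)) →ₗ[p.ResidueField] p.ResidueField :=
    (Submodule.liftQ _ (Algebra.linearMap A p.ResidueField) le_rfl : _ →ₗ[A] p.ResidueField).liftBaseChange _
  have := congrArg v h1
  have h2 : v ((1 : p.ResidueField) ⊗ₜ[A]
      (Submodule.Quotient.mk (1 : A) : A ⧸ RingHom.ker (algebraMap A p.ResidueField))) =
      (1 : p.ResidueField) • algebraMap A p.ResidueField (1 : A) := rfl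
  rw [h2, map_zero, map_one, one_smul] at this
  exact one_ne_zero this

variable {A C : Type u} [CommRing A] [CommRing C] [Algebra A C]

/-- A module over `k[X]` on which all nonzero polynomials act injectively is flat. -/
theorem flat_of_forall_injective {k R M : Type u} [Field k] [CommRing R] (e : k[X] ≃+* R)
    [AddCommGroup M] [Module R M]
    (h : ∀ f : k[X], f ≠ 0 → ∀ m : M, e f • m = 0 → m = 0) : Module.Flat R M := by
  haveI : IsDomain R := e.symm.toMulEquiv.isDomain
  haveI : IsPrincipalIdealRing R := IsPrincipalIdealRing.of_surjective e.toRingHom e.surjective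
  rw [Module.Flat.flat_iff_torsion_eq_bot_of_isBezout, eq_bot_iff]
  rintro m ⟨⟨a, ha⟩, hm⟩
  obtain ⟨f, rfl⟩ := e.surjective a
  exact h f (fun hf => (nonZeroDivisors.ne_zero ha) (by rw [hf, map_zero])) m hm

/-- Flatness over `A[X]`, `X` mapping to an element regular on the fibre. -/
theorem flat_localized_polynomial [Algebra.FinitePresentation A C] [Algebra A[X] C]
    [IsScalarTower A A[X] C] (q : Ideal C) [q.IsPrime]
    (hh : algebraMap A[X] C X ∈ q) [Module.Flat A (LocalizedModule q.primeCompl C)]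
    (hreg : ∀ c : C, ∀ t ∉ q, t * algebraMap A[X] C X * c ∈ (q.comap (algebraMap A C)).map (algebraMap A C) →
      ∃ s ∉ q, s * c ∈ (q.comap (algebraMap A C)).map (algebraMap A C)) :
    Module.Flat A[X] (LocalizedModule q.primeCompl C) := by
  let p := q.comap (algebraMap A C)
  let k := p.ResidueField
  let h := algebraMap A[X] C X
  let inc := (Algebra.TensorProduct.includeRight (R := A) (A := k) (B := C)).toRingHom
  let χ : k ⊗[A] C →ₐ[A] q.ResidueField := Algebra.TensorProduct.lift
    (Ideal.ResidueField.mapₐ p q (Algebra.ofId A C) rfl) (IsScalarTower.toAlgHom A C q.ResidueField)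
    fun _ _ => Commute.all _ _
  let q' := RingHom.ker χ.toRingHom
  haveI : q'.IsPrime := RingHom.ker_isPrime _
  have hq' : q'.comap inc = q := by
    ext c
    show χ ((1 : k) ⊗ₜ c) = 0 ↔ _
    simp [χ, Ideal.algebraMap_residueField_eq_zero]
  suffices hfib : letI := (fibMap A A[X] C k).toRingHom.toAlgebra
      Module.Flat (k ⊗[A] A[X]) (LocalizedModule q'.primeCompl (k ⊗[A] C)) by
    haveI : Module.Flat A (LocalizedModule (q'.comap inc).primeCompl C) :=
      flat_localized_mono q _ (le_of_eq hq')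
    haveI := flat_of_flat_fibMap q' hfib
    exact flat_localized_mono (q'.comap inc) q (le_of_eq hq'.symm)
  letI := (fibMap A A[X] C k).toRingHom.toAlgebra
  haveI : IsScalarTower k (k ⊗[A] A[X]) (k ⊗[A] C) :=
    IsScalarTower.of_algebraMap_eq fun a => ((fibMap A A[X] C k).commutes a).symm
  refine flat_of_forall_injective (polyEquivTensor A k).toRingEquiv fun f hf m hm => ?_
  obtain ⟨⟨z, t⟩, rfl⟩ := IsLocalizedModule.mk'_surjective q'.primeCompl
    (LocalizedModule.mkLinearMap q'.primeCompl (k ⊗[A] C)) m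
  let φ : k[X] →+* k ⊗[A] C := (fibMap A A[X] C k).toRingHom.comp (polyEquivTensor A k).toRingEquiv.toRingHom
  obtain ⟨n, g, rfl, hg⟩ : ∃ (n : ℕ) (g : k[X]), f = X ^ n * g ∧ g.coeff 0 ≠ 0 := by
    obtain ⟨g, hg, hg'⟩ := exists_eq_pow_rootMultiplicity_mul_and_not_dvd f hf 0
    rw [map_zero, sub_zero] at hg hg'
    exact ⟨_, g, hg, fun h0 => hg' (X_dvd_iff.2 h0)⟩
  have hφX : φ X = inc h := by
    show fibMap A A[X] C k (polyEquivTensor A k X) = (1 : k) ⊗ₜ h
    simp [fibMap, h]
  have hφC : ∀ a, φ (Polynomial.C a) = a ⊗ₜ 1 := fun a => by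
    show fibMap A A[X] C k (polyEquivTensor A k (Polynomial.C a)) = a ⊗ₜ 1
    simp [fibMap]
  have hφg : φ g ∉ q' := by
    intro hmem
    apply hg
    have hX : χ (φ X) = 0 := by
      rw [hφX]
      show χ ((1 : k) ⊗ₜ h) = 0
      simp [χ, Ideal.algebraMap_residueField_eq_zero, h, hh]
    have h1 : χ (φ g) = 0 := hmem
    rw [← X_mul_divX_add g, map_add, map_add, map_mul, map_mul, hX, zero_mul, zero_add, hφC] at h1
    have h2 : Ideal.ResidueField.mapₐ p q (Algebra.ofId A C) rfl (g.coeff 0) = 0 := by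
      simpa [χ] using h1
    exact (map_eq_zero _).1 h2
  -- `h` is regular at `q'`
  have hregk : ∀ z : k ⊗[A] C, ∀ t ∉ q', t * (inc h * z) = 0 → ∃ s ∉ q', s * z = 0 := by
    intro z t ht hz
    obtain ⟨a, ha, c, hc⟩ := Ideal.Fiber.exists_smul_eq_one_tmul (p := p) (S := C) z
    obtain ⟨b, hb, t₀, ht₀⟩ := Ideal.Fiber.exists_smul_eq_one_tmul (p := p) (S := C) t
    have hu : ∀ x : A, x ∉ p → IsUnit (algebraMap A (k ⊗[A] C) x) := fun x hx => by
      rw [IsScalarTower.algebraMap_apply A k (k ⊗[A] C)]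
      refine (IsUnit.mk0 _ ?_).map _
      rwa [Ne, Ideal.algebraMap_residueField_eq_zero]
    have ht₀q : t₀ ∉ q := by
      intro hmem
      apply ht
      rw [← hq', Ideal.mem_comap] at hmem
      change (1 : k) ⊗ₜ t₀ ∈ q' at hmem
      rw [← ht₀, Algebra.smul_def] at hmem
      exact ((Ideal.IsPrime.mem_or_mem inferInstance hmem).resolve_left fun h' =>
        (Ideal.IsPrime.ne_top inferInstance) (Ideal.eq_top_of_isUnit_mem _ h' (hu b hb)))
    have h3 : (1 : k) ⊗ₜ[A] (t₀ * h * c) = 0 := by
      have : ((1 : k) ⊗ₜ[A] t₀) * (inc h * ((1 : k) ⊗ₜ[A] c)) = 0 := by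
        rw [← hc, ← ht₀, mul_smul_comm, smul_mul_assoc, mul_smul_comm, hz, smul_zero, smul_zero]
      rw [← this]
      show _ = _ * (((1 : k) ⊗ₜ[A] h) * _)
      simp [mul_assoc]
    obtain ⟨d, hd, hd'⟩ := exists_smul_mem_of_one_tmul_eq_zero p h3
    obtain ⟨s, hs, hs'⟩ := hreg c (algebraMap A C d * t₀)
      (fun hm => (Ideal.IsPrime.mem_or_mem inferInstance hm).elim hd ht₀q) (by
        rw [Algebra.smul_def] at hd'
        convert hd' using 1
        ring)
    refine ⟨inc s, fun hm => hs (by rw [← hq']; exact hm), ?_⟩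
    have h4 : (1 : k) ⊗ₜ[A] (s * c) = 0 := by
      have : p.map (algebraMap A C) ≤ RingHom.ker inc := by
        rw [Ideal.map_le_iff_le_comap]
        intro x hx
        show (1 : k) ⊗ₜ[A] algebraMap A C x = 0
        rw [Algebra.algebraMap_eq_smul_one, ← TensorProduct.smul_tmul, ← Algebra.algebraMap_eq_smul_one,
          Ideal.algebraMap_residueField_eq_zero.2 hx, TensorProduct.zero_tmul]
      exact this hs'
    apply (hu a ha).mul_right_cancel
    rw [zero_mul, mul_assoc, mul_comm z, ← Algebra.smul_def, hc]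
    show ((1 : k) ⊗ₜ[A] s) * ((1 : k) ⊗ₜ[A] c) = 0
    rw [Algebra.TensorProduct.tmul_mul_tmul, one_mul, h4]
  rw [← algebraMap_smul (k ⊗[A] C)] at hm
  change φ (X ^ n * g) • IsLocalizedModule.mk' _ z t = 0 at hm
  rw [← IsLocalizedModule.mk'_smul, IsLocalizedModule.mk'_eq_zero'] at hm
  obtain ⟨u, hu⟩ := hm
  rw [map_mul, map_pow, hφX, Submonoid.smul_def, smul_eq_mul, smul_eq_mul] at hu
  rw [Function.uncurry_apply_pair, IsLocalizedModule.mk'_eq_zero']
  have key : ∀ (n : ℕ) (u : k ⊗[A] C), u ∉ q' → u * (inc h ^ n * z) = 0 → ∃ s ∉ q', s * z = 0 := by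
    intro n
    induction n with
    | zero => intro u hu h0; exact ⟨u, hu, by simpa using h0⟩
    | succ n ih =>
      intro u hu h0
      rw [pow_succ'] at h0
      obtain ⟨s, hs, hs'⟩ := hregk (inc h ^ n * z) u hu (by rw [← h0]; ring)
      exact ih s hs hs'
  obtain ⟨s, hs, hs'⟩ := key n ((u : k ⊗[A] C) * φ g)
    (fun hm => (Ideal.IsPrime.mem_or_mem inferInstance hm).elim u.2 hφg) (by rw [← hu]; ring)
  exact ⟨⟨s, hs⟩, hs'⟩

/-- Slicing: near `q`, the element is a nonzerodivisor and the quotient is flat. -/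
theorem exists_slice [Algebra.FinitePresentation A C] (q : Ideal C) [q.IsPrime] (h : C) (hh : h ∈ q)
    [Module.Flat A (LocalizedModule q.primeCompl C)]
    (hreg : ∀ c : C, ∀ t ∉ q, t * h * c ∈ (q.comap (algebraMap A C)).map (algebraMap A C) →
      ∃ s ∉ q, s * c ∈ (q.comap (algebraMap A C)).map (algebraMap A C)) :
    ∃ f ∉ q, ∀ (L : Type u) [CommRing L] [Algebra C L] [Algebra A L] [IsScalarTower A C L]
      [IsLocalization.Away f L], algebraMap C L h ∈ nonZeroDivisors L ∧
        Module.Flat A (L ⧸ Ideal.span {algebraMap C L h}) := by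
  letI : Algebra A[X] C := (Polynomial.aeval h).toRingHom.toAlgebra
  haveI : IsScalarTower A A[X] C :=
    IsScalarTower.of_algebraMap_eq fun a => ((Polynomial.aeval h).commutes a).symm
  have hX : algebraMap A[X] C X = h := Polynomial.aeval_X h
  haveI hfl : Module.Flat A[X] (LocalizedModule q.primeCompl C) :=
    flat_localized_polynomial q (by rw [hX]; exact hh) (by rw [hX]; exact hreg)
  haveI : Algebra.FinitePresentation A[X] C :=
    Algebra.FinitePresentation.of_restrict_scalars_finitePresentation A A[X] C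
  obtain ⟨_, ⟨f, rfl⟩, hfq, hfU⟩ := PrimeSpectrum.isTopologicalBasis_basic_opens.isOpen_iff.1
    (isOpen_flat_localized (R := A[X]) (S := C) (M := C)) ⟨q, inferInstance⟩ hfl
  refine ⟨f, hfq, fun L _ _ _ _ _ => ?_⟩
  letI : Algebra A[X] L := ((algebraMap C L).comp (algebraMap A[X] C)).toAlgebra
  haveI : IsScalarTower A[X] C L := IsScalarTower.of_algebraMap_eq fun _ => rfl
  haveI : IsScalarTower A A[X] L := IsScalarTower.of_algebraMap_eq fun a => by
    show _ = algebraMap C L (algebraMap A[X] C (algebraMap A A[X] a))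
    rw [IsScalarTower.algebraMap_apply A C L, IsScalarTower.algebraMap_apply A A[X] C]
  haveI hLflat : Module.Flat A[X] L := by
    refine Module.Flat.iff_lTensor_injective'.2 fun J =>
      lTensor_localized_injective (Submonoid.powers f) (Algebra.linearMap C L) _ fun x hx => ?_
    by_contra hne
    push Not at hne
    let ann : Ideal C := LinearMap.ker (LinearMap.toSpanSingleton C (C ⊗[A[X]] J) x)
    have hrad : f ∉ ann.radical := fun ⟨n, hn⟩ => hne (f ^ n) ⟨n, rfl⟩ hn
    rw [Ideal.radical_eq_sInf, Submodule.mem_sInf] at hrad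
    push Not at hrad
    obtain ⟨P, ⟨hle, hP⟩, hfP⟩ := hrad
    haveI := hP
    haveI : Module.Flat A[X] (LocalizedModule (Ideal.primeCompl P) C) := hfU (a := ⟨P, hP⟩) hfP
    obtain ⟨s, hs, hsx⟩ := exists_smul_eq_zero_of_flat_localized P J.subtype J.injective_subtype x hx
    exact hs (hle hsx)
  have hLX : algebraMap A[X] L X = algebraMap C L h := congrArg (algebraMap C L) hX
  refine ⟨mem_nonZeroDivisors_iff_right.2 fun y hy => ?_, ?_⟩
  · have hr : IsSMulRegular L (X : A[X]) :=
      Module.Flat.isSMulRegular_of_nonZeroDivisors (Polynomial.X_mem_nonzeroDivisors)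
    refine hr.right_eq_zero_of_smul ?_
    rw [Algebra.smul_def, hLX, mul_comm, hy]
  · let I : Ideal A[X] := Ideal.span {X}
    haveI : Module.Flat A (A[X] ⧸ I) := by
      have e : (A[X] ⧸ Ideal.span ({X - Polynomial.C (0 : A)} : Set A[X])) ≃ₐ[A] A :=
        Polynomial.quotientSpanXSubCAlgEquiv 0
      rw [map_zero, sub_zero] at e
      exact Module.Flat.of_linearEquiv e.toLinearEquiv
    haveI : Module.Flat A ((A[X] ⧸ I) ⊗[A[X]] L) := Module.Flat.trans A (A[X] ⧸ I) _
    let e₁ : (A[X] ⧸ I) ⊗[A[X]] L ≃ₗ[A[X]] L ⧸ (I • ⊤ : Submodule A[X] L) :=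
      TensorProduct.quotTensorEquivQuotSMul L I
    have hI : (I • ⊤ : Submodule A[X] L) = (Ideal.span {algebraMap C L h}).restrictScalars A[X] := by
      rw [Ideal.smul_top_eq_map, Ideal.map_span, Set.image_singleton, hLX]
    exact Module.Flat.of_linearEquiv
      ((e₁.trans ((Submodule.quotEquivOfEq _ _ hI).trans
        (Submodule.Quotient.restrictScalarsEquiv A[X] _))).restrictScalars A).symm

end Groth.Agent.FlatH4
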