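import Groth.Agent.Lib.FlatH4.FibreCritField
import Groth.Agent.Lib.Descend.PointLocal
import Mathlib.AlgebraicGeometry.PullbackCarrier
import Mathlib.AlgebraicGeometry.Morphisms.FiniteType

/-!
# The fibrewise criterion of flatness for schemes
-/

universe u

open AlgebraicGeometry CategoryTheory Limits

namespace Groth.Agent.FlatH4

theorem flat_stalkMap_comp_left_iff {X Y Z : Scheme.{u}} (e : X ⟶ Y) [IsOpenImmersion e] (f : Y ⟶ Z)
    (x : X) : ((e ≫ f).stalkMap x).hom.Flat ↔ (f.stalkMap (e x)).hom.Flat := by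
  rw [Scheme.Hom.stalkMap_comp]
  exact RingHom.Flat.respectsIso.cancel_right_isIso (f.stalkMap (e x)) (e.stalkMap x)

theorem flat_stalkMap_comp_right_iff {X Y Z : Scheme.{u}} (e : X ⟶ Y) (i : Y ⟶ Z) [IsOpenImmersion i]
    (x : X) : ((e ≫ i).stalkMap x).hom.Flat ↔ (e.stalkMap x).hom.Flat := by
  rw [Scheme.Hom.stalkMap_comp]
  exact RingHom.Flat.respectsIso.cancel_left_isIso (i.stalkMap (e x)) (e.stalkMap x)

theorem flat_stalkMap_of_eq {X Y : Scheme.{u}} (f : X ⟶ Y) {x y : X} (h : x = y)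
    (hx : (f.stalkMap x).hom.Flat) : (f.stalkMap y).hom.Flat := by
  subst h
  exact hx

variable {X Y S : Scheme.{u}} (f : X ⟶ Y) (g : Y ⟶ S) {K : Type u} [Field K]
  (a : Spec (CommRingCat.of K) ⟶ S)

/-- The map on fibres over a field valued point. -/
noncomputable def fibreMapAt : pullback a (f ≫ g) ⟶ pullback a g :=
  pullback.map a (f ≫ g) a g (𝟙 _) f (𝟙 _) (by simp) (by simp)

/-- Affine chart of the map on fibres near a point. -/
theorem exists_fibre_chart (x' : ↥(pullback a (f ≫ g))) :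
    ∃ (V : S.Opens) (_ : IsAffineOpen V) (U : Y.Opens) (_ : IsAffineOpen U) (W : X.Opens)
      (hW : IsAffineOpen W) (hUV : U ≤ g ⁻¹ᵁ V) (hWU : W ≤ f ⁻¹ᵁ U) (hWV : W ≤ (f ≫ g) ⁻¹ᵁ V)
      (hx : pullback.snd a (f ≫ g) x' ∈ W) (_ : Algebra Γ(S, V) K),
      letI := (g.appLE V U hUV).hom.toAlgebra
      letI := ((f ≫ g).appLE V W hWV).hom.toAlgebra
      letI := (f.appLE U W hWU).hom.toAlgebra
      ∃ (_ : IsScalarTower Γ(S, V) Γ(Y, U) Γ(X, W)) (q' : Ideal (TensorProduct Γ(S, V) K Γ(X, W)))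
        (_ : q'.IsPrime),
        q'.comap (Algebra.TensorProduct.includeRight (R := Γ(S, V)) (A := K) (B := Γ(X, W))).toRingHom =
          (hW.primeIdealOf ⟨_, hx⟩).asIdeal ∧
        (letI := (fibMap Γ(S, V) Γ(Y, U) Γ(X, W) K).toRingHom.toAlgebra;
          ((fibreMapAt f g a).stalkMap x').hom.Flat ↔
            Module.Flat (TensorProduct Γ(S, V) K Γ(Y, U))
              (LocalizedModule q'.primeCompl (TensorProduct Γ(S, V) K Γ(X, W)))) := by
  let x := pullback.snd a (f ≫ g) x'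
  obtain ⟨V, hV, hsV, -⟩ :=
    exists_isAffineOpen_mem_and_subset (X := S) (x := g (f x)) (U := ⊤) trivial
  obtain ⟨U, hU, hyU, hUV⟩ :=
    exists_isAffineOpen_mem_and_subset (X := Y) (x := f x) (U := g ⁻¹ᵁ V) hsV
  obtain ⟨W, hW, hxW, hWU⟩ :=
    exists_isAffineOpen_mem_and_subset (X := X) (x := x) (U := f ⁻¹ᵁ U) hyU
  have hWV : W ≤ (f ≫ g) ⁻¹ᵁ V := fun z hz => hUV (hWU hz)
  have hrange : Set.range a ⊆ Set.range hV.fromSpec := by
    rintro _ ⟨z, rfl⟩
    rw [hV.range_fromSpec]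
    have hz : a z = g (f x) := by
      rw [show z = pullback.fst a (f ≫ g) x' from Subsingleton.elim _ _, ← Scheme.Hom.comp_apply,
        pullback.condition]
      rfl
    rw [hz]
    exact hsV
  let α := Spec.preimage (IsOpenImmersion.lift hV.fromSpec a hrange)
  letI aK : Algebra Γ(S, V) K := α.hom.toAlgebra
  refine ⟨V, hV, U, hU, W, hW, hUV, hWU, hWV, hxW, aK, ?_⟩
  letI := (g.appLE V U hUV).hom.toAlgebra
  letI := ((f ≫ g).appLE V W hWV).hom.toAlgebra
  letI := (f.appLE U W hWU).hom.toAlgebra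
  haveI htower : IsScalarTower Γ(S, V) Γ(Y, U) Γ(X, W) := IsScalarTower.of_algebraMap_eq' <| by
    show ((f ≫ g).appLE V W hWV).hom = (f.appLE U W hWU).hom.comp (g.appLE V U hUV).hom
    rw [← CommRingCat.hom_comp, Scheme.Hom.appLE_comp_appLE]
  let sK := Spec.map (CommRingCat.ofHom (algebraMap Γ(S, V) K))
  let sB := Spec.map (CommRingCat.ofHom (algebraMap Γ(S, V) Γ(Y, U)))
  let sC := Spec.map (CommRingCat.ofHom (algebraMap Γ(S, V) Γ(X, W)))
  let sBC := Spec.map (CommRingCat.ofHom (algebraMap Γ(Y, U) Γ(X, W)))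
  have hK : sK ≫ hV.fromSpec = a := by
    show Spec.map (CommRingCat.ofHom α.hom) ≫ _ = _
    rw [CommRingCat.ofHom_hom, Spec.map_preimage, IsOpenImmersion.lift_fac]
  have hB : sB ≫ hV.fromSpec = hU.fromSpec ≫ g := hV.SpecMap_appLE_fromSpec g hU hUV
  have hC : sC ≫ hV.fromSpec = hW.fromSpec ≫ (f ≫ g) := hV.SpecMap_appLE_fromSpec (f ≫ g) hW hWV
  have hBC : sBC ≫ hU.fromSpec = hW.fromSpec ≫ f := hU.SpecMap_appLE_fromSpec f hW hWU
  have hsBC : sBC ≫ sB = sC := by
    show Spec.map _ ≫ Spec.map _ = Spec.map _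
    rw [← Spec.map_comp, ← CommRingCat.ofHom_comp, ← IsScalarTower.algebraMap_eq]
  let ΦX := pullback.map sK sC a (f ≫ g) (𝟙 _) hW.fromSpec hV.fromSpec
    (by rw [Category.id_comp]; exact hK) hC
  let ΦY := pullback.map sK sB a g (𝟙 _) hU.fromSpec hV.fromSpec
    (by rw [Category.id_comp]; exact hK) hB
  let m0 : pullback sK sC ⟶ pullback sK sB := pullback.map sK sC sK sB (𝟙 _) sBC (𝟙 _) (by simp)
    (by rw [Category.comp_id]; exact hsBC.symm)
  have hcomm : ΦX ≫ fibreMapAt f g a = m0 ≫ ΦY := by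
    apply pullback.hom_ext
    · simp [ΦX, ΦY, m0, fibreMapAt, pullback.lift_fst]
    · simp only [ΦX, ΦY, m0, fibreMapAt, pullback.map, pullback.lift_snd, pullback.lift_snd_assoc,
        Category.assoc, hBC]
  let eX := pullbackSpecIso Γ(S, V) K Γ(X, W)
  let eY := pullbackSpecIso Γ(S, V) K Γ(Y, U)
  let φ := fibMap Γ(S, V) Γ(Y, U) Γ(X, W) K
  have hm0 : m0 = eX.hom ≫ Spec.map (CommRingCat.ofHom φ.toRingHom) ≫ eY.inv := by
    apply pullback.hom_ext
    · have h1 : CommRingCat.ofHom (algebraMap K (TensorProduct Γ(S, V) K Γ(Y, U))) ≫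
          CommRingCat.ofHom φ.toRingHom = CommRingCat.ofHom (algebraMap K (TensorProduct Γ(S, V) K Γ(X, W))) := by
        rw [← CommRingCat.ofHom_comp]
        congr 1
        exact φ.comp_algebraMap
      simp only [m0, pullback.lift_fst, Category.assoc, Category.comp_id]
      rw [pullbackSpecIso_inv_fst', ← Spec.map_comp, h1]
      exact (pullbackSpecIso_hom_fst' ..).symm
    · have h1 : CommRingCat.ofHom ((Algebra.TensorProduct.includeRight
            (R := Γ(S, V)) (A := K) (B := Γ(Y, U))).toRingHom) ≫ CommRingCat.ofHom φ.toRingHom =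
          CommRingCat.ofHom (algebraMap Γ(Y, U) Γ(X, W)) ≫ CommRingCat.ofHom
            ((Algebra.TensorProduct.includeRight (R := Γ(S, V)) (A := K) (B := Γ(X, W))).toRingHom) := by
        rw [← CommRingCat.ofHom_comp, ← CommRingCat.ofHom_comp]
        congr 1
      simp only [m0, pullback.lift_snd, Category.assoc]
      rw [pullbackSpecIso_inv_snd, ← Spec.map_comp]
      erw [h1]
      rw [Spec.map_comp, ← Category.assoc]
      congr 1
      rw [← pullbackSpecIso_hom_snd]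
      rfl
  obtain ⟨z, hz⟩ : x' ∈ Set.range ΦX := by
    rw [Scheme.Pullback.range_map]
    refine ⟨by simp, ?_⟩
    show x ∈ Set.range hW.fromSpec
    rw [hW.range_fromSpec]
    exact hxW
  refine ⟨htower, PrimeSpectrum.asIdeal (show PrimeSpectrum _ from eX.hom z),
    PrimeSpectrum.isPrime _, ?_, ?_⟩
  · show (PrimeSpectrum.comap _ (show PrimeSpectrum _ from eX.hom z)).asIdeal = _
    congr 1
    apply hW.fromSpec.isOpenEmbedding.injective
    rw [hW.fromSpec_primeIdealOf]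
    show hW.fromSpec (Spec.map (CommRingCat.ofHom
      (Algebra.TensorProduct.includeRight (R := Γ(S, V)) (A := K) (B := Γ(X, W))).toRingHom) (eX.hom z)) = x
    rw [← Scheme.Hom.comp_apply eX.hom]
    erw [pullbackSpecIso_hom_snd]
    show hW.fromSpec (pullback.snd sK sC z) = pullback.snd a (f ≫ g) x'
    rw [← hz, ← Scheme.Hom.comp_apply, ← Scheme.Hom.comp_apply]
    congr 1
    simp [ΦX, pullback.lift_snd]
  · letI := φ.toRingHom.toAlgebra
    haveI : IsOpenImmersion ΦX := inferInstance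
    haveI : IsOpenImmersion ΦY := inferInstance
    rw [← hz, ← flat_stalkMap_comp_left_iff ΦX, hcomm, flat_stalkMap_comp_right_iff, hm0,
      flat_stalkMap_comp_left_iff, flat_stalkMap_comp_right_iff]
    exact flat_stalkMap_SpecMap_iff (R := TensorProduct Γ(S, V) K Γ(Y, U)) (eX.hom z)

/-- Flatness at a point passes to the fibres. -/
theorem flat_fibreMapAt_of_flat (x' : ↥(pullback a (f ≫ g)))
    (h : (f.stalkMap (pullback.snd a (f ≫ g) x')).hom.Flat) :
    ((fibreMapAt f g a).stalkMap x').hom.Flat := by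
  obtain ⟨V, hV, U, hU, W, hW, hUV, hWU, hWV, hx, _, htower, q', _, hq, hiff⟩ :=
    exists_fibre_chart f g a x'
  rw [hiff]
  let := (g.appLE V U hUV).hom.toAlgebra
  let := ((f ≫ g).appLE V W hWV).hom.toAlgebra
  let := (f.appLE U W hWU).hom.toAlgebra
  have h' := (flat_stalkMap_iff f U hU W hW hWU hx).1 h
  have hq' : Module.Flat Γ(Y, U) (LocalizedModule (q'.comap
      (Algebra.TensorProduct.includeRight (R := Γ(S, V)) (A := K) (B := Γ(X, W))).toRingHom).primeCompl Γ(X, W)) :=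
    @flat_localized_mono Γ(Y, U) Γ(X, W) _ _ _ Γ(X, W) _ _ _ _ _ _ _ _ (le_of_eq hq) h'
  exact flat_fibMap_of_flat q'

/-- The fibrewise criterion of flatness: flat over the base and flat on the fibre implies flat. -/
theorem flat_of_flat_fibreMapAt [LocallyOfFinitePresentation (f ≫ g)] [LocallyOfFiniteType g]
    (x' : ↥(pullback a (f ≫ g)))
    (hflat : ((f ≫ g).stalkMap (pullback.snd a (f ≫ g) x')).hom.Flat)
    (h : ((fibreMapAt f g a).stalkMap x').hom.Flat) :
    (f.stalkMap (pullback.snd a (f ≫ g) x')).hom.Flat := by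
  obtain ⟨V, hV, U, hU, W, hW, hUV, hWU, hWV, hx, _, htower, q', _, hq, hiff⟩ :=
    exists_fibre_chart f g a x'
  let := (g.appLE V U hUV).hom.toAlgebra
  let := ((f ≫ g).appLE V W hWV).hom.toAlgebra
  let := (f.appLE U W hWU).hom.toAlgebra
  haveI : Algebra.FinitePresentation Γ(S, V) Γ(X, W) := (f ≫ g).finitePresentation_appLE hV hW hWV
  haveI : Algebra.FiniteType Γ(S, V) Γ(Y, U) := g.finiteType_appLE hV hU hUV
  have h' := (flat_stalkMap_iff (f ≫ g) V hV W hW hWV hx).1 hflat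
  have hq' : Module.Flat Γ(S, V) (LocalizedModule (q'.comap
      (Algebra.TensorProduct.includeRight (R := Γ(S, V)) (A := K) (B := Γ(X, W))).toRingHom).primeCompl Γ(X, W)) :=
    @flat_localized_mono Γ(S, V) Γ(X, W) _ _ _ Γ(X, W) _ _ _ _ _ _ _ _ (le_of_eq hq) h'
  have h2 := flat_of_flat_fibMap q' (hiff.1 h)
  exact (flat_stalkMap_iff f U hU W hW hWU hx).2
    (@flat_localized_mono Γ(Y, U) Γ(X, W) _ _ _ Γ(X, W) _ _ _ _ _ _ _ _ (le_of_eq hq.symm) h2)

/-- If `f` and `f ≫ g` are flat at `x`, then `g` is flat at `f x`. -/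
theorem flat_stalkMap_of_comp_of_flat (x : X) (h : ((f ≫ g).stalkMap x).hom.Flat)
    (hf : (f.stalkMap x).hom.Flat) : (g.stalkMap (f x)).hom.Flat :=
  Descend.flat_stalkMap_of_comp f g x hf h

/-- The map on fibres, in the usual order of factors. -/
noncomputable def fibreMapAt' : pullback (f ≫ g) a ⟶ pullback g a :=
  pullback.map (f ≫ g) a g a f (𝟙 _) (𝟙 _) (by simp) (by simp)

theorem flat_fibreMapAt'_iff (z : ↥(pullback (f ≫ g) a)) :
    ((fibreMapAt' f g a).stalkMap z).hom.Flat ↔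
      ((fibreMapAt f g a).stalkMap ((pullbackSymmetry (f ≫ g) a).hom z)).hom.Flat := by
  rw [← flat_stalkMap_comp_left_iff, ← flat_stalkMap_comp_right_iff _ (pullbackSymmetry g a).hom z]
  have : fibreMapAt' f g a ≫ (pullbackSymmetry g a).hom =
      (pullbackSymmetry (f ≫ g) a).hom ≫ fibreMapAt f g a := by
    apply pullback.hom_ext <;> simp [fibreMapAt, fibreMapAt', pullback.lift_fst, pullback.lift_snd]
  rw [this]

theorem flat_fibreMapAt'_of_flat (z : ↥(pullback (f ≫ g) a))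
    (h : (f.stalkMap (pullback.fst (f ≫ g) a z)).hom.Flat) :
    ((fibreMapAt' f g a).stalkMap z).hom.Flat := by
  rw [flat_fibreMapAt'_iff]
  refine flat_fibreMapAt_of_flat f g a _ (flat_stalkMap_of_eq f ?_ h)
  rw [← Scheme.Hom.comp_apply, pullbackSymmetry_hom_comp_snd]

theorem flat_of_flat_fibreMapAt' [LocallyOfFinitePresentation (f ≫ g)] [LocallyOfFiniteType g]
    (z : ↥(pullback (f ≫ g) a)) (hflat : ((f ≫ g).stalkMap (pullback.fst (f ≫ g) a z)).hom.Flat)
    (h : ((fibreMapAt' f g a).stalkMap z).hom.Flat) :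
    (f.stalkMap (pullback.fst (f ≫ g) a z)).hom.Flat := by
  rw [flat_fibreMapAt'_iff] at h
  have h1 : pullback.snd a (f ≫ g) ((pullbackSymmetry (f ≫ g) a).hom z) =
      pullback.fst (f ≫ g) a z := by
    rw [← Scheme.Hom.comp_apply, pullbackSymmetry_hom_comp_snd]
  exact flat_stalkMap_of_eq f h1
    (flat_of_flat_fibreMapAt f g a _ (flat_stalkMap_of_eq (f ≫ g) h1.symm hflat) h)

end Groth.Agent.FlatH4
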