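import Groth.Agent.Lib.FlatH4.FibreCritAt
import Mathlib.RingTheory.MvPolynomial.Basic
import Mathlib.RingTheory.TensorProduct.MvPolynomial

/-!
# Models of finitely presented data
-/

universe u

namespace Groth.Agent.FlatH4

open TensorProduct LinearMap

/-- Polynomial rings commute with base change. -/
theorem exists_mvPolynomial_model {R A S₀ S : Type u} [CommRing R] [CommRing A] [Algebra R A]
    [CommRing S₀] [Algebra R S₀] [CommRing S] [Algebra A S] (eS : A ⊗[R] S₀ ≃ₐ[A] S) (n : ℕ) :
    ∃ e : A ⊗[R] MvPolynomial (Fin n) S₀ ≃ₐ[A] MvPolynomial (Fin n) S,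
      ∀ p : MvPolynomial (Fin n) S₀, e (1 ⊗ₜ p) =
        MvPolynomial.map (eS.toAlgHom.toRingHom.comp
          (Algebra.TensorProduct.includeRight (R := R) (A := A) (B := S₀)).toRingHom) p := by
  letI : Algebra R S := ((algebraMap A S).comp (algebraMap R A)).toAlgebra
  haveI : IsScalarTower R A S := IsScalarTower.of_algebraMap_eq fun _ => rfl
  let ι : S₀ →ₐ[R] S := (eS.toAlgHom.restrictScalars R).comp Algebra.TensorProduct.includeRight
  let Φ : A ⊗[R] MvPolynomial (Fin n) S₀ →ₐ[A] MvPolynomial (Fin n) S :=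
    Algebra.TensorProduct.lift (Algebra.ofId A _) (MvPolynomial.mapAlgHom ι) fun _ _ => Commute.all _ _
  let c : S →+* A ⊗[R] MvPolynomial (Fin n) S₀ :=
    (Algebra.TensorProduct.map (AlgHom.id A A)
      (IsScalarTower.toAlgHom R S₀ (MvPolynomial (Fin n) S₀))).toRingHom.comp eS.symm.toRingHom
  let Ψ : MvPolynomial (Fin n) S →+* A ⊗[R] MvPolynomial (Fin n) S₀ :=
    MvPolynomial.eval₂Hom c fun i => (1 : A) ⊗ₜ MvPolynomial.X i
  have h1 : Ψ.comp Φ.toRingHom = RingHom.id _ := by
    refine RingHom.ext fun z => ?_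
    induction z using TensorProduct.induction_on with
    | zero => simp
    | add a b ha hb => simp only [map_add, ha, hb]
    | tmul a p =>
      have h : ∀ p : MvPolynomial (Fin n) S₀, Ψ (MvPolynomial.map ι.toRingHom p) = (1 : A) ⊗ₜ p := by
        intro p
        induction p using MvPolynomial.induction_on with
        | C s =>
          rw [MvPolynomial.map_C]
          simp [Ψ, c, ι]
        | add p q hp hq => rw [map_add, map_add, hp, hq, TensorProduct.tmul_add]
        | mul_X p i hp =>
          rw [map_mul, map_mul, hp, MvPolynomial.map_X]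
          simp [Ψ]
      show Ψ (Φ (a ⊗ₜ p)) = a ⊗ₜ p
      rw [Algebra.TensorProduct.lift_tmul, map_mul]
      rw [show Ψ (MvPolynomial.mapAlgHom ι p) = 1 ⊗ₜ p from h p]
      simp [Ψ, c, MvPolynomial.algebraMap_eq, IsScalarTower.algebraMap_apply A S (MvPolynomial (Fin n) S)]
  have h2 : Φ.toRingHom.comp Ψ = RingHom.id _ := by
    refine MvPolynomial.ringHom_ext (fun s => ?_) fun i => ?_
    · obtain ⟨σ, rfl⟩ := eS.surjective s
      induction σ using TensorProduct.induction_on with
      | zero => simp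
      | add a b ha hb => simp only [map_add, ha, hb]
      | tmul a s =>
        simp only [RingHom.comp_apply, RingHom.id_apply]
        have : eS (a ⊗ₜ s) = algebraMap A S a * eS (1 ⊗ₜ s) := by
          rw [← eS.commutes, ← map_mul]
          simp
        simp [Ψ, c, Φ, ι, this, MvPolynomial.algebraMap_eq,
          IsScalarTower.algebraMap_apply A S (MvPolynomial (Fin n) S)]
    · simp [Ψ, Φ]
  refine ⟨AlgEquiv.ofBijective Φ ⟨fun x y h => ?_, fun y => ⟨Ψ y, congr($h2 y)⟩⟩, fun p => ?_⟩
  · rw [← RingHom.id_apply x, ← RingHom.id_apply y, ← h1]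
    exact congrArg Ψ h
  · simp [Φ]
    rfl

/-- A finitely presented module over `A ⊗ T₀`, defined by relations from `T₀`, comes from `T₀`. -/
theorem exists_quotient_model {R A T₀ T : Type u} [CommRing R] [CommRing A] [Algebra R A]
    [CommRing T₀] [Algebra R T₀] [CommRing T] [Algebra A T] (e : A ⊗[R] T₀ ≃ₐ[A] T)
    {ι : Type u} {m : ℕ} (w : ι → Fin m → T₀) (K : Submodule T (Fin m → T))
    (hK : K = Submodule.span T (Set.range fun j => fun i => e ((1 : A) ⊗ₜ w j i))) :
    ∃ eM : A ⊗[R] ((Fin m → T₀) ⧸ Submodule.span T₀ (Set.range w)) ≃ₗ[A] (Fin m → T) ⧸ K,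
      ∀ (t : T₀) (x : (Fin m → T₀) ⧸ Submodule.span T₀ (Set.range w)),
        eM (1 ⊗ₜ (t • x)) = e (1 ⊗ₜ t) • eM (1 ⊗ₜ x) := by
  classical
  letI : Algebra R T := ((algebraMap A T).comp (algebraMap R A)).toAlgebra
  haveI : IsScalarTower R A T := IsScalarTower.of_algebraMap_eq fun _ => rfl
  let μ : T₀ →ₐ[R] T := (e.toAlgHom.restrictScalars R).comp Algebra.TensorProduct.includeRight
  let K₀ : Submodule T₀ (Fin m → T₀) := Submodule.span T₀ (Set.range w)
  let M₀ := (Fin m → T₀) ⧸ K₀
  have he : ∀ p : T₀, e.symm (μ p) = (1 : A) ⊗ₜ p := fun p => e.symm_apply_apply _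
  letI mT := tensorModule R A T₀ M₀
  haveI tT := tensorModule_isScalarTower R A T₀ M₀
  letI : Module T (A ⊗[R] M₀) := Module.compHom _ e.symm.toRingHom
  haveI : IsScalarTower A T (A ⊗[R] M₀) := IsScalarTower.of_algebraMap_smul fun r x => by
    show e.symm (algebraMap A T r) • x = r • x
    rw [AlgEquiv.commutes, algebraMap_smul]
  have hact : ∀ (p : T₀) (x : A ⊗[R] M₀), μ p • x = tensorAct R A T₀ M₀ ((1 : A) ⊗ₜ p) x := by
    intro p x
    show e.symm (μ p) • x = _
    rw [he]
    rfl
  let a : (Fin m → T) →ₗ[T] A ⊗[R] M₀ := Fintype.linearCombination T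
    fun i => (1 : A) ⊗ₜ[R] (Submodule.Quotient.mk (Pi.single i 1) : M₀)
  have ha : ∀ v : Fin m → T₀, a (fun i => μ (v i)) = (1 : A) ⊗ₜ[R] (Submodule.Quotient.mk v : M₀) := by
    intro v
    simp only [a, Fintype.linearCombination_apply, hact, tensorAct_tmul, one_mul, ← tmul_sum]
    congr 1
    rw [← Submodule.mkQ_apply]
    conv_rhs => rw [pi_eq_sum_univ' v]
    rw [map_sum]
    simp
  have haK : K ≤ LinearMap.ker a := by
    rw [hK, Submodule.span_le]
    rintro v ⟨j, rfl⟩
    rw [SetLike.mem_coe, LinearMap.mem_ker]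
    show a (fun i => μ (w j i)) = 0
    rw [ha, (Submodule.Quotient.mk_eq_zero K₀).2 (Submodule.subset_span ⟨j, rfl⟩), tmul_zero]
  let a' : ((Fin m → T) ⧸ K) →ₗ[T] A ⊗[R] M₀ := K.liftQ a haK
  let b₁ : M₀ →ₗ[R] (Fin m → T) ⧸ K :=
    ((K₀.restrictScalars R).liftQ ((K.mkQ.restrictScalars R).comp
      (LinearMap.pi fun i => μ.toLinearMap.comp (LinearMap.proj i))) (by
      intro v hv
      rw [LinearMap.mem_ker, LinearMap.comp_apply, LinearMap.restrictScalars_apply,
        Submodule.mkQ_apply, Submodule.Quotient.mk_eq_zero]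
      show (fun i => μ (v i)) ∈ K
      induction hv using Submodule.span_induction with
      | mem x hx =>
        obtain ⟨y, rfl⟩ := hx
        rw [hK]
        exact Submodule.subset_span ⟨y, rfl⟩
      | zero => simp only [Pi.zero_apply, map_zero]; exact zero_mem _
      | add x y _ _ hx hy => simp only [Pi.add_apply, map_add]; exact add_mem hx hy
      | smul c x _ hx =>
        simp only [Pi.smul_apply, smul_eq_mul, map_mul]
        exact Submodule.smul_mem K (μ c) hx)).comp
      (Submodule.Quotient.restrictScalarsEquiv R K₀).symm.toLinearMap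
  have hb₁ : ∀ v : Fin m → T₀, b₁ (Submodule.Quotient.mk v) = Submodule.Quotient.mk (fun i => μ (v i)) :=
    fun v => rfl
  let b : A ⊗[R] M₀ →ₗ[A] (Fin m → T) ⧸ K := b₁.liftBaseChange A
  have hab : ∀ x, a' (b x) = x := by
    intro x
    induction x using TensorProduct.induction_on with
    | zero => simp
    | add x y hx hy => simp only [map_add, hx, hy]
    | tmul r v =>
      obtain ⟨v, rfl⟩ := Submodule.Quotient.mk_surjective _ v
      rw [LinearMap.liftBaseChange_tmul, hb₁, LinearMap.map_smul_of_tower]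
      show r • a _ = _
      rw [ha, TensorProduct.smul_tmul', smul_eq_mul, mul_one]
  have hba : ∀ x, b (a' x) = x := by
    intro x
    obtain ⟨v, rfl⟩ := Submodule.Quotient.mk_surjective _ x
    have hv : v = ∑ i, v i • Pi.single (M := fun _ : Fin m => T) i 1 := pi_eq_sum_univ' v
    rw [hv]
    simp only [← Submodule.mkQ_apply, map_sum]
    refine Finset.sum_congr rfl fun i _ => ?_
    show b (a (v i • Pi.single i 1)) = _
    rw [show a (v i • Pi.single i 1) = v i • ((1 : A) ⊗ₜ[R] (Submodule.Quotient.mk (Pi.single i 1) : M₀)) from by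
      rw [map_smul]; simp [a, Fintype.linearCombination_apply_single]]
    generalize v i = q
    obtain ⟨σ, rfl⟩ := e.surjective q
    induction σ using TensorProduct.induction_on with
    | zero => simp
    | add p q hp hq => simp only [map_add, add_smul, hp, hq]
    | tmul r p =>
      rw [show e (r ⊗ₜ p) = r • μ p from by
          show _ = r • e (1 ⊗ₜ p)
          rw [← map_smul, TensorProduct.smul_tmul', smul_eq_mul, mul_one],
        smul_assoc, hact, tensorAct_tmul, one_mul, map_smul, LinearMap.liftBaseChange_tmul, one_smul,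
        ← Submodule.Quotient.mk_smul, hb₁, smul_assoc, map_smul_of_tower]
      congr 1
      rw [Submodule.mkQ_apply]
      congr 1
      funext j
      by_cases hj : j = i
      · subst hj; simp
      · simp [hj]
  let Φ : ((Fin m → T) ⧸ K) ≃ₗ[T] A ⊗[R] M₀ :=
    { a' with invFun := b, left_inv := hba, right_inv := hab }
  refine ⟨Φ.symm.restrictScalars A, fun t x => ?_⟩
  show Φ.symm (1 ⊗ₜ (t • x)) = μ t • Φ.symm (1 ⊗ₜ x)
  rw [← map_smul, hact, tensorAct_tmul, one_mul]

/-- Finitely many elements of `S ≅ A ⊗ S₀` come from `B ⊗ S₀` with `B` finitely generated. -/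
theorem exists_subalgebra_subset_range {R A S₀ S : Type u} [CommRing R] [CommRing A] [Algebra R A]
    [CommRing S₀] [Algebra R S₀] [CommRing S] [Algebra A S] (eS : A ⊗[R] S₀ ≃ₐ[A] S)
    (s : Finset S) :
    ∃ B : Subalgebra R A, B.FG ∧ ∀ x ∈ s, ∃ y : B ⊗[R] S₀, eS (B.val.toLinearMap.rTensor S₀ y) = x := by
  classical
  induction s using Finset.induction_on with
  | empty => exact ⟨⊥, Subalgebra.fg_bot, by simp⟩
  | insert a s _ ih =>
    obtain ⟨B, hB, h⟩ := ih
    obtain ⟨B', hB', y', hy'⟩ := TensorProduct.Algebra.exists_of_fg (eS.symm a)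
    refine ⟨B ⊔ B', hB.sup hB', fun x hx => ?_⟩
    rcases Finset.mem_insert.1 hx with rfl | hx
    · refine ⟨(Subalgebra.inclusion (le_sup_right : B' ≤ B ⊔ B')).toLinearMap.rTensor S₀ y', ?_⟩
      rw [← rTensor_comp_apply, ← eS.apply_symm_apply x, ← hy']
      rfl
    · obtain ⟨y, rfl⟩ := h x hx
      refine ⟨(Subalgebra.inclusion (le_sup_left : B ≤ B ⊔ B')).toLinearMap.rTensor S₀ y, ?_⟩
      rw [← rTensor_comp_apply]
      rfl

end Groth.Agent.FlatH4
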