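import Groth.Agent.Lib.FlatH4.PullFlat
import Groth.Agent.Lib.FlatH4.FlatLocusScheme
import Mathlib.RingTheory.Flat.FaithfullyFlat.Basic
import Mathlib.RingTheory.LocalRing.RingHom.Basic

/-!
# Flatness over a base through a flat morphism
-/

universe u

open AlgebraicGeometry CategoryTheory Limits TensorProduct

namespace Groth.Agent.FlatH4

section Alg

variable {A B C M : Type u} [CommRing A] [CommRing B] [CommRing C] [Algebra B C] [Algebra A B]
  [Algebra A C] [IsScalarTower A B C] [AddCommGroup M] [Module A M] [Module B M] [IsScalarTower A B M]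

theorem lTensor_assoc_natural {N N' : Type u} [AddCommGroup N] [Module A N] [AddCommGroup N']
    [Module A N'] (g : N →ₗ[A] N') (z : (C ⊗[B] M) ⊗[A] N) :
    (AlgebraTensorModule.lTensor B M g).lTensor C (AlgebraTensorModule.assoc A B B C M N z) =
      AlgebraTensorModule.assoc A B B C M N' (g.lTensor (C ⊗[B] M) z) := by
  induction z using TensorProduct.induction_on with
  | zero => simp
  | tmul y n =>
    induction y using TensorProduct.induction_on with
    | zero => simp
    | tmul c m => rfl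
    | add a b ha hb => simp only [TensorProduct.add_tmul, map_add, ha, hb]
  | add a b ha hb => simp only [map_add, ha, hb]

/-- Tensoring with a flat algebra keeps flatness over another ring. -/
theorem flat_tensor_of_flat [Module.Flat B C] [Module.Flat A M] : Module.Flat A (C ⊗[B] M) := by
  rw [Module.Flat.iff_lTensor_preserves_injective_linearMap]
  intro N N' _ _ _ _ g hg a b hab
  have h := Module.Flat.lTensor_preserves_injective_linearMap (M := C)
    (AlgebraTensorModule.lTensor B M g) (Module.Flat.lTensor_preserves_injective_linearMap g hg)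
  apply (AlgebraTensorModule.assoc A B B C M N).injective
  apply h
  rw [lTensor_assoc_natural, lTensor_assoc_natural, hab]

/-- Flatness descends along a faithfully flat algebra. -/
theorem flat_of_flat_tensor [Module.FaithfullyFlat B C] [Module.Flat A (C ⊗[B] M)] :
    Module.Flat A M := by
  rw [Module.Flat.iff_lTensor_preserves_injective_linearMap]
  intro N N' _ _ _ _ g hg
  refine (Module.FaithfullyFlat.lTensor_injective_iff_injective B C
    (AlgebraTensorModule.lTensor B M g)).1 ?_
  intro a b hab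
  obtain ⟨a, rfl⟩ := (AlgebraTensorModule.assoc A B B C M N).surjective a
  obtain ⟨b, rfl⟩ := (AlgebraTensorModule.assoc A B B C M N).surjective b
  rw [lTensor_assoc_natural, lTensor_assoc_natural] at hab
  rw [Module.Flat.lTensor_preserves_injective_linearMap g hg
    ((AlgebraTensorModule.assoc A B B C M N').injective hab)]

end Alg

/-- Composition: flat at `f x` and flat over the middle give flatness over the base. -/
theorem isFlatOverAt_comp {X Y S : Scheme.{u}} (f : X ⟶ Y) (g : Y ⟶ S) (F : X.Modules) (x : X)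
    (hg : (g.stalkMap (f x)).hom.Flat) (hf : FlatMod.IsFlatOverAt f F x) :
    FlatMod.IsFlatOverAt (f ≫ g) F x := by
  letI := FlatMod.moduleStalkOver f F x
  letI := FlatMod.moduleStalkOver (f ≫ g) F x
  letI : Algebra (S.presheaf.stalk ((f ≫ g) x)) (Y.presheaf.stalk (f x)) :=
    (g.stalkMap (f x)).hom.toAlgebra
  haveI : Module.Flat (S.presheaf.stalk ((f ≫ g) x)) (Y.presheaf.stalk (f x)) := hg
  haveI : Module.Flat (Y.presheaf.stalk (f x)) (F.presheaf.stalk x) := hf
  haveI : IsScalarTower (S.presheaf.stalk ((f ≫ g) x)) (Y.presheaf.stalk (f x)) (F.presheaf.stalk x) := by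
    refine IsScalarTower.of_algebraMap_smul fun r a => ?_
    show f.stalkMap x (g.stalkMap (f x) r) • a = (f ≫ g).stalkMap x r • a
    rw [Scheme.Hom.stalkMap_comp]
    rfl
  exact Module.Flat.trans (S.presheaf.stalk ((f ≫ g) x)) (Y.presheaf.stalk (f x)) (F.presheaf.stalk x)

/-- Flatness over the base is insensitive to pulling back along a morphism flat at the point. -/
theorem isFlatOverAt_pullback_comp_iff {X Y S : Scheme.{u}} (h : X ⟶ Y) (q : Y ⟶ S) (G : Y.Modules)
    (x : X) (hflat : (h.stalkMap x).hom.Flat) :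
    FlatMod.IsFlatOverAt (h ≫ q) ((Scheme.Modules.pullback h).obj G) x ↔
      FlatMod.IsFlatOverAt q G (h x) := by
  let G' := (Scheme.Modules.pullback h).obj G
  letI := FlatMod.moduleStalkOver q G (h x)
  letI := FlatMod.moduleStalkOver (h ≫ q) G' x
  letI : Algebra (S.presheaf.stalk (q (h x))) (Y.presheaf.stalk (h x)) :=
    (q.stalkMap (h x)).hom.toAlgebra
  haveI : IsScalarTower (S.presheaf.stalk (q (h x))) (Y.presheaf.stalk (h x))
      (G.presheaf.stalk (h x) : Type u) := IsScalarTower.of_algebraMap_smul fun _ _ => rfl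
  haveI : Module.Flat (Y.presheaf.stalk (h x)) (X.presheaf.stalk x) := hflat
  haveI : IsLocalHom (algebraMap (Y.presheaf.stalk (h x)) (X.presheaf.stalk x)) :=
    inferInstanceAs (IsLocalHom (h.stalkMap x).hom)
  haveI : Module.FaithfullyFlat (Y.presheaf.stalk (h x)) (X.presheaf.stalk x) :=
    Module.FaithfullyFlat.of_flat_of_isLocalHom
  letI : Algebra (S.presheaf.stalk (q (h x))) (X.presheaf.stalk x) :=
    ((algebraMap (Y.presheaf.stalk (h x)) (X.presheaf.stalk x)).comp
      (algebraMap (S.presheaf.stalk (q (h x))) (Y.presheaf.stalk (h x)))).toAlgebra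
  haveI : IsScalarTower (S.presheaf.stalk (q (h x))) (Y.presheaf.stalk (h x)) (X.presheaf.stalk x) :=
    IsScalarTower.of_algebraMap_eq fun _ => rfl
  letI : Module (S.presheaf.stalk (q (h x))) (G'.presheaf.stalk x : Type u) :=
    Module.compHom _ (algebraMap (S.presheaf.stalk (q (h x))) (X.presheaf.stalk x))
  let e : (X.presheaf.stalk x) ⊗[Y.presheaf.stalk (h x)] (G.presheaf.stalk (h x) : Type u) ≃ₗ[S.presheaf.stalk (q (h x))]
      (G'.presheaf.stalk x : Type u) :=
    { (M2.pullStalkEquiv h x G).toAddEquiv with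
      map_smul' := fun r z => by
        show M2.pullStalkEquiv h x G (r • z) =
          algebraMap (S.presheaf.stalk (q (h x))) (X.presheaf.stalk x) r • M2.pullStalkEquiv h x G z
        rw [← map_smul, algebraMap_smul] }
  have hiff : FlatMod.IsFlatOverAt (h ≫ q) G' x ↔
      Module.Flat (S.presheaf.stalk (q (h x))) (G'.presheaf.stalk x : Type u) := by
    show Module.Flat (S.presheaf.stalk ((h ≫ q) x)) (G'.presheaf.stalk x) ↔ _
    have hm : FlatMod.moduleStalkOver (h ≫ q) G' x =
        (Module.compHom (G'.presheaf.stalk x : Type u) (algebraMap (S.presheaf.stalk (q (h x))) (X.presheaf.stalk x)) : Module (S.presheaf.stalk (q (h x))) (G'.presheaf.stalk x : Type u)) := by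
      unfold FlatMod.moduleStalkOver
      congr 1
      rw [Scheme.Hom.stalkMap_comp]
      rfl
    exact iff_of_eq (congrArg (fun inst : Module (S.presheaf.stalk (q (h x))) (G'.presheaf.stalk x : Type u) =>
      @Module.Flat (S.presheaf.stalk (q (h x))) (G'.presheaf.stalk x : Type u) _ _ inst) hm)
  rw [hiff]
  constructor
  · intro hG'
    haveI := hG'
    haveI := Module.Flat.of_linearEquiv e
    exact flat_of_flat_tensor (A := S.presheaf.stalk (q (h x))) (B := Y.presheaf.stalk (h x))
      (C := X.presheaf.stalk x) (M := (G.presheaf.stalk (h x) : Type u))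
  · intro hG
    haveI : Module.Flat (S.presheaf.stalk (q (h x))) (G.presheaf.stalk (h x) : Type u) := hG
    haveI := flat_tensor_of_flat (A := S.presheaf.stalk (q (h x))) (B := Y.presheaf.stalk (h x))
      (C := X.presheaf.stalk x) (M := (G.presheaf.stalk (h x) : Type u))
    exact Module.Flat.of_linearEquiv e.symm

/-- Flatness of a stalk map is stable under base change. -/
theorem flat_stalkMap_baseChange {X Y X' Y' : Scheme.{u}} {f : X ⟶ Y} {f' : X' ⟶ Y'} {gX : X' ⟶ X}
    {gY : Y' ⟶ Y} (H : IsPullback gX f' f gY) (x' : X') (hg : (gY.stalkMap (f' x')).hom.Flat) :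
    (gX.stalkMap x').hom.Flat := by
  have hyy : gY (f' x') = f (gX x') := by rw [← Scheme.Hom.comp_apply, ← H.w]; rfl
  obtain ⟨U, hU, hyU, -⟩ :=
    exists_isAffineOpen_mem_and_subset (X := Y) (x := f (gX x')) (U := ⊤) trivial
  obtain ⟨U', hU', hyU', hUU'⟩ :=
    exists_isAffineOpen_mem_and_subset (X := Y') (x := f' x') (U := gY ⁻¹ᵁ U)
      (show gY (f' x') ∈ U by rw [hyy]; exact hyU)
  obtain ⟨W, hW, hxW, hWU⟩ :=
    exists_isAffineOpen_mem_and_subset (X := X) (x := gX x') (U := f ⁻¹ᵁ U) hyU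
  let W' := gX ⁻¹ᵁ W ⊓ f' ⁻¹ᵁ U'
  have hW' : IsAffineOpen W' := isAffineOpen_of_isPullback H hUU' hWU rfl hU hU' hW
  have hx' : x' ∈ W' := ⟨hxW, hyU'⟩
  have eX : W' ≤ gX ⁻¹ᵁ W := inf_le_left
  have eY : W' ≤ f' ⁻¹ᵁ U' := inf_le_right
  letI : Algebra Γ(Y, U) Γ(Y', U') := (gY.appLE U U' hUU').hom.toAlgebra
  letI : Algebra Γ(Y, U) Γ(X, W) := (f.appLE U W hWU).hom.toAlgebra
  letI : Algebra Γ(Y', U') Γ(X', W') := (f'.appLE U' W' eY).hom.toAlgebra
  letI : Algebra Γ(X, W) Γ(X', W') := (gX.appLE W W' eX).hom.toAlgebra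
  letI : Algebra Γ(Y, U) Γ(X', W') :=
    ((algebraMap Γ(X, W) Γ(X', W')).comp (algebraMap Γ(Y, U) Γ(X, W))).toAlgebra
  haveI : IsScalarTower Γ(Y, U) Γ(X, W) Γ(X', W') := IsScalarTower.of_algebraMap_eq fun _ => rfl
  haveI : IsScalarTower Γ(Y, U) Γ(Y', U') Γ(X', W') := IsScalarTower.of_algebraMap_eq fun r => by
    show (f.appLE U W hWU ≫ gX.appLE W W' eX) r = (gY.appLE U U' hUU' ≫ f'.appLE U' W' eY) r
    rw [Scheme.Hom.appLE_comp_appLE, Scheme.Hom.appLE_comp_appLE]
    simp only [H.w]
  haveI hP := algebra_isPushout_sections H hUU' hWU (UY := W') rfl hU hU' hW rfl rfl rfl rfl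
  haveI := hP.symm
  rw [flat_stalkMap_iff gX W hW W' hW' eX hx']
  let q' := (hW'.primeIdealOf ⟨x', hx'⟩).asIdeal
  haveI : Module.Flat Γ(Y, U) (LocalizedModule (q'.comap (algebraMap Γ(Y', U') Γ(X', W'))).primeCompl
      Γ(Y', U')) := by
    have hq : (q'.comap (algebraMap Γ(Y', U') Γ(X', W'))).primeCompl =
        (hU'.primeIdealOf ⟨f' x', hyU'⟩).asIdeal.primeCompl := SetLike.ext fun z => not_congr (by
      rw [congr($(IsAffineOpen.comap_primeIdealOf_appLE U' hU' W' hW' eY hx').1).symm]; rfl)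
    rw [hq]
    exact (flat_stalkMap_iff gY U hU U' hU' hUU' hyU').1 hg
  refine flat_localized_baseChange (R := Γ(Y, U)) (S := Γ(Y', U')) (M := Γ(Y', U')) Γ(X, W)
    (algebraMap Γ(Y', U') Γ(X', W')) q'
    (Algebra.IsPushout.equiv Γ(Y, U) Γ(X, W) Γ(Y', U') Γ(X', W')).toLinearEquiv ?_
  intro s m
  show Algebra.IsPushout.equiv Γ(Y, U) Γ(X, W) Γ(Y', U') Γ(X', W') (1 ⊗ₜ (s • m)) = _ • _
  rw [Algebra.IsPushout.equiv_tmul, smul_eq_mul, map_mul]
  show _ = algebraMap Γ(Y', U') Γ(X', W') s * Algebra.IsPushout.equiv Γ(Y, U) Γ(X, W) Γ(Y', U') Γ(X', W') (1 ⊗ₜ m)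
  rw [Algebra.IsPushout.equiv_tmul, map_one, one_mul, one_mul]

/-- Descent of flatness over the base along a base change flat at the point. -/
theorem isFlatOverAt_of_baseChange_of_flat {X S X' S' : Scheme.{u}} {f : X ⟶ S} {f' : X' ⟶ S'}
    {g' : X' ⟶ X} {g : S' ⟶ S} (hc : IsPullback g' f' f g) (F : X.Modules) (x' : X')
    (hg : (g.stalkMap (f' x')).hom.Flat)
    (h : FlatMod.IsFlatOverAt f' ((Scheme.Modules.pullback g').obj F) x') :
    FlatMod.IsFlatOverAt f F (g' x') := by
  rw [← isFlatOverAt_pullback_comp_iff g' f F x' (flat_stalkMap_baseChange hc x' hg), hc.w]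
  exact isFlatOverAt_comp f' g _ x' hg h

end Groth.Agent.FlatH4
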