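import Mathlib.RingTheory.Flat.Basic
import Mathlib.RingTheory.Flat.Stability
import Mathlib.RingTheory.Flat.Localization
import Mathlib.RingTheory.Spectrum.Prime.FreeLocus
import Mathlib.RingTheory.Polynomial.Basic
import Mathlib.RingTheory.FiniteType
import Mathlib.LinearAlgebra.TensorProduct.RightExactness

/-!
# Generic freeness over Noetherian domains
-/

universe u

namespace Groth.Agent.FlatH4

open TensorProduct LinearMap

/-- An increasing exhaustive chain with free quotients has free union. -/
theorem free_of_chain {A L : Type u} [CommRing A] [AddCommGroup L] [Module A L]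
    (Ls : ℕ → Submodule A L) (h0 : Ls 0 = ⊥) (hmono : Monotone Ls)
    (htop : ∀ x, ∃ j, x ∈ Ls j)
    (h : ∀ j, ∃ (Q L' : Type u) (_ : AddCommGroup Q) (_ : Module A Q) (_ : AddCommGroup L')
      (_ : Module A L') (p : L →ₗ[A] L') (i : Q →ₗ[A] L'), Module.Free A Q ∧
      LinearMap.ker p = Ls j ∧ Function.Injective i ∧
      LinearMap.range i = (Ls (j + 1)).map p) : Module.Free A L := by
  choose Q L' iQ mQ iL mL p i hfree hker hinj hrange using h
  let b := fun j => Module.Free.chooseBasis A (Q j)
  have hlift : ∀ j k, ∃ v ∈ Ls (j + 1), p j v = i j (b j k) := fun j k =>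
    Submodule.mem_map.1 (hrange j ▸ LinearMap.mem_range_self _ _)
  choose v hv hpv using hlift
  let V : (Σ j, Module.Free.ChooseBasisIndex A (Q j)) → L := fun x => v x.1 x.2
  have hspan : ∀ j, Ls j ≤ Submodule.span A (Set.range V) := by
    intro j
    induction j with
    | zero => simp [h0]
    | succ j ih =>
      intro x hx
      obtain ⟨q, hq⟩ : p j x ∈ LinearMap.range (i j) := hrange j ▸ Submodule.mem_map_of_mem hx
      let y := (b j).repr q |>.sum fun k a => a • v j k
      have hy : y ∈ Submodule.span A (Set.range V) :=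
        Submodule.sum_mem _ fun k _ => Submodule.smul_mem _ _ (Submodule.subset_span ⟨⟨j, k⟩, rfl⟩)
      have hpy : p j y = p j x := by
        rw [← hq]
        conv_rhs => rw [← (b j).linearCombination_repr q]
        simp only [y, map_finsuppSum, map_smul, hpv, Finsupp.linearCombination_apply]
      have : x - y ∈ Ls j := by rw [← hker j, LinearMap.mem_ker, map_sub, hpy, sub_self]
      simpa using add_mem (ih this) hy
  have hli : LinearIndependent A V := by
    classical
    rw [linearIndependent_iff']
    intro s g hg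
    by_contra hne
    push Not at hne
    let T := (s.filter fun x => g x ≠ 0).image Sigma.fst
    have hT : T.Nonempty := by
      obtain ⟨x, hx, hgx⟩ := hne
      exact ⟨x.1, Finset.mem_image.2 ⟨x, Finset.mem_filter.2 ⟨hx, hgx⟩, rfl⟩⟩
    set J := T.max' hT with hJ
    have hzero : ∀ x ∈ s, x.1 ≠ J → p J (g x • V x) = 0 := by
      intro x hx hxJ
      by_cases hgx : g x = 0
      · simp [hgx]
      · have hlt : x.1 < J := lt_of_le_of_ne (T.le_max' _
          (Finset.mem_image.2 ⟨x, Finset.mem_filter.2 ⟨hx, hgx⟩, rfl⟩)) hxJ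
        rw [← LinearMap.mem_ker, hker J]
        exact hmono (Nat.succ_le_of_lt hlt) (Submodule.smul_mem _ _ (hv _ _))
    let s' := s.preimage (Sigma.mk J) sigma_mk_injective.injOn
    have hsum : ∑ k ∈ s', g ⟨J, k⟩ • b J k = 0 := by
      apply hinj J
      rw [map_sum, map_zero, ← map_zero (p J), ← hg, map_sum]
      rw [← Finset.sum_filter_add_sum_filter_not s (fun x => x.1 = J) fun x => p J (g x • V x),
        Finset.sum_eq_zero (s := s.filter fun x => ¬x.1 = J) (fun x hx => hzero x
          (Finset.mem_filter.1 hx).1 (Finset.mem_filter.1 hx).2), add_zero]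
      refine Finset.sum_bij (fun k _ => (⟨J, k⟩ : Σ j, Module.Free.ChooseBasisIndex A (Q j))) ?_ ?_ ?_ ?_
      · intro k hk
        exact Finset.mem_filter.2 ⟨Finset.mem_preimage.1 hk, rfl⟩
      · intro a _ c _ hac
        exact sigma_mk_injective (i := J) hac
      · rintro ⟨j, k⟩ hx
        obtain ⟨hxs, rfl⟩ := Finset.mem_filter.1 hx
        exact ⟨k, Finset.mem_preimage.2 hxs, rfl⟩
      · intro k _
        simp [V, hpv]
    have hall := linearIndependent_iff'.1 (b J).linearIndependent s' _ hsum
    obtain ⟨⟨j, k⟩, hx, hjJ⟩ := Finset.mem_image.1 (T.max'_mem hT)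
    obtain ⟨hxs, hgx⟩ := Finset.mem_filter.1 hx
    subst hjJ
    exact hgx (hall k (Finset.mem_preimage.2 hxs))
  exact Module.Free.of_basis (Module.Basis.mk hli fun x _ =>
    let ⟨j, hj⟩ := htop x; hspan j hj)

variable (R : Type u) [CommRing R]

/-- `M` becomes free over every flat `R`-algebra in which a suitable nonzero element is a unit. -/
def GenFree (M : Type u) [AddCommGroup M] [Module R M] : Prop :=
  ∃ f : R, f ≠ 0 ∧ ∀ (R' : Type u) [CommRing R'] [Algebra R R'], Module.Flat R R' →
    IsUnit (algebraMap R R' f) → Module.Free R' (R' ⊗[R] M)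

variable {R}

theorem range_baseChange_le {R' A B C : Type u} [CommRing R'] [Algebra R R']
    [AddCommGroup A] [Module R A] [AddCommGroup B] [Module R B] [AddCommGroup C] [Module R C]
    (f : A →ₗ[R] C) (g : B →ₗ[R] C) (h : LinearMap.range f ≤ LinearMap.range g) :
    LinearMap.range (f.baseChange R') ≤ LinearMap.range (g.baseChange R') := by
  rintro _ ⟨x, rfl⟩
  induction x using TensorProduct.induction_on with
  | zero => simp
  | tmul r a =>
    obtain ⟨b, hb⟩ := h ⟨a, rfl⟩
    exact ⟨r ⊗ₜ b, by simp [hb]⟩
  | add a b ha hb => rw [map_add]; exact add_mem ha hb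

theorem GenFree.of_isDomain_finite [IsDomain R] [IsNoetherianRing R] (M : Type u) [AddCommGroup M]
    [Module R M] [Module.Finite R M] : GenFree R M := by
  haveI : Module.FinitePresentation R M := Module.finitePresentation_of_finite R M
  let K := FractionRing R
  haveI : Module.Free K (LocalizedModule (nonZeroDivisors R) M) := inferInstance
  obtain ⟨r, hr, hfree, -⟩ := Module.FinitePresentation.exists_free_localizedModule_powers
    (nonZeroDivisors R) (LocalizedModule.mkLinearMap (nonZeroDivisors R) M) K
  refine ⟨r, nonZeroDivisors.ne_zero hr, fun R' _ _ _ hu => ?_⟩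
  let Rr := Localization.Away r
  let φ : Rr →+* R' := IsLocalization.Away.lift r hu
  letI : Algebra Rr R' := φ.toAlgebra
  haveI : IsScalarTower R Rr R' := IsScalarTower.of_algebraMap_eq fun x =>
    (IsLocalization.Away.lift_eq r hu x).symm
  haveI : Module.Free Rr (Rr ⊗[R] M) :=
    Module.Free.of_equiv (LocalizedModule.equivTensorProduct (Submonoid.powers r) M)
  exact Module.Free.of_equiv (AlgebraTensorModule.cancelBaseChange R Rr R' R' M)

theorem GenFree.of_generating_endomorphism [IsDomain R] {P : Type u} [CommRing P] [Algebra R P]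
    [IsNoetherianRing P]
    (IH : ∀ (Q : Type u) [AddCommGroup Q] [Module R Q] [Module P Q] [IsScalarTower R P Q]
      [Module.Finite P Q], GenFree R Q)
    {M : Type u} [AddCommGroup M] [Module R M] [Module P M] [IsScalarTower R P M]
    (x : M →ₗ[P] M) (N : Submodule P M) (hN : N.FG)
    (hgen : ∀ U : Submodule P M, N ≤ U → U.map x ≤ U → U = ⊤) : GenFree R M := by
  let Ns : ℕ → Submodule P M := fun j => (fun U : Submodule P M => N ⊔ U.map x)^[j] ⊥
  have hsucc : ∀ j, Ns (j + 1) = N ⊔ (Ns j).map x := fun j => Function.iterate_succ_apply' _ j ⊥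
  have hmono : Monotone Ns := monotone_nat_of_le_succ fun j => by
    induction j with
    | zero => exact bot_le
    | succ j ih =>
      rw [hsucc j, hsucc (j + 1)]
      exact sup_le_sup le_rfl (Submodule.map_mono ih)
  have hpow : ∀ j, Ns (j + 1) = Ns j ⊔ N.map (x ^ j) := by
    intro j
    induction j with
    | zero =>
      show N ⊔ Submodule.map x ⊥ = ⊥ ⊔ N.map (x ^ 0)
      simp only [Submodule.map_bot, sup_bot_eq, bot_sup_eq, pow_zero, Module.End.one_eq_id,
        Submodule.map_id]
    | succ j ih =>
      rw [hsucc (j + 1)]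
      conv_lhs => rw [ih, Submodule.map_sup, ← Submodule.map_comp, ← sup_assoc, ← hsucc j]
      rw [pow_succ', Module.End.mul_eq_comp]
  let ψ : ∀ j : ℕ, N →ₗ[P] M ⧸ Ns j := fun j => ((Ns j).mkQ ∘ₗ ((x ^ j : Module.End P M) : M →ₗ[P] M)) ∘ₗ N.subtype
  let ker' : ℕ →o Submodule P N := ⟨fun j => LinearMap.ker (ψ j), monotone_nat_of_le_succ fun j y hy => by
    simp only [ψ, LinearMap.mem_ker, LinearMap.comp_apply, Submodule.mkQ_apply,
      Submodule.Quotient.mk_eq_zero] at hy ⊢
    rw [pow_succ', Module.End.mul_apply, hsucc j]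
    exact Submodule.mem_sup_right (Submodule.mem_map_of_mem hy)⟩
  haveI : Module.Finite P N := Module.Finite.iff_fg.2 hN
  haveI : IsNoetherian P N := isNoetherian_of_isNoetherianRing_of_finite P N
  obtain ⟨k, hk⟩ := monotone_stabilizes_iff_noetherian.2 inferInstance ker'
  have hQ : ∀ j, GenFree R (N ⧸ LinearMap.ker (ψ j)) := fun j => IH _
  choose f hf0 hf using hQ
  refine ⟨∏ j ∈ Finset.range (k + 1), f j, Finset.prod_ne_zero_iff.2 fun j _ => hf0 j,
    fun R' _ _ hflat hu => ?_⟩
  have hunit : ∀ j ≤ k, IsUnit (algebraMap R R' (f j)) := fun j hj => by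
    rw [map_prod] at hu
    exact isUnit_of_dvd_unit (Finset.dvd_prod_of_mem (fun i => algebraMap R R' (f i)) (Finset.mem_range.2 (Nat.lt_succ_of_le hj))) hu
  have hfree : ∀ j, Module.Free R' (R' ⊗[R] (N ⧸ LinearMap.ker (ψ j))) := by
    intro j
    rcases le_total j k with hj | hj
    · exact hf j R' hflat (hunit j hj)
    · have : LinearMap.ker (ψ j) = LinearMap.ker (ψ k) := (hk j hj).symm
      rw [this]
      exact hf k R' hflat (hunit k le_rfl)
  refine free_of_chain (fun j => LinearMap.range (((Ns j).subtype.restrictScalars R).baseChange R'))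
    ?_ ?_ ?_ fun j => ?_
  · rw [eq_bot_iff]
    rintro _ ⟨z, rfl⟩
    induction z using TensorProduct.induction_on with
    | zero => simp
    | tmul r a =>
      have : (a : M) = 0 := (Submodule.mem_bot P).1 a.2
      simp [this]
    | add a b ha hb => rw [map_add]; exact add_mem ha hb
  · exact fun a b hab => range_baseChange_le _ _ fun y hy => by
      obtain ⟨⟨y, hy'⟩, rfl⟩ := hy
      exact ⟨⟨y, hmono hab hy'⟩, rfl⟩
  · intro z
    have htop : (⨆ j, Ns j) = ⊤ := hgen _ (le_trans (by rw [hsucc 0]; exact le_sup_left) (le_iSup Ns 1))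
      (by
        rw [Submodule.map_iSup]
        exact iSup_le fun j => le_trans le_sup_right ((hsucc j).ge.trans (le_iSup Ns (j + 1))))
    induction z using TensorProduct.induction_on with
    | zero => exact ⟨0, zero_mem _⟩
    | tmul r m =>
      obtain ⟨j, hj⟩ := (Submodule.mem_iSup_of_directed Ns hmono.directed_le).1
        (htop.ge (Submodule.mem_top (x := m)))
      exact ⟨j, r ⊗ₜ ⟨m, hj⟩, by simp⟩
    | add a b ha hb =>
      obtain ⟨i, hi⟩ := ha
      obtain ⟨j, hj⟩ := hb
      have hle : ∀ {a b : ℕ}, a ≤ b →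
          LinearMap.range (((Ns a).subtype.restrictScalars R).baseChange R') ≤
            LinearMap.range (((Ns b).subtype.restrictScalars R).baseChange R') := fun hab =>
        range_baseChange_le _ _ fun y hy => by
          obtain ⟨⟨y, hy'⟩, rfl⟩ := hy
          exact ⟨⟨y, hmono hab hy'⟩, rfl⟩
      exact ⟨max i j, add_mem (hle (le_max_left i j) hi) (hle (le_max_right i j) hj)⟩
  · let i₀ : (N ⧸ LinearMap.ker (ψ j)) →ₗ[P] M ⧸ Ns j := (LinearMap.ker (ψ j)).liftQ (ψ j) le_rfl
    refine ⟨R' ⊗[R] (N ⧸ LinearMap.ker (ψ j)), R' ⊗[R] (M ⧸ Ns j), inferInstance, inferInstance,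
      inferInstance, inferInstance, ((Ns j).mkQ.restrictScalars R).baseChange R',
      (i₀.restrictScalars R).baseChange R', hfree j, ?_, ?_, ?_⟩
    · have hex : Function.Exact ((Ns j).subtype.restrictScalars R) ((Ns j).mkQ.restrictScalars R) :=
        LinearMap.exact_subtype_mkQ (Ns j)
      have hs : Function.Surjective ((Ns j).mkQ.restrictScalars R) := (Ns j).mkQ_surjective
      ext z
      simp only [LinearMap.mem_ker, LinearMap.mem_range, LinearMap.baseChange_eq_ltensor]
      exact (lTensor_exact R' hex hs) z
    · have hi : Function.Injective i₀ := LinearMap.ker_eq_bot.1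
        (Submodule.ker_liftQ_eq_bot (LinearMap.ker (ψ j)) (ψ j) le_rfl le_rfl)
      have hi' : Function.Injective (i₀.restrictScalars R) := fun a b h => hi h
      intro a b h
      exact Module.Flat.lTensor_preserves_injective_linearMap (M := R') (i₀.restrictScalars R) hi' h
    · rw [← LinearMap.range_comp, ← LinearMap.baseChange_comp]
      have heq : LinearMap.range (i₀.restrictScalars R) =
          LinearMap.range (((Ns j).mkQ.restrictScalars R) ∘ₗ ((Ns (j + 1)).subtype.restrictScalars R)) := by
        apply le_antisymm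
        · rintro _ ⟨q, rfl⟩
          obtain ⟨y, rfl⟩ := Submodule.mkQ_surjective _ q
          exact ⟨⟨(x ^ j) y, (hpow j).ge (Submodule.mem_sup_right (Submodule.mem_map_of_mem y.2))⟩, rfl⟩
        · rintro _ ⟨⟨z, hz⟩, rfl⟩
          obtain ⟨a, ha, _, ⟨y, hy, rfl⟩, rfl⟩ := Submodule.mem_sup.1 ((hpow j).le hz)
          refine ⟨Submodule.mkQ _ ⟨y, hy⟩, ?_⟩
          show (Ns j).mkQ ((x ^ j) y) = (Ns j).mkQ (a + (x ^ j) y)
          simp only [map_add, Submodule.mkQ_apply, (Submodule.Quotient.mk_eq_zero _).2 ha, zero_add]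
      exact le_antisymm (range_baseChange_le _ _ heq.le) (range_baseChange_le _ _ heq.ge)

theorem GenFree.of_mvPolynomial [IsDomain R] [IsNoetherianRing R] :
    ∀ (n : ℕ) (M : Type u) [AddCommGroup M] [Module R M] [Module (MvPolynomial (Fin n) R) M]
      [IsScalarTower R (MvPolynomial (Fin n) R) M] [Module.Finite (MvPolynomial (Fin n) R) M],
      GenFree R M := by
  intro n
  induction n with
  | zero =>
    intro M _ _ _ _ _
    haveI : Module.Finite R (MvPolynomial (Fin 0) R) :=
      Module.Finite.equiv (MvPolynomial.isEmptyAlgEquiv R (Fin 0)).symm.toLinearEquiv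
    haveI : Module.Finite R M := Module.Finite.trans (MvPolynomial (Fin 0) R) M
    exact GenFree.of_isDomain_finite M
  | succ n ih =>
    intro M _ _ _ _ hfin
    let ι : MvPolynomial (Fin n) R →ₐ[R] MvPolynomial (Fin (n + 1)) R :=
      MvPolynomial.rename Fin.succ
    letI : Module (MvPolynomial (Fin n) R) M := Module.compHom M ι.toRingHom
    haveI : IsScalarTower R (MvPolynomial (Fin n) R) M := IsScalarTower.of_algebraMap_smul fun r m => by
      show ι (algebraMap R _ r) • m = r • m
      rw [AlgHom.commutes, algebraMap_smul]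
    let x : M →ₗ[MvPolynomial (Fin n) R] M :=
      { toFun := fun m => (MvPolynomial.X 0 : MvPolynomial (Fin (n + 1)) R) • m
        map_add' := fun a b => smul_add _ a b
        map_smul' := fun p m => by
          show (MvPolynomial.X 0 : MvPolynomial (Fin (n + 1)) R) • ι p • m =
            ι p • (MvPolynomial.X 0 : MvPolynomial (Fin (n + 1)) R) • m
          rw [← mul_smul, mul_comm, mul_smul] }
    obtain ⟨s, hs⟩ := hfin.fg_top
    refine GenFree.of_generating_endomorphism (fun Q _ _ _ _ _ => ih Q) x
      (Submodule.span _ (s : Set M)) (Submodule.fg_span s.finite_toSet) fun U hU hxU => ?_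
    rw [eq_top_iff]
    intro m _
    have hstable : ∀ (p : MvPolynomial (Fin (n + 1)) R), ∀ u ∈ U, p • u ∈ U := by
      intro p
      induction p using MvPolynomial.induction_on with
      | C r =>
        intro u hu
        have := U.smul_mem (algebraMap R (MvPolynomial (Fin n) R) r) hu
        rw [algebraMap_smul] at this
        rwa [← MvPolynomial.algebraMap_eq, algebraMap_smul]
      | add p q hp hq => intro u hu; rw [add_smul]; exact add_mem (hp u hu) (hq u hu)
      | mul_X p i hp =>
        intro u hu
        rw [mul_smul]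
        refine hp _ ?_
        induction i using Fin.cases with
        | zero => exact hxU (Submodule.mem_map_of_mem (f := x) hu)
        | succ i =>
          have : ι (MvPolynomial.X i) • u ∈ U := U.smul_mem (MvPolynomial.X i) hu
          simpa [ι] using this
    have hm : m ∈ Submodule.span (MvPolynomial (Fin (n + 1)) R) (s : Set M) := hs.ge Submodule.mem_top
    induction hm using Submodule.span_induction with
    | mem y hy => exact hU (Submodule.subset_span hy)
    | zero => exact zero_mem _
    | add a b _ _ ha hb => exact add_mem (ha trivial) (hb trivial)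
    | smul p a _ ha => exact hstable p a (ha trivial)

/-- Generic freeness over a Noetherian domain. -/
theorem GenFree.of_finiteType [IsDomain R] [IsNoetherianRing R] (S M : Type u) [CommRing S]
    [Algebra R S] [Algebra.FiniteType R S] [AddCommGroup M] [Module R M] [Module S M]
    [IsScalarTower R S M] [Module.Finite S M] : GenFree R M := by
  obtain ⟨n, φ, hφ⟩ := Algebra.FiniteType.iff_quotient_mvPolynomial''.1 ‹Algebra.FiniteType R S›
  letI : Algebra (MvPolynomial (Fin n) R) S := φ.toRingHom.toAlgebra
  letI : Module (MvPolynomial (Fin n) R) M := Module.compHom M φ.toRingHom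
  haveI : IsScalarTower (MvPolynomial (Fin n) R) S M :=
    IsScalarTower.of_algebraMap_smul fun p m => rfl
  haveI : IsScalarTower R (MvPolynomial (Fin n) R) M := IsScalarTower.of_algebraMap_smul fun r m => by
    show φ (algebraMap R _ r) • m = r • m
    rw [AlgHom.commutes, algebraMap_smul]
  haveI : Module.Finite (MvPolynomial (Fin n) R) S :=
    Module.Finite.of_surjective (Algebra.linearMap _ S) hφ
  haveI : Module.Finite (MvPolynomial (Fin n) R) M := Module.Finite.trans S M
  exact GenFree.of_mvPolynomial n M

end Groth.Agent.FlatH4
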