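import Mathlib.AlgebraicGeometry.Morphisms.QuasiFinite
import Mathlib.AlgebraicGeometry.ZariskisMainTheorem
import Mathlib.RingTheory.Artinian.Module
import Mathlib.RingTheory.Ideal.Operations
import Mathlib.LinearAlgebra.Dimension.Finite
import Mathlib.LinearAlgebra.Dimension.Constructions

/-! Boundedness of the number of points of geometric fibres of quasi-finite morphisms. -/

universe u

open AlgebraicGeometry CategoryTheory Limits TensorProduct

noncomputable section

namespace Groth.Agent.FlatH4

/-- the number of points of every fibre over a field-valued point is at most `d` -/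
def FibLE {X Y : Scheme.{u}} (f : X ⟶ Y) (d : ℕ) : Prop :=
  ∀ (K : Type u) [Field K] (g : Spec (.of K) ⟶ Y), ENat.card ↥(pullback f g) ≤ d

theorem enatCard_primeSpectrum_le (K R : Type u) [Field K] [CommRing R] [Algebra K R]
    [Module.Finite K R] : ENat.card (PrimeSpectrum R) ≤ Module.finrank K R := by
  classical
  have : IsArtinianRing R := IsArtinianRing.of_finite K R
  have : Fintype (PrimeSpectrum R) := Fintype.ofFinite _
  have hmax : ∀ p : PrimeSpectrum R, p.asIdeal.IsMaximal := fun p => IsArtinianRing.isMaximal_of_isPrime p.asIdeal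
  have hcop : Pairwise fun p q : PrimeSpectrum R => IsCoprime p.asIdeal q.asIdeal := by
    intro p q hpq
    exact Ideal.isCoprime_iff_sup_eq.mpr
      ((hmax p).coprime_of_ne (hmax q) fun h => hpq (PrimeSpectrum.ext h))
  choose e he using fun p : PrimeSpectrum R => Ideal.pi_quotient_surjective hcop (Pi.single p (1 : R ⧸ p.asIdeal))
  have hli : LinearIndependent K e := by
    rw [Fintype.linearIndependent_iff]
    intro c hc p
    have := congrArg (Ideal.Quotient.mk p.asIdeal) hc
    rw [map_sum, map_zero, Finset.sum_eq_single p] at this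
    · rw [Algebra.smul_def, map_mul, he p p, Pi.single_eq_same, mul_one,
        Ideal.Quotient.eq_zero_iff_mem] at this
      by_contra hne
      exact p.2.ne_top (Ideal.eq_top_of_isUnit_mem _ this ((IsUnit.mk0 _ hne).map _))
    · intro q _ hq
      rw [Algebra.smul_def, map_mul, he q p, Pi.single_eq_of_ne (Ne.symm hq), mul_zero]
    · intro h; exact absurd (Finset.mem_univ p) h
  rw [ENat.card_eq_coe_fintype_card]
  exact_mod_cast hli.fintype_card_le_finrank

theorem enatCard_le_of_injective {X X' : Scheme.{u}} (i : X ⟶ X') (h : Function.Injective i) :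
    ENat.card X ≤ ENat.card X' := by
  exact ENat.card_le_card_of_injective h

theorem fibLE_Spec_finite (A C : Type u) [CommRing A] [CommRing C] [Algebra A C] (n : ℕ)
    (c : Fin n → C) (hc : Submodule.span A (Set.range c) = ⊤) :
    FibLE (Spec.map (CommRingCat.ofHom (algebraMap A C))) n := by
  intro K _ g
  obtain ⟨φ, rfl⟩ := Spec.map_surjective g
  algebraize [φ.hom]
  have e := pullbackSpecIso A C K
  have h2 : ENat.card ↥(pullback (Spec.map (CommRingCat.ofHom (algebraMap A C))) (Spec.map φ)) ≤
      ENat.card ↥(Spec (CommRingCat.of (C ⊗[A] K))) :=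
    enatCard_le_of_injective (pullbackSpecIso A C K).hom
      ((pullbackSpecIso A C K).hom.isOpenEmbedding.injective)
  refine h2.trans ?_
  let f : PrimeSpectrum (C ⊗[A] K) → PrimeSpectrum (K ⊗[A] C) :=
    PrimeSpectrum.comap (Algebra.TensorProduct.comm A K C).toRingEquiv.toRingHom
  have hf : Function.Injective f :=
    PrimeSpectrum.comap_injective_of_surjective _ (Algebra.TensorProduct.comm A K C).surjective
  refine (ENat.card_le_card_of_injective hf).trans ?_
  have hspan := Submodule.baseChange_eq_span (A := K) (p := Submodule.span A (Set.range c))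
  rw [hc, Submodule.baseChange_top, Submodule.map_top] at hspan
  have hs : Submodule.span K (Set.range fun j => (1 : K) ⊗ₜ[A] c j) = ⊤ := by
    rw [eq_top_iff]
    rintro z -
    induction z using TensorProduct.induction_on with
    | zero => exact zero_mem _
    | tmul k x =>
      have hx : x ∈ Submodule.span A (Set.range c) := hc ▸ Submodule.mem_top
      induction hx using Submodule.span_induction with
      | mem y hy =>
        obtain ⟨j, rfl⟩ := hy
        rw [show k ⊗ₜ[A] c j = k • ((1 : K) ⊗ₜ[A] c j) by simp [smul_tmul']]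
        exact Submodule.smul_mem _ _ (Submodule.subset_span ⟨j, rfl⟩)
      | zero => simp
      | add a b _ _ ha hb => rw [tmul_add]; exact add_mem ha hb
      | smul r y _ hy =>
        rw [← smul_tmul, show (r • k) ⊗ₜ[A] y = algebraMap A K r • (k ⊗ₜ[A] y) by
          rw [smul_tmul', Algebra.smul_def, smul_eq_mul]]
        exact Submodule.smul_mem _ _ hy
    | add a b ha hb => exact add_mem ha hb
  have : Module.Finite K (K ⊗[A] C) :=
    ⟨Submodule.fg_def.mpr ⟨_, Set.finite_range _, hs⟩⟩
  refine (enatCard_primeSpectrum_le K _).trans ?_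
  have := finrank_range_le_card (R := K) (fun j => (1 : K) ⊗ₜ[A] c j)
  rw [Set.finrank, hs, finrank_top, Fintype.card_fin] at this
  exact_mod_cast this

theorem FibLE.comp_left {W X Y : Scheme.{u}} {f : X ⟶ Y} {d : ℕ} (h : FibLE f d) (i : W ⟶ X)
    [IsOpenImmersion i] : FibLE (i ≫ f) d := by
  intro K _ g
  refine le_trans (enatCard_le_of_injective (pullback.map (i ≫ f) g f g i (𝟙 _) (𝟙 _) (by simp) (by simp)) ?_) (h K g)
  have e : pullback.map (i ≫ f) g f g i (𝟙 _) (𝟙 _) (by simp) (by simp) =
      (pullbackRightPullbackFstIso f g i).inv ≫ pullback.snd i (pullback.fst f g) := by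
    apply pullback.hom_ext <;> simp only [pullback.map, pullback.lift_fst, pullback.lift_snd, pullback.lift_fst_assoc, Category.assoc, Category.comp_id, Iso.inv_comp_eq, pullback.condition, pullbackRightPullbackFstIso_hom_fst, pullbackRightPullbackFstIso_hom_snd, pullbackRightPullbackFstIso_hom_fst_assoc, pullbackRightPullbackFstIso_inv_snd_fst, pullbackRightPullbackFstIso_inv_snd_snd]
  rw [e]
  exact (Scheme.Hom.isOpenEmbedding _).injective

theorem FibLE.comp_right {X Y Y' : Scheme.{u}} {f : X ⟶ Y} {d : ℕ} (h : FibLE f d) (o : Y ⟶ Y')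
    [IsOpenImmersion o] : FibLE (f ≫ o) d := by
  intro K _ g
  cases isEmpty_or_nonempty ↥(pullback (f ≫ o) g) with
  | inl he => simp [ENat.card_eq_coe_natCard, Nat.card_of_isEmpty]
  | inr hne =>
    obtain ⟨z⟩ := hne
    have hr : Set.range g ⊆ Set.range o := by
      rintro _ ⟨s, rfl⟩
      rw [Subsingleton.elim s (pullback.snd (f ≫ o) g z), ← Scheme.Hom.comp_apply,
        ← pullback.condition]
      exact ⟨f (pullback.fst (f ≫ o) g z), rfl⟩
    obtain ⟨g', rfl⟩ : ∃ g', g' ≫ o = g := ⟨_, IsOpenImmersion.lift_fac o g hr⟩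
    let m : pullback (f ≫ o) (g' ≫ o) ⟶ pullback f g' :=
      pullback.lift (pullback.fst _ _) (pullback.snd _ _) (by
        rw [← cancel_mono o]; simpa using pullback.condition)
    let m' : pullback f g' ⟶ pullback (f ≫ o) (g' ≫ o) :=
      pullback.map f g' (f ≫ o) (g' ≫ o) (𝟙 _) (𝟙 _) o (by simp) (by simp)
    have hmm : m ≫ m' = 𝟙 _ := by
      apply pullback.hom_ext <;> simp only [m, m', pullback.map, pullback.lift_fst, pullback.lift_snd, Category.assoc, Category.comp_id, Category.id_comp, pullback.lift_fst_assoc, pullback.lift_snd_assoc]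
    refine le_trans (enatCard_le_of_injective m fun a b hab => ?_) (h K g')
    have := congrArg m' hab
    rwa [← Scheme.Hom.comp_apply, ← Scheme.Hom.comp_apply, hmm] at this

theorem exists_fibLE {X Y : Scheme.{u}} (f : X ⟶ Y) [LocallyQuasiFinite f] [LocallyOfFiniteType f]
    [CompactSpace X] : ∃ d, FibLE f d := by
  classical
  have loc : ∀ x : X, ∃ (W : Scheme.{u}) (j : W ⟶ X) (d : ℕ),
      IsOpenImmersion j ∧ x ∈ Set.range j ∧ FibLE (j ≫ f) d := by
    intro x
    obtain ⟨V, hV, hxV, -⟩ := exists_isAffineOpen_mem_and_subset (U := ⊤) (x := f x) (Set.mem_univ _)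
    obtain ⟨U, hU, hxU, hUV⟩ := exists_isAffineOpen_mem_and_subset (U := f ⁻¹ᵁ V) (x := x) hxV
    let φ := f.appLE V U hUV
    have hft : φ.hom.FiniteType := f.finiteType_appLE hV hU hUV
    have hqf : φ.hom.QuasiFinite := HasRingHomProperty.appLE (P := @LocallyQuasiFinite) f ‹_› ⟨V, hV⟩ ⟨U, hU⟩ hUV
    algebraize [φ.hom]
    let q : PrimeSpectrum Γ(X, U) := hU.primeIdealOf ⟨x, hxU⟩
    obtain ⟨C, hC, r, hrq, hbij⟩ :=
      Algebra.QuasiFiniteAt.exists_fg_and_exists_notMem_and_awayMap_bijective (R := Γ(Y, V)) q.asIdeal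
    obtain ⟨n, c, hc⟩ := Submodule.fg_iff_exists_fin_generating_family.mp hC
    have hmem : ∀ i, c i ∈ C := fun i => by
      have : c i ∈ Subalgebra.toSubmodule C := hc ▸ Submodule.subset_span ⟨i, rfl⟩
      exact this
    let c' : Fin n → C := fun i => ⟨c i, hmem i⟩
    have hc' : Submodule.span Γ(Y, V) (Set.range c') = ⊤ := by
      apply Submodule.map_injective_of_injective (f := C.val.toLinearMap) Subtype.val_injective
      rw [Submodule.map_span, ← Set.range_comp, Submodule.map_top]
      refine hc.trans ?_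
      ext a
      exact ⟨fun ha => ⟨⟨a, ha⟩, rfl⟩, by rintro ⟨b, rfl⟩; exact b.2⟩
    let Sr := Localization.Away (C.val.toRingHom r)
    let Cr := Localization.Away r
    let ψ : Cr →+* Sr := Localization.awayMap C.val.toRingHom r
    have : IsIso (Spec.map (CommRingCat.ofHom ψ)) := by
      have : IsIso (CommRingCat.ofHom ψ) := (ConcreteCategory.isIso_iff_bijective _).mpr hbij
      infer_instance
    let jS : Spec (.of Sr) ⟶ Spec Γ(X, U) := Spec.map (CommRingCat.ofHom (algebraMap Γ(X, U) Sr))
    let jC : Spec (.of Sr) ⟶ Spec (.of C) :=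
      Spec.map (CommRingCat.ofHom ψ) ≫ Spec.map (CommRingCat.ofHom (algebraMap C Cr))
    have : IsOpenImmersion jS := .of_isLocalization (C.val.toRingHom r)
    have : IsOpenImmersion (Spec.map (CommRingCat.ofHom (algebraMap C Cr))) := .of_isLocalization r
    have key : (jS ≫ hU.fromSpec) ≫ f =
        (jC ≫ Spec.map (CommRingCat.ofHom (algebraMap Γ(Y, V) C))) ≫ hV.fromSpec := by
      rw [Category.assoc, ← hV.SpecMap_appLE_fromSpec f hU hUV, ← Category.assoc]
      congr 1
      simp only [jS, jC, ← Spec.map_comp, Category.assoc]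
      congr 1
      ext a
      show algebraMap Γ(X, U) Sr (φ a) = ψ (algebraMap C Cr (algebraMap Γ(Y, V) C a))
      simp only [ψ, Localization.awayMap, IsLocalization.Away.map, IsLocalization.map_eq]
      rfl
    refine ⟨_, jS ≫ hU.fromSpec, n, inferInstance, ?_, ?_⟩
    · obtain ⟨p, hp⟩ : q ∈ Set.range jS := by
        show q ∈ Set.range (PrimeSpectrum.comap (algebraMap Γ(X, U) Sr))
        rw [PrimeSpectrum.localization_away_comap_range Sr (C.val.toRingHom r)]
        exact hrq
      refine ⟨p, ?_⟩
      rw [Scheme.Hom.comp_apply, hp, hU.fromSpec_primeIdealOf]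
    · rw [key]
      exact ((fibLE_Spec_finite _ _ n c' hc').comp_left jC).comp_right _
  choose W j d hj hx hd using loc
  obtain ⟨t, ht⟩ := isCompact_univ.elim_finite_subcover (fun x => Set.range (j x))
    (fun x => (j x).isOpenEmbedding.isOpen_range) (fun x _ => Set.mem_iUnion.mpr ⟨x, hx x⟩)
  refine ⟨∑ x ∈ t, d x, fun K _ g => ?_⟩
  let T := Σ x : t, ↥(pullback (j x.1 ≫ f) g)
  let p : T → ↥(pullback f g) := fun a =>
    (pullback.map (j a.1.1 ≫ f) g f g (j a.1.1) (𝟙 _) (𝟙 _) (by simp) (by simp)) a.2
  have hp : Function.Surjective p := by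
    intro z
    obtain ⟨x, hxt, w, hw⟩ := Set.mem_iUnion₂.mp (ht (Set.mem_univ (pullback.fst f g z)))
    obtain ⟨v, -, hv⟩ := Scheme.Pullback.exists_preimage_pullback (f := j x) (g := pullback.fst f g) w z hw
    refine ⟨⟨⟨x, hxt⟩, (pullbackRightPullbackFstIso f g (j x)).hom v⟩, ?_⟩
    show (pullback.map (j x ≫ f) g f g (j x) (𝟙 _) (𝟙 _) (by simp) (by simp))
      ((pullbackRightPullbackFstIso f g (j x)).hom v) = z
    have e : (pullbackRightPullbackFstIso f g (j x)).hom ≫
        pullback.map (j x ≫ f) g f g (j x) (𝟙 _) (𝟙 _) (by simp) (by simp) =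
        pullback.snd (j x) (pullback.fst f g) := by
      apply pullback.hom_ext <;> simp only [pullback.map, pullback.lift_fst, pullback.lift_snd, pullback.lift_fst_assoc, Category.assoc, Category.comp_id, Iso.inv_comp_eq, pullback.condition, pullbackRightPullbackFstIso_hom_fst, pullbackRightPullbackFstIso_hom_snd, pullbackRightPullbackFstIso_hom_fst_assoc, pullbackRightPullbackFstIso_inv_snd_fst, pullbackRightPullbackFstIso_inv_snd_snd]
    rw [← Scheme.Hom.comp_apply, e, hv]
  have hfin : ∀ x, Finite ↥(pullback (j x ≫ f) g) := fun x =>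
    ENat.card_lt_top.mp ((hd x K g).trans_lt (ENat.natCast_lt_top _))
  refine le_trans (ENat.card_le_card_of_injective (Function.injective_surjInv hp)) ?_
  rw [ENat.card_eq_coe_natCard, Nat.card_sigma]
  refine ENat.natCast_le_natCast.mpr ?_
  rw [← Finset.sum_coe_sort t d]
  refine Finset.sum_le_sum fun x _ => ?_
  have := hd x.1 K g
  rw [ENat.card_eq_coe_natCard] at this
  exact_mod_cast this

end Groth.Agent.FlatH4
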