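import Mathlib.AlgebraicGeometry.Geometrically.Basic
import Mathlib.AlgebraicGeometry.Morphisms.Flat
import Mathlib.AlgebraicGeometry.PullbackCarrier

/-! `geometrically P` on fibres is insensitive to base change, for `P` descending along flat surjections. -/

universe u

open AlgebraicGeometry CategoryTheory Limits

namespace Groth.Agent.FlatH4

theorem geometrically_of_field_baseChange {P : ObjectProperty Scheme.{u}}
    (hdesc : ∀ ⦃Z W : Scheme.{u}⦄ (h : Z ⟶ W), Surjective h → Flat h → P Z → P W)
    {X : Scheme.{u}} (k k' : Type u) [Field k] [Field k'] (σ : Spec (.of k') ⟶ Spec (.of k))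
    (f : X ⟶ Spec (.of k)) {X' : Scheme.{u}} (a : X' ⟶ X) (f' : X' ⟶ Spec (.of k'))
    (hpb : IsPullback a f' f σ) (hf' : geometrically P f') : geometrically P f := by
  intro K _ y Z fst snd h
  have hs : Surjective σ := ⟨fun p => ⟨IsLocalRing.closedPoint k', Subsingleton.elim (α := PrimeSpectrum k) _ _⟩⟩
  obtain ⟨t, -⟩ := (pullback.fst y σ).surjective (IsLocalRing.closedPoint K)
  let L := (pullback y σ).residueField t
  let q : Spec L ⟶ pullback y σ := (pullback y σ).fromSpecResidueField t
  have hw : (q ≫ pullback.fst y σ) ≫ y = (q ≫ pullback.snd y σ) ≫ σ := by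
    simp [pullback.condition]
  let l : pullback snd (q ≫ pullback.fst y σ) ⟶ X' :=
    hpb.lift (pullback.fst _ _ ≫ fst) (pullback.snd _ _ ≫ q ≫ pullback.snd y σ) (by
      rw [Category.assoc, h.w, ← Category.assoc, pullback.condition, Category.assoc, hw]
      simp only [Category.assoc])
  have hT : IsPullback l (pullback.snd snd (q ≫ pullback.fst y σ)) f' (q ≫ pullback.snd y σ) := by
    refine IsPullback.of_right ?_ (hpb.lift_snd _ _ _) hpb
    have := (IsPullback.of_hasPullback snd (q ≫ pullback.fst y σ)).paste_horiz h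
    rw [hw] at this
    simpa [l] using this
  have hPT := hf' (K := L) _ _ _ hT
  have : Surjective (q ≫ pullback.fst y σ) :=
    ⟨fun p => ⟨IsLocalRing.closedPoint L, Subsingleton.elim (α := PrimeSpectrum K) _ _⟩⟩
  exact hdesc (pullback.fst snd (q ≫ pullback.fst y σ)) inferInstance inferInstance hPT

/-- the set of points with geometrically `P` fibre commutes with base change -/
theorem geometrically_fibre_baseChange {P : ObjectProperty Scheme.{u}}
    (hdesc : ∀ ⦃Z W : Scheme.{u}⦄ (h : Z ⟶ W), Surjective h → Flat h → P Z → P W)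
    {X Y X' Y' : Scheme.{u}} (f : X ⟶ Y) (g : Y' ⟶ Y) (f' : X' ⟶ Y') (g' : X' ⟶ X)
    (hc : IsPullback g' f' f g) (y' : Y') :
    geometrically P (f'.fiberToSpecResidueField y') ↔
      geometrically P (f.fiberToSpecResidueField (g y')) := by
  let σ := Spec.map (g.residueFieldMap y')
  have h1 : IsPullback (pullback.fst f' (Y'.fromSpecResidueField y') ≫ g')
      (f'.fiberToSpecResidueField y') f (Y'.fromSpecResidueField y' ≫ g) :=
    (IsPullback.of_hasPullback f' (Y'.fromSpecResidueField y')).paste_horiz hc
  rw [← g.SpecMap_residueFieldMap_fromSpecResidueField y'] at h1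
  let a : f'.fiber y' ⟶ f.fiber (g y') :=
    pullback.lift (pullback.fst f' (Y'.fromSpecResidueField y') ≫ g')
      (f'.fiberToSpecResidueField y' ≫ σ) (h1.w.trans (Category.assoc _ _ _).symm)
  have ha : IsPullback a (f'.fiberToSpecResidueField y') (f.fiberToSpecResidueField (g y')) σ := by
    refine IsPullback.of_right ?_ (pullback.lift_snd _ _ _)
      (IsPullback.of_hasPullback f (Y.fromSpecResidueField (g y')))
    rw [show a ≫ pullback.fst f (Y.fromSpecResidueField (g y')) = _ from pullback.lift_fst _ _ _]
    exact h1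
  exact ⟨geometrically_of_field_baseChange hdesc _ _ σ _ a _ ha,
    fun hf => MorphismProperty.of_isPullback (P := geometrically P) ha hf⟩

end Groth.Agent.FlatH4
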