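import Groth.Agent.Lib.FlatH4.GenFreeMain
import Mathlib.RingTheory.Ideal.MinimalPrime.Noetherian
import Mathlib.RingTheory.Nilpotent.Lemmas

/-!
# Generic freeness over an arbitrary reduced ring

`exists_free_and_finitePresentation_of_isReduced`: for `R` reduced, `S` of finite type and `b ≠ 0` there is
`a ≠ 0`, a multiple of `b`, such that `S` becomes free and finitely presented wherever `a` is invertible.
-/

universe u

namespace Groth.Agent.FlatH4

open TensorProduct LinearMap

variable {n m : ℕ}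

/-- Coefficient change on `R[x]^m`. -/
noncomputable def coeffMap (n m : ℕ) {A B : Type u} [CommRing A] [CommRing B] (φ : A →+* B)
    (v : Fin m → MvPolynomial (Fin n) A) : Fin m → MvPolynomial (Fin n) B :=
  fun i => MvPolynomial.map φ (v i)

/-- Presentations are compatible with base change. -/
theorem nonempty_presIso (A B : Type u) [CommRing A] [CommRing B] [Algebra A B]
    (s : Set (Fin m → MvPolynomial (Fin n) A)) :
    Nonempty (B ⊗[A] ((Fin m → MvPolynomial (Fin n) A) ⧸ Submodule.span (MvPolynomial (Fin n) A) s) ≃ₗ[B]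
      ((Fin m → MvPolynomial (Fin n) B) ⧸ Submodule.span (MvPolynomial (Fin n) B) (coeffMap n m (algebraMap A B) '' s))) := by
  classical
  letI : Algebra (MvPolynomial (Fin n) A) (MvPolynomial (Fin n) B) := MvPolynomial.algebraMvPolynomial
  set WA := Submodule.span (MvPolynomial (Fin n) A) s
  set WB := Submodule.span (MvPolynomial (Fin n) B) (coeffMap n m (algebraMap A B) '' s)
  let c : (Fin m → MvPolynomial (Fin n) A) →ₗ[MvPolynomial (Fin n) A] (Fin m → MvPolynomial (Fin n) B) :=
    (Algebra.linearMap (MvPolynomial (Fin n) A) (MvPolynomial (Fin n) B)).compLeft (Fin m)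
  have hc : ∀ v, c v = coeffMap n m (algebraMap A B) v := fun v => rfl
  let Ψ : B ⊗[A] (Fin m → MvPolynomial (Fin n) A) ≃ₗ[B] (Fin m → MvPolynomial (Fin n) B) :=
    TensorProduct.piRight A B B (fun _ : Fin m => MvPolynomial (Fin n) A) ≪≫ₗ
      LinearEquiv.piCongrRight fun _ => (MvPolynomial.algebraTensorAlgEquiv A B).toLinearEquiv
  have hΨ : ∀ (r : B) v, Ψ (r ⊗ₜ[A] v) = r • c v := fun r v => funext fun i =>
    MvPolynomial.algebraTensorAlgEquiv_tmul A B r (v i)
  have hle : WA ≤ (WB.restrictScalars (MvPolynomial (Fin n) A)).comap c :=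
    Submodule.span_le.2 fun v hv => Submodule.subset_span ⟨v, hv, (hc v).symm⟩
  let F0 : ((Fin m → MvPolynomial (Fin n) A) ⧸ WA) →ₗ[A] (Fin m → MvPolynomial (Fin n) B) ⧸ WB :=
    (WA.liftQ ((WB.mkQ.restrictScalars (MvPolynomial (Fin n) A)) ∘ₗ c) (fun v hv => by
      change WB.mkQ (c v) = 0
      exact (Submodule.Quotient.mk_eq_zero WB).2 (hle hv))).restrictScalars A
  let F := F0.liftBaseChange B
  let q : B ⊗[A] (Fin m → MvPolynomial (Fin n) A) →ₗ[B] B ⊗[A] ((Fin m → MvPolynomial (Fin n) A) ⧸ WA) :=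
    (WA.mkQ.restrictScalars A).baseChange B
  have hG : ∀ y ∈ WB, ∀ p : MvPolynomial (Fin n) B, q (Ψ.symm (p • y)) = 0 := by
    intro y hy
    induction hy using Submodule.span_induction with
    | zero => intro p; simp
    | add a b _ _ ha hb => intro p; rw [smul_add, map_add, map_add, ha p, hb p, add_zero]
    | smul r a _ ha => intro p; rw [← mul_smul]; exact ha _
    | mem y hy =>
      obtain ⟨ℓ, hℓ, rfl⟩ := hy
      intro p
      induction p using MvPolynomial.induction_on' with
      | add a b ha hb => rw [add_smul, map_add, map_add, ha, hb, add_zero]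
      | monomial d a =>
        have : Ψ.symm (MvPolynomial.monomial d a • coeffMap n m (algebraMap A B) ℓ) =
            a ⊗ₜ[A] ((MvPolynomial.monomial d (1 : A)) • ℓ) := by
          apply Ψ.injective
          rw [Ψ.apply_symm_apply, hΨ, map_smul, ← hc, ← algebraMap_smul (MvPolynomial (Fin n) B)
            (MvPolynomial.monomial d (1 : A)) (c ℓ), ← smul_assoc]
          congr 1
          rw [MvPolynomial.algebraMap_def, MvPolynomial.map_monomial, map_one, MvPolynomial.smul_monomial,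
            smul_eq_mul, mul_one]
        rw [this]
        change ((WA.mkQ.restrictScalars A).baseChange B) _ = 0
        rw [LinearMap.baseChange_tmul, LinearMap.coe_restrictScalars, Submodule.mkQ_apply,
          (Submodule.Quotient.mk_eq_zero WA).2 (WA.smul_mem _ (Submodule.subset_span hℓ)), TensorProduct.tmul_zero]
  have hqs : Function.Surjective q := LinearMap.lTensor_surjective (g := WA.mkQ.restrictScalars A) B WA.mkQ_surjective
  have hFq : ∀ z, F (q z) = WB.mkQ (Ψ z) := by
    intro z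
    induction z using TensorProduct.induction_on with
    | zero => simp
    | add a b ha hb => simp only [map_add, ha, hb]
    | tmul r v =>
      rw [hΨ]
      simp [F, F0, q]
  refine ⟨LinearEquiv.ofBijective F ⟨?_, fun y => ?_⟩⟩
  · rw [injective_iff_map_eq_zero]
    intro z hz
    obtain ⟨z, rfl⟩ := hqs z
    rw [hFq, Submodule.mkQ_apply] at hz
    have h := hG _ ((Submodule.Quotient.mk_eq_zero WB).1 hz) 1
    rwa [one_smul, Ψ.symm_apply_apply] at h
  · obtain ⟨y, rfl⟩ := WB.mkQ_surjective y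
    exact ⟨q (Ψ.symm y), by rw [hFq, Ψ.apply_symm_apply]⟩

/-- A Noetherian reduced ring is a domain near a minimal prime avoiding a given nonzero element. -/
theorem exists_minimalPrime_isolated {A : Type u} [CommRing A] [IsNoetherianRing A] [IsReduced A] {b : A} (hb : b ≠ 0) :
    ∃ (p : Ideal A) (t : A), p.IsPrime ∧ b ∉ p ∧ t ∉ p ∧ ∀ x ∈ p, t * x = 0 := by
  classical
  obtain ⟨p, hp, hbp⟩ : ∃ p ∈ minimalPrimes A, b ∉ p := by
    by_contra! h
    refine hb (IsReduced.eq_zero b (mem_nilradical.1 ?_))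
    rw [nilradical_eq_sInf, Ideal.mem_sInf]
    intro I hI
    have : I.IsPrime := hI
    obtain ⟨q, hq, hqI⟩ := Ideal.exists_minimalPrimes_le (I := (⊥ : Ideal A)) (J := I) bot_le
    exact hqI (h q hq)
  have hfin := minimalPrimes.finite_of_isNoetherianRing A
  have hex : ∀ q ∈ hfin.toFinset.erase p, ∃ g, g ∈ q ∧ g ∉ p := fun q hq => by
    obtain ⟨hne, hq⟩ := Finset.mem_erase.1 hq
    have hq := hfin.mem_toFinset.1 hq
    exact SetLike.not_le_iff_exists.1 fun hle => hne (le_antisymm hle (hp.2 hq.1 hle))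
  choose g hgq hgp using hex
  have : p.IsPrime := hp.1.1
  refine ⟨p, ∏ q ∈ (hfin.toFinset.erase p).attach, g q.1 q.2, this, hbp, fun h => ?_, fun x hx => ?_⟩
  · obtain ⟨q, -, hq⟩ := (Ideal.IsPrime.prod_mem_iff (hp := this)).1 h
    exact hgp q.1 q.2 hq
  · refine IsReduced.eq_zero _ (mem_nilradical.1 ?_)
    rw [nilradical_eq_sInf, Ideal.mem_sInf]
    intro I hI
    have : I.IsPrime := hI
    obtain ⟨q, hq, hqI⟩ := Ideal.exists_minimalPrimes_le (I := (⊥ : Ideal A)) (J := I) bot_le
    refine hqI ?_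
    rcases eq_or_ne q p with rfl | hne
    · exact q.mul_mem_left _ hx
    · have hqm : q ∈ hfin.toFinset.erase p := Finset.mem_erase.2 ⟨hne, hfin.mem_toFinset.2 hq⟩
      obtain ⟨d, hd⟩ := Finset.dvd_prod_of_mem (fun q : {q // q ∈ hfin.toFinset.erase p} => g q.1 q.2) (Finset.mem_attach _ ⟨q, hqm⟩)
      rw [show (∏ q ∈ (hfin.toFinset.erase p).attach, g q.1 q.2) = g q hqm * d from hd]
      exact q.mul_mem_right _ (q.mul_mem_right _ (hgq q hqm))

/-- Generic freeness of finitely presented modules over a reduced ring. -/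
theorem exists_free_presentation {R : Type u} [CommRing R] [IsReduced R] (s : Finset (Fin m → MvPolynomial (Fin n) R))
    {b : R} (hb : b ≠ 0) :
    ∃ a : R, a ≠ 0 ∧ b ∣ a ∧ ∀ (R' : Type u) [CommRing R'] [Algebra R R'], IsUnit (algebraMap R R' a) →
      Module.Free R' (R' ⊗[R] ((Fin m → MvPolynomial (Fin n) R) ⧸
        Submodule.span (MvPolynomial (Fin n) R) (s : Set (Fin m → MvPolynomial (Fin n) R)))) := by
  classical
  let cs : Finset R := insert b (s.biUnion fun ℓ =>
    Finset.univ.biUnion fun i => (ℓ i).support.image fun d => (ℓ i).coeff d)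
  let R₀ := Algebra.adjoin ℤ (cs : Set R)
  have : IsNoetherianRing R₀ := isNoetherianRing_of_fg (Subalgebra.fg_def.2 ⟨_, cs.finite_toSet, rfl⟩)
  have : IsReduced R₀ := isReduced_of_injective (algebraMap R₀ R) Subtype.val_injective
  let b₀ : R₀ := ⟨b, Algebra.subset_adjoin (Finset.mem_insert_self _ _)⟩
  obtain ⟨p, t, hp, hbp, htp, htx⟩ := exists_minimalPrime_isolated (b := b₀) (fun h => hb (congrArg Subtype.val h))
  let D := R₀ ⧸ p
  have : IsNoetherianRing D := isNoetherianRing_of_surjective R₀ D (Ideal.Quotient.mk p) Ideal.Quotient.mk_surjective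
  have : IsDomain D := Ideal.Quotient.isDomain p
  have hr : ∀ ℓ ∈ s, ∀ i, ℓ i ∈ (MvPolynomial.map (σ := Fin n) (algebraMap R₀ R)).range := fun ℓ hℓ i => by
    rw [RingHom.mem_range, ← Set.mem_range, MvPolynomial.mem_range_map_iff_coeffs_subset]
    intro a ha
    obtain ⟨d, hd, rfl⟩ := MvPolynomial.mem_coeffs_iff.1 ha
    exact ⟨⟨_, Algebra.subset_adjoin (Finset.mem_insert_of_mem (Finset.mem_biUnion.2 ⟨ℓ, hℓ, Finset.mem_biUnion.2
      ⟨i, Finset.mem_univ _, Finset.mem_image.2 ⟨d, hd, rfl⟩⟩⟩))⟩, rfl⟩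
  choose l hl using hr
  let s₀ : Set (Fin m → MvPolynomial (Fin n) R₀) := Set.range fun ℓ : s => l ℓ.1 ℓ.2
  have hs₀ : coeffMap n m (algebraMap R₀ R) '' s₀ = (s : Set _) := by
    ext v
    constructor
    · rintro ⟨_, ⟨ℓ, rfl⟩, rfl⟩
      rw [show coeffMap n m (algebraMap R₀ R) (l ℓ.1 ℓ.2) = ℓ.1 from funext fun i => hl ℓ.1 ℓ.2 i]
      exact ℓ.2
    · exact fun hv => ⟨_, ⟨⟨v, hv⟩, rfl⟩, funext fun i => hl v hv i⟩
  have hfin : Module.Finite (MvPolynomial (Fin n) D) ((Fin m → MvPolynomial (Fin n) D) ⧸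
      Submodule.span (MvPolynomial (Fin n) D) (coeffMap n m (algebraMap R₀ D) '' s₀)) := inferInstance
  obtain ⟨f, hf, hfree⟩ := GenFree.of_finiteType (R := D) (MvPolynomial (Fin n) D)
    ((Fin m → MvPolynomial (Fin n) D) ⧸ Submodule.span (MvPolynomial (Fin n) D) (coeffMap n m (algebraMap R₀ D) '' s₀))
  obtain ⟨f₀, rfl⟩ := Ideal.Quotient.mk_surjective f
  have hf₀ : f₀ ∉ p := fun h => hf (Ideal.Quotient.eq_zero_iff_mem.2 h)
  refine ⟨b * ((t : R) * (f₀ : R)), fun h => ?_, dvd_mul_right _ _, fun R' _ _ hu => ?_⟩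
  · have : b₀ * (t * f₀) = 0 := Subtype.ext h
    rcases hp.mem_or_mem (this ▸ p.zero_mem) with h | h
    · exact hbp h
    · exact (hp.mem_or_mem h).elim htp hf₀
  rw [map_mul, map_mul] at hu
  have hut : IsUnit (algebraMap R R' (t : R)) := isUnit_of_mul_isUnit_left (isUnit_of_mul_isUnit_right hu)
  have huf : IsUnit (algebraMap R R' (f₀ : R)) := isUnit_of_mul_isUnit_right (isUnit_of_mul_isUnit_right hu)
  let ι : R₀ →+* R' := (algebraMap R R').comp (algebraMap R₀ R)
  let ψ : D →+* R' := Ideal.Quotient.lift p ι fun x hx => by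
    have h := congrArg ι (htx x hx)
    rw [map_mul, map_zero] at h
    exact (IsUnit.mul_right_eq_zero hut).1 h
  letI := ψ.toAlgebra
  let Df := Localization.Away (Ideal.Quotient.mk p f₀ : D)
  have hψ : IsUnit (algebraMap D R' (Ideal.Quotient.mk p f₀)) := huf
  letI : Algebra Df R' := (IsLocalization.Away.lift (Ideal.Quotient.mk p f₀ : D) hψ).toAlgebra
  have : IsScalarTower D Df R' := IsScalarTower.of_algebraMap_eq fun x =>
    (IsLocalization.Away.lift_eq _ hψ x).symm
  have : Module.Free Df (Df ⊗[D] ((Fin m → MvPolynomial (Fin n) D) ⧸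
      Submodule.span (MvPolynomial (Fin n) D) (coeffMap n m (algebraMap R₀ D) '' s₀))) :=
    hfree Df (IsLocalization.flat Df (Submonoid.powers (Ideal.Quotient.mk p f₀ : D)))
      (IsLocalization.Away.algebraMap_isUnit _)
  have : Module.Free R' (R' ⊗[D] ((Fin m → MvPolynomial (Fin n) D) ⧸
      Submodule.span (MvPolynomial (Fin n) D) (coeffMap n m (algebraMap R₀ D) '' s₀))) :=
    Module.Free.of_equiv (AlgebraTensorModule.cancelBaseChange D Df R' R' _)
  obtain ⟨e1⟩ := nonempty_presIso D R' (coeffMap n m (algebraMap R₀ D) '' s₀)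
  obtain ⟨e2⟩ := nonempty_presIso R R' (s : Set (Fin m → MvPolynomial (Fin n) R))
  have heq : coeffMap n m (algebraMap D R') '' (coeffMap n m (algebraMap R₀ D) '' s₀) =
      coeffMap n m (algebraMap R R') '' (s : Set (Fin m → MvPolynomial (Fin n) R)) := by
    rw [← hs₀, Set.image_image, Set.image_image]
    refine Set.image_congr' fun v => funext fun i => ?_
    simp only [coeffMap, MvPolynomial.map_map]
    rfl
  rw [heq] at e1
  exact Module.Free.of_equiv (e1.trans e2.symm)

/-- Generic freeness over a reduced ring, with finitely generated relations. -/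
theorem exists_free_and_fg_kernel_of_isReduced {R M : Type u} [CommRing R] [IsReduced R] [AddCommGroup M] [Module R M]
    [Module (MvPolynomial (Fin n) R) M] [IsScalarTower R (MvPolynomial (Fin n) R) M]
    (π : (Fin m → MvPolynomial (Fin n) R) →ₗ[MvPolynomial (Fin n) R] M) (hπ : Function.Surjective π) {b : R} (hb : b ≠ 0) :
    ∃ a : R, a ≠ 0 ∧ b ∣ a ∧
      (∀ (R' : Type u) [CommRing R'] [Algebra R R'], IsUnit (algebraMap R R' a) →
        Module.Free R' (R' ⊗[R] M)) ∧
      ∃ W : Submodule (MvPolynomial (Fin n) R) (Fin m → MvPolynomial (Fin n) R), W.FG ∧ W ≤ LinearMap.ker π ∧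
        ∀ ℓ, π ℓ = 0 → ∃ k : ℕ, a ^ k • ℓ ∈ W := by
  classical
  by_cases hgood : ∃ (s : Finset (Fin m → MvPolynomial (Fin n) R)) (a : R), (∀ v ∈ s, π v = 0) ∧ a ≠ 0 ∧ b ∣ a ∧
      (∀ (R' : Type u) [CommRing R'] [Algebra R R'], IsUnit (algebraMap R R' a) →
        Module.Free R' (R' ⊗[R] ((Fin m → MvPolynomial (Fin n) R) ⧸
          Submodule.span (MvPolynomial (Fin n) R) (s : Set (Fin m → MvPolynomial (Fin n) R))))) ∧
      ∀ ℓ, π ℓ = 0 → ∃ k : ℕ, a ^ k • ℓ ∈ Submodule.span (MvPolynomial (Fin n) R) (s : Set (Fin m → MvPolynomial (Fin n) R))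
  · obtain ⟨s, a, hs, ha, hba, hfree, hker⟩ := hgood
    set W := Submodule.span (MvPolynomial (Fin n) R) (s : Set (Fin m → MvPolynomial (Fin n) R)) with hW
    have hWle : W ≤ LinearMap.ker π := Submodule.span_le.2 hs
    refine ⟨a, ha, hba, fun R' _ _ hu => ?_, W, Submodule.fg_span s.finite_toSet, hWle, hker⟩
    have := hfree R' hu
    let θ : ((Fin m → MvPolynomial (Fin n) R) ⧸ W) →ₗ[R] M := (W.liftQ π hWle).restrictScalars R
    have hθ : Function.Surjective θ := fun x => by
      obtain ⟨y, rfl⟩ := hπ x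
      exact ⟨W.mkQ y, rfl⟩
    refine Module.Free.of_equiv (LinearEquiv.ofBijective (θ.baseChange R') ⟨?_, LinearMap.lTensor_surjective R' hθ⟩)
    rw [injective_iff_map_eq_zero]
    intro z hz
    obtain ⟨η, rfl⟩ := (lTensor_exact R' (LinearMap.exact_subtype_ker_map θ) hθ z).1 hz
    clear hz
    induction η using TensorProduct.induction_on with
    | zero => simp
    | add x y hx hy => rw [map_add, hx, hy, add_zero]
    | tmul r v =>
      obtain ⟨v, hv⟩ := v
      obtain ⟨y, rfl⟩ := W.mkQ_surjective v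
      obtain ⟨k, hk⟩ := hker y hv
      rw [LinearMap.lTensor_tmul]
      refine (hu.pow k).smul_eq_zero.1 ?_
      change algebraMap R R' a ^ k • r ⊗ₜ[R] W.mkQ y = 0
      rw [← map_pow, algebraMap_smul, ← TensorProduct.tmul_smul, ← LinearMap.map_smul_of_tower, Submodule.mkQ_apply,
        (Submodule.Quotient.mk_eq_zero W).2 hk, TensorProduct.tmul_zero]
  exfalso
  push Not at hgood
  -- the iteration
  have step : ∀ st : {st : Finset (Fin m → MvPolynomial (Fin n) R) × R // (∀ v ∈ st.1, π v = 0) ∧ st.2 ≠ 0 ∧ b ∣ st.2},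
      ∃ st' : {st : Finset (Fin m → MvPolynomial (Fin n) R) × R // (∀ v ∈ st.1, π v = 0) ∧ st.2 ≠ 0 ∧ b ∣ st.2},
        st.1.1 ⊆ st'.1.1 ∧ st.1.2 ∣ st'.1.2 ∧ ∃ k ∈ st'.1.1, ∀ y : Ideal R, y.IsPrime → st'.1.2 ∉ y →
          ∀ d ∉ y, ∀ w ∈ Submodule.span (MvPolynomial (Fin n) R) (st.1.1 : Set (Fin m → MvPolynomial (Fin n) R)),
            ∃ (i : Fin m) (e : Fin n →₀ ℕ), (d • k i - w i).coeff e ∉ y := by
    rintro ⟨⟨s, a₀⟩, hs, ha₀, hba₀⟩
    obtain ⟨a, ha, hdvd, hfree⟩ := exists_free_presentation s ha₀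
    obtain ⟨k, hk, hknot⟩ := hgood s a hs ha (hba₀.trans hdvd) hfree
    set W := Submodule.span (MvPolynomial (Fin n) R) (s : Set (Fin m → MvPolynomial (Fin n) R)) with hW
    let Ra := Localization.Away a
    have : Module.Free Ra (Ra ⊗[R] ((Fin m → MvPolynomial (Fin n) R) ⧸ W)) :=
      hfree Ra (IsLocalization.Away.algebraMap_isUnit a)
    let μ : ((Fin m → MvPolynomial (Fin n) R) ⧸ W) →ₗ[R] Ra ⊗[R] ((Fin m → MvPolynomial (Fin n) R) ⧸ W) :=
      TensorProduct.mk R Ra _ 1
    have : IsLocalizedModule (Submonoid.powers a) μ :=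
      (isLocalizedModule_iff_isBaseChange (Submonoid.powers a) Ra μ).2 (TensorProduct.isBaseChange R _ Ra)
    have hne : μ (W.mkQ k) ≠ 0 := fun h => by
      obtain ⟨⟨_, j, rfl⟩, hj⟩ := (IsLocalizedModule.eq_zero_iff (Submonoid.powers a) μ).1 h
      refine hknot j ((Submodule.Quotient.mk_eq_zero W).1 ?_)
      rw [← Submodule.mkQ_apply, LinearMap.map_smul_of_tower]
      exact hj
    let 𝔟 := Module.Free.chooseBasis Ra (Ra ⊗[R] ((Fin m → MvPolynomial (Fin n) R) ⧸ W))
    obtain ⟨i₀, hi₀⟩ := Finsupp.ne_iff.1 (fun h => hne (𝔟.repr.injective (h.trans (map_zero _).symm)))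
    let L : (Fin m → MvPolynomial (Fin n) R) →ₗ[R] Ra :=
      ((𝔟.coord i₀).restrictScalars R) ∘ₗ μ ∘ₗ (W.mkQ.restrictScalars R)
    obtain ⟨r, ⟨_, j, rfl⟩, hr⟩ := IsLocalization.exists_mk'_eq (Submonoid.powers a) (L k)
    have hr0 : a * r ≠ 0 := fun h => hi₀ (by
      change L k = 0
      rw [← hr, IsLocalization.mk'_eq_zero_iff]
      exact ⟨⟨a, 1, pow_one a⟩, h⟩)
    refine ⟨⟨(insert k s, a * r), fun v hv => (Finset.mem_insert.1 hv).elim (fun h => h ▸ hk) (hs v), hr0,
      (hba₀.trans hdvd).mul_right r⟩, Finset.subset_insert _ _, hdvd.mul_right r, k, Finset.mem_insert_self _ _,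
      fun y hy hay d hd w hw => ?_⟩
    by_contra! hcoef
    have hay1 : a ∉ y := fun h => hay (y.mul_mem_right _ h)
    have hry : r ∉ y := fun h => hay (y.mul_mem_left _ h)
    have hdisj : Disjoint (Submonoid.powers a : Set R) (y : Set R) :=
      (Ideal.disjoint_powers_iff_notMem a hy.isRadical).2 hay1
    have hLy : ∀ v : Fin m → MvPolynomial (Fin n) R, (∀ i e, (v i).coeff e ∈ y) → L v ∈ y.map (algebraMap R Ra) := by
      intro v hv
      have hv' : v = ∑ i, ∑ e ∈ (v i).support, (v i).coeff e •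
          (Pi.single i (MvPolynomial.monomial e (1 : R)) : Fin m → MvPolynomial (Fin n) R) := by
        conv_lhs => rw [← Finset.univ_sum_single v]
        refine Finset.sum_congr rfl fun i _ => ?_
        simp only [← Pi.single_smul, MvPolynomial.smul_monomial, smul_eq_mul, mul_one]
        conv_lhs => rw [(v i).as_sum]
        exact map_sum (AddMonoidHom.single (fun _ : Fin m => MvPolynomial (Fin n) R) i) _ _
      rw [hv', map_sum]
      refine Ideal.sum_mem _ fun i _ => ?_
      rw [map_sum]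
      refine Ideal.sum_mem _ fun e _ => ?_
      rw [map_smul, Algebra.smul_def]
      exact Ideal.mul_mem_right _ _ (Ideal.mem_map_of_mem _ (hv i e))
    have hdk : L (d • k - w) ∈ y.map (algebraMap R Ra) := hLy _ fun i e => hcoef i e
    have hLw : L w = 0 := by
      simp only [L, LinearMap.comp_apply, LinearMap.coe_restrictScalars, Submodule.mkQ_apply,
        (Submodule.Quotient.mk_eq_zero W).2 hw, map_zero]
    rw [map_sub, map_smul, hLw, sub_zero, ← hr, IsLocalization.smul_mk'] at hdk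
    have := (IsLocalization.mk'_mem_iff).1 hdk
    have h2 : d * r ∈ (y.map (algebraMap R Ra)).comap (algebraMap R Ra) := this
    rw [← Ideal.under_def, IsLocalization.under_map_of_isPrime_disjoint (Submonoid.powers a) Ra hy hdisj] at h2
    exact (hy.mem_or_mem h2).elim hd hry
  choose next hsub hdvd k hk hkey using step
  let st : ℕ → {st : Finset (Fin m → MvPolynomial (Fin n) R) × R // (∀ v ∈ st.1, π v = 0) ∧ st.2 ≠ 0 ∧ b ∣ st.2} :=
    fun i => Nat.rec ⟨(∅, b), by simp, hb, dvd_rfl⟩ (fun _ prev => next prev) i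
  have hst : ∀ i, st (i + 1) = next (st i) := fun i => rfl
  have hmul : ∀ i j, i ≤ j → (st i).1.2 ∣ (st j).1.2 := by
    intro i j hij
    induction hij with
    | refl => rfl
    | step _ ih => exact ih.trans (hdvd _)
  -- a prime in all the opens
  obtain ⟨y, hy, -, hyd⟩ := Ideal.exists_le_prime_disjoint (⊥ : Ideal R) (Submonoid.closure (Set.range fun i => (st i).1.2)) (by
    rw [Set.disjoint_left]
    intro x hx hxS
    simp only [SetLike.mem_coe, Ideal.mem_bot] at hx
    subst hx
    have : ∀ z ∈ Submonoid.closure (Set.range fun i => (st i).1.2), ∃ i e : ℕ, z ∣ (st i).1.2 ^ e := by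
      intro z hz
      induction hz using Submonoid.closure_induction with
      | mem z hz =>
        obtain ⟨i, rfl⟩ := hz
        exact ⟨i, 1, by rw [pow_one]⟩
      | one => exact ⟨0, 0, by simp⟩
      | mul z w _ _ hz hw =>
        obtain ⟨i, e, hz⟩ := hz
        obtain ⟨j, e', hw⟩ := hw
        refine ⟨max i j, e + e', ?_⟩
        rw [pow_add]
        exact mul_dvd_mul (hz.trans (pow_dvd_pow_of_dvd (hmul _ _ (le_max_left i j)) e))
          (hw.trans (pow_dvd_pow_of_dvd (hmul _ _ (le_max_right i j)) e'))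
    obtain ⟨i, e, hi⟩ := this 0 hxS
    exact (st i).2.2.1 (IsReduced.eq_zero _ ⟨e, zero_dvd_iff.1 hi⟩))
  have hay : ∀ i, (st i).1.2 ∉ y := fun i h => Set.disjoint_left.1 hyd h (Submonoid.subset_closure ⟨i, rfl⟩)
  let K := FractionRing (R ⧸ y)
  let φ : R →+* K := (algebraMap (R ⧸ y) K).comp (Ideal.Quotient.mk y)
  have hφ : ∀ x, φ x = 0 ↔ x ∈ y := fun x => by
    rw [RingHom.comp_apply, map_eq_zero_iff _ (IsFractionRing.injective (R ⧸ y) K), Ideal.Quotient.eq_zero_iff_mem]
  let V : ℕ →o Submodule (MvPolynomial (Fin n) K) (Fin m → MvPolynomial (Fin n) K) :=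
    ⟨fun i => Submodule.span _ (coeffMap n m φ '' ((st i).1.1 : Set (Fin m → MvPolynomial (Fin n) R))),
      monotone_nat_of_le_succ fun i => Submodule.span_mono (Set.image_mono (Finset.coe_subset.2 (hsub (st i))))⟩
  have : IsNoetherian (MvPolynomial (Fin n) K) (Fin m → MvPolynomial (Fin n) K) := isNoetherian_pi
  obtain ⟨N, hN⟩ := monotone_stabilizes_iff_noetherian.2 this V
  have hmem : coeffMap n m φ (k (st N)) ∈ V N := by
    rw [hN (N + 1) N.le_succ]
    exact Submodule.subset_span ⟨_, hk (st N), rfl⟩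
  have hclear : ∀ v ∈ V N, ∃ d ∉ y, ∃ w ∈ Submodule.span (MvPolynomial (Fin n) R) ((st N).1.1 : Set (Fin m → MvPolynomial (Fin n) R)),
      ∀ i, φ d • v i = MvPolynomial.map φ (w i) := by
    intro v hv
    induction hv using Submodule.span_induction with
    | mem v hv =>
      obtain ⟨w, hw, rfl⟩ := hv
      exact ⟨1, fun h => hy.ne_top ((Ideal.eq_top_iff_one y).2 h), w, Submodule.subset_span hw, fun i => by simp [coeffMap]⟩
    | zero => exact ⟨1, fun h => hy.ne_top ((Ideal.eq_top_iff_one y).2 h), 0, zero_mem _, fun i => by simp⟩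
    | add u v _ _ hu hv =>
      obtain ⟨d, hd, w, hw, he⟩ := hu
      obtain ⟨d', hd', w', hw', he'⟩ := hv
      refine ⟨d * d', fun h => (hy.mem_or_mem h).elim hd hd', MvPolynomial.C d' • w + MvPolynomial.C d • w',
        add_mem (Submodule.smul_mem _ _ hw) (Submodule.smul_mem _ _ hw'), fun i => ?_⟩
      simp only [Pi.add_apply, Pi.smul_apply, smul_eq_mul, map_add, map_mul, MvPolynomial.map_C, ← he, ← he',
        MvPolynomial.smul_eq_C_mul]
      ring
    | smul q u _ hu =>
      obtain ⟨d, hd, w, hw, he⟩ := hu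
      obtain ⟨c, hc, q', hq'⟩ : ∃ c ∉ y, ∃ q', φ c • q = MvPolynomial.map φ q' := by
        induction q using MvPolynomial.induction_on' with
        | monomial e x =>
          obtain ⟨u', w', hw', rfl⟩ := IsFractionRing.div_surjective (A := R ⧸ y) x
          obtain ⟨u', rfl⟩ := Ideal.Quotient.mk_surjective u'
          obtain ⟨w', rfl⟩ := Ideal.Quotient.mk_surjective w'
          have hw0 : w' ∉ y := fun h => nonZeroDivisors.ne_zero hw' (Ideal.Quotient.eq_zero_iff_mem.2 h)
          refine ⟨w', hw0, MvPolynomial.monomial e u', ?_⟩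
          rw [MvPolynomial.map_monomial, MvPolynomial.smul_monomial, smul_eq_mul]
          congr 1
          exact mul_div_cancel₀ _ (fun h => hw0 ((hφ _).1 h))
        | add p q hp hq =>
          obtain ⟨c, hc, p', hp'⟩ := hp
          obtain ⟨c', hc', q', hq'⟩ := hq
          refine ⟨c * c', fun h => (hy.mem_or_mem h).elim hc hc', MvPolynomial.C c' * p' + MvPolynomial.C c * q', ?_⟩
          simp only [map_add, map_mul, MvPolynomial.map_C, ← hp', ← hq', MvPolynomial.smul_eq_C_mul]
          ring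
      refine ⟨c * d, fun h => (hy.mem_or_mem h).elim hc hd, q' • w, Submodule.smul_mem _ _ hw, fun i => ?_⟩
      simp only [Pi.smul_apply, smul_eq_mul, map_mul, ← he, ← hq', MvPolynomial.smul_eq_C_mul]
      ring
  obtain ⟨d, hd, w, hw, he⟩ := hclear _ hmem
  obtain ⟨i, e, hne⟩ := hkey (st N) y hy (hay (N + 1)) d hd w hw
  refine hne ((hφ _).1 ?_)
  rw [← MvPolynomial.coeff_map, map_sub, MvPolynomial.smul_eq_C_mul, map_mul, MvPolynomial.map_C, ← he i,
    MvPolynomial.smul_eq_C_mul]
  simp [coeffMap]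

/-- Generic freeness of a finite type algebra over a reduced ring. -/
theorem exists_free_and_finitePresentation_of_isReduced {R S : Type u} [CommRing R] [IsReduced R] [CommRing S]
    [Algebra R S] [Algebra.FiniteType R S] {b : R} (hb : b ≠ 0) :
    ∃ f : R, f ≠ 0 ∧ b ∣ f ∧
      (∀ (R' : Type u) [CommRing R'] [Algebra R R'], IsUnit (algebraMap R R' f) →
        Module.Free R' (R' ⊗[R] S) ∧ Algebra.FinitePresentation R' (R' ⊗[R] S)) := by
  classical
  obtain ⟨n, φ, hφ⟩ := Algebra.FiniteType.iff_quotient_mvPolynomial''.1 ‹Algebra.FiniteType R S›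
  let _ : Algebra (MvPolynomial (Fin n) R) S := φ.toRingHom.toAlgebra
  have : IsScalarTower R (MvPolynomial (Fin n) R) S := IsScalarTower.of_algebraMap_eq fun r =>
    (φ.commutes r).symm
  let π : (Fin 1 → MvPolynomial (Fin n) R) →ₗ[MvPolynomial (Fin n) R] S :=
    Algebra.linearMap (MvPolynomial (Fin n) R) S ∘ₗ LinearMap.proj 0
  have hπ : Function.Surjective π := fun s => by
    obtain ⟨p, hp⟩ := hφ s
    exact ⟨fun _ => p, hp⟩
  obtain ⟨f, hf, hbf, hfree, W, hWfg, hWle, hW⟩ := exists_free_and_fg_kernel_of_isReduced π hπ hb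
  refine ⟨f, hf, hbf, fun R' _ _ hu => ⟨hfree R' hu, ?_⟩⟩
  let J : Ideal (MvPolynomial (Fin n) R) := W.map (LinearMap.proj 0)
  have hJfg : J.FG := hWfg.map _
  let Φ : R' ⊗[R] MvPolynomial (Fin n) R →ₐ[R'] R' ⊗[R] S :=
    Algebra.TensorProduct.map (AlgHom.id R' R') φ
  have hΦ : Function.Surjective Φ := LinearMap.lTensor_surjective (g := φ.toLinearMap) R' hφ
  have : Algebra.FinitePresentation R' (R' ⊗[R] MvPolynomial (Fin n) R) :=
    Algebra.FinitePresentation.equiv (MvPolynomial.algebraTensorAlgEquiv R R').symm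
  refine Algebra.FinitePresentation.of_surjective hΦ ?_
  let inr : MvPolynomial (Fin n) R →ₐ[R] R' ⊗[R] MvPolynomial (Fin n) R :=
    Algebra.TensorProduct.includeRight
  suffices hker : RingHom.ker Φ.toRingHom = J.map inr by rw [hker]; exact hJfg.map _
  have h0 : RingHom.ker (Algebra.TensorProduct.map (AlgHom.id R R') φ) =
      (RingHom.ker φ).map inr :=
    Algebra.TensorProduct.lTensor_ker φ hφ
  refine le_antisymm ?_ ?_
  · intro x hx
    have hx' : x ∈ (RingHom.ker φ).map inr := h0 ▸ (hx : Φ x = 0)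
    refine (Ideal.map_le_iff_le_comap.2 ?_ : (RingHom.ker φ).map inr ≤ J.map inr) hx'
    intro a ha
    obtain ⟨k, hk⟩ := hW (fun _ => a) ha
    have hmem : f ^ k • a ∈ J := ⟨_, hk, rfl⟩
    have h1 : algebraMap R R' (f ^ k) • inr a ∈ J.map inr := by
      rw [algebraMap_smul, ← map_smul]
      exact Ideal.mem_map_of_mem _ hmem
    obtain ⟨v, hv⟩ := IsUnit.pow k hu
    rw [map_pow, ← hv] at h1
    have h2 := Submodule.smul_of_tower_mem (J.map inr) ((v⁻¹ : R'ˣ) : R') h1
    rwa [smul_smul, Units.inv_mul, one_smul] at h2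
  · rw [Ideal.map_le_iff_le_comap]
    rintro a ⟨v, hv, rfl⟩
    have : φ (v 0) = 0 := hWle hv
    show Φ (inr (v 0)) = 0
    simp [Φ, inr, this]

end Groth.Agent.FlatH4
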