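import Groth.Agent.Lib.FlatH4.InjCrit

universe u

namespace Groth.Agent.FlatH4

open TensorProduct LinearMap

/-- If `M` is flat over `R`, then `M ⊗_S I S → M` is injective. -/
theorem injective_lTensor_map {R S M : Type u} [CommRing R] [CommRing S] [Algebra R S]
    [AddCommGroup M] [Module S M] [Module R M] [IsScalarTower R S M] [Module.Flat R M]
    (I : Ideal R) : Function.Injective (LinearMap.lTensor M (I.map (algebraMap R S)).subtype) := by
  let θ : I →ₗ[R] (I.map (algebraMap R S)) :=
    (Algebra.linearMap R S ∘ₗ I.subtype).codRestrict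
      ((I.map (algebraMap R S)).restrictScalars R) fun r => Ideal.mem_map_of_mem _ r.2
  -- the canonical map `M ⊗_R I → M ⊗_S I S`, which is surjective
  let Θ : M ⊗[R] I →ₗ[R] M ⊗[S] (I.map (algebraMap R S)) :=
    TensorProduct.lift (((TensorProduct.mk S M (I.map (algebraMap R S))).restrictScalars₁₂ R R).compl₂ θ)
  have hsurj : Function.Surjective Θ := by
    intro z
    induction z using TensorProduct.induction_on with
    | zero => exact ⟨0, map_zero _⟩
    | add a b ha hb =>
      obtain ⟨a', rfl⟩ := ha
      obtain ⟨b', rfl⟩ := hb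
      exact ⟨a' + b', map_add _ _ _⟩
    | tmul m z =>
      obtain ⟨z, hz⟩ := z
      suffices ∀ w ∈ I.map (algebraMap R S), ∀ m : M, ∀ hw : w ∈ I.map (algebraMap R S),
          ∃ x, Θ x = m ⊗ₜ[S] (⟨w, hw⟩ : I.map (algebraMap R S)) from this z hz m hz
      intro w hw
      refine Submodule.span_induction ?_ ?_ ?_ ?_ hw
      · rintro _ ⟨r, hr, rfl⟩ m _
        exact ⟨m ⊗ₜ ⟨r, hr⟩, by simp only [Θ, TensorProduct.lift.tmul]; rfl⟩
      · intro m _
        exact ⟨0, by rw [map_zero]; exact (TensorProduct.tmul_zero _ m).symm⟩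
      · intro a b ha hb iha ihb m _
        obtain ⟨x, hx⟩ := iha m ha
        obtain ⟨y, hy⟩ := ihb m hb
        exact ⟨x + y, by rw [map_add, hx, hy, ← TensorProduct.tmul_add]; rfl⟩
      · intro s a ha iha m _
        obtain ⟨x, hx⟩ := iha (s • m) ha
        exact ⟨x, by rw [hx, TensorProduct.smul_tmul]; rfl⟩
  have hcomm : ∀ x, TensorProduct.rid S M ((I.map (algebraMap R S)).subtype.lTensor M (Θ x)) =
      TensorProduct.rid R M (I.subtype.lTensor M x) := by
    intro x
    induction x using TensorProduct.induction_on with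
    | zero => simp
    | tmul m r =>
      show TensorProduct.rid S M (m ⊗ₜ[S] (algebraMap R S r)) = (r : R) • m
      rw [TensorProduct.rid_tmul, algebraMap_smul]
    | add a b ha hb => simp only [map_add, ha, hb]
  rw [injective_iff_map_eq_zero]
  intro z hz
  obtain ⟨x, rfl⟩ := hsurj z
  have : x = 0 := by
    apply Module.Flat.lTensor_preserves_injective_linearMap (M := M) I.subtype I.injective_subtype
    apply (TensorProduct.rid R M).injective
    rw [← hcomm x, hz]; simp
  simp [this]

end Groth.Agent.FlatH4
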