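import Groth.Agent.Lib.FlatH4.FlatDescentAt
import Mathlib.RingTheory.Spectrum.Prime.Topology
import Mathlib.RingTheory.MvPolynomial.Basic
import Mathlib.RingTheory.Ideal.MinimalPrime.Noetherian
import Mathlib.RingTheory.TensorProduct.MvPolynomial

/-!
# Openness of the flat locus
-/

universe u

namespace Groth.Agent.FlatH4

open TensorProduct LinearMap

/-- In the spectrum of a noetherian ring, a set stable under generization is open if it contains a
nonempty open part of the closure of each of its points. -/
theorem isOpen_primeSpectrum_of_forall {S : Type u} [CommRing S] [IsNoetherianRing S]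
    (U : Set (PrimeSpectrum S))
    (hgen : ∀ q q' : PrimeSpectrum S, q'.asIdeal ≤ q.asIdeal → q ∈ U → q' ∈ U)
    (h : ∀ q ∈ U, ∃ f ∉ q.asIdeal, ∀ q' : PrimeSpectrum S,
      q.asIdeal ≤ q'.asIdeal → f ∉ q'.asIdeal → q' ∈ U) : IsOpen U := by
  classical
  rw [← isClosed_compl_iff, ← closure_eq_iff_isClosed,
    ← PrimeSpectrum.zeroLocus_vanishingIdeal_eq_closure]
  refine Set.Subset.antisymm (fun q hq hqU => ?_)
    (by rw [PrimeSpectrum.zeroLocus_vanishingIdeal_eq_closure]; exact subset_closure)
  set I := PrimeSpectrum.vanishingIdeal Uᶜ with hI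
  obtain ⟨P, hP, hPq⟩ := Ideal.exists_minimalPrimes_le (I := I) (J := q.asIdeal) hq
  haveI := hP.1.1
  obtain ⟨f, hf, hfU⟩ := h ⟨P, hP.1.1⟩ (hgen q _ hPq hqU)
  let T := (Ideal.finite_minimalPrimes_of_isNoetherianRing S I).toFinset.erase P
  have hT : ∀ J ∈ T, ∃ g ∈ J, g ∉ P := by
    intro J hJ
    obtain ⟨hne, hJ⟩ := Finset.mem_erase.1 hJ
    rw [Set.Finite.mem_toFinset] at hJ
    by_contra hc
    push Not at hc
    exact hne (le_antisymm hc (hP.2 hJ.1 hc))
  choose g hg hgP using hT
  have hmem : f * ∏ J : T, g J J.2 ∈ I := by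
    rw [hI, PrimeSpectrum.mem_vanishingIdeal]
    intro z hz
    obtain ⟨J, hJ, hJz⟩ := Ideal.exists_minimalPrimes_le (I := I) (J := z.asIdeal)
      (fun x hx => (PrimeSpectrum.mem_vanishingIdeal _ _).1 hx z hz)
    rcases eq_or_ne J P with rfl | hne
    · by_contra hc
      exact hz (hfU z hJz fun hfz => hc (Ideal.mul_mem_right _ _ hfz))
    · have hJT : J ∈ T := Finset.mem_erase.2 ⟨hne, (Set.Finite.mem_toFinset _).2 hJ⟩
      exact Ideal.mul_mem_left _ _ ((Ideal.IsPrime.prod_mem_iff).2
        ⟨⟨J, hJT⟩, Finset.mem_univ _, hJz (hg J hJT)⟩)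
  rcases Ideal.IsPrime.mem_or_mem hP.1.1 (hP.1.2 hmem) with h1 | h1
  · exact hf h1
  · obtain ⟨J, -, hJ⟩ := (Ideal.IsPrime.prod_mem_iff).1 h1
    exact hgP J J.2 hJ

variable {R S : Type u} [CommRing R] [CommRing S] [Algebra R S] {M : Type u} [AddCommGroup M]
  [Module R M] [Module S M] [IsScalarTower R S M]

theorem flat_localized_mono (q q' : Ideal S) [q.IsPrime] [q'.IsPrime] (h : q' ≤ q)
    [Module.Flat R (LocalizedModule q.primeCompl M)] :
    Module.Flat R (LocalizedModule q'.primeCompl M) := by
  rw [flat_localized_iff]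
  intro J x hx
  obtain ⟨s, hs, hsx⟩ := exists_smul_eq_zero_of_flat_localized q J.subtype J.injective_subtype x hx
  exact ⟨s, fun hs' => hs (h hs'), hsx⟩

/-- The flat locus of a finite module is open, noetherian case. -/
theorem isOpen_flat_localized_of_isNoetherianRing [IsNoetherianRing R] [Algebra.FiniteType R S]
    [Module.Finite S M] :
    IsOpen {q : PrimeSpectrum S | Module.Flat R (LocalizedModule q.asIdeal.primeCompl M)} := by
  classical
  haveI : IsNoetherianRing S := Algebra.FiniteType.isNoetherianRing R S
  refine isOpen_primeSpectrum_of_forall _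
    (fun q q' h hq => @flat_localized_mono R S _ _ _ M _ _ _ _ q.asIdeal q'.asIdeal _ _ h hq) ?_
  intro q hq
  let p := q.asIdeal.comap (algebraMap R S)
  obtain ⟨f, hfp, hstar⟩ := exists_modFree (M := M) (S := S) p
  haveI : Module.Finite R p := Module.Finite.iff_fg.2 (IsNoetherian.noetherian p)
  haveI : Module.Finite S (M ⊗[R] p) :=
    Module.Finite.equiv (AlgebraTensorModule.cancelBaseChange R S S M p)
  haveI : IsNoetherian S (M ⊗[R] p) := isNoetherian_of_isNoetherianRing_of_finite S _
  obtain ⟨G, hG⟩ := IsNoetherian.noetherian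
    (LinearMap.ker (AlgebraTensorModule.lTensor S M p.subtype))
  haveI : Module.Flat R (LocalizedModule q.asIdeal.primeCompl M) := hq
  have hG' : ∀ x : G, p.subtype.lTensor M x = 0 := fun x => hG.le (Submodule.subset_span x.2)
  choose s hs hsx using fun x : G =>
    exists_smul_eq_zero_of_flat_localized q.asIdeal p.subtype p.injective_subtype x.1 (hG' x)
  refine ⟨(∏ x, s x) * algebraMap R S f, fun h => ?_, fun q' hqq' hsf => ?_⟩
  · rcases Ideal.IsPrime.mem_or_mem inferInstance h with h | h
    · obtain ⟨i, -, hi⟩ := (Ideal.IsPrime.prod_mem_iff).1 h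
      exact hs i hi
    · exact hfp h
  refine flat_localized_of_kernels p q'.asIdeal
    (Ideal.map_le_iff_le_comap.2 (Ideal.comap_mono hqq')) (fun x hx => ?_)
    (fun {N N'} _ _ _ _ hN hN' g hg x hx => ?_)
  · refine ⟨∏ x, s x, fun h => hsf (Ideal.mul_mem_right _ _ h), ?_⟩
    have hx' : x ∈ Submodule.span S (G : Set (M ⊗[R] p)) := hG.ge hx
    clear hx
    induction hx' using Submodule.span_induction with
    | mem y hy =>
      rw [← Finset.prod_erase_mul _ _ (Finset.mem_univ (⟨y, hy⟩ : G)), mul_smul, hsx ⟨y, hy⟩,
        smul_zero]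
    | zero => exact smul_zero _
    | add a b _ _ ha hb => rw [smul_add, ha, hb, add_zero]
    | smul a b _ hb => rw [smul_comm, hb, smul_zero]
  · obtain ⟨k, hk⟩ := hstar hN hN' g hg (TensorProduct.comm R M N x) (by
      rw [show g.rTensor M (TensorProduct.comm R M N x) =
        TensorProduct.comm R M N' (g.lTensor M x) from by
          clear hx
          induction x using TensorProduct.induction_on with
          | zero => simp
          | tmul a b => simp
          | add a b ha hb => simp only [map_add, ha, hb], hx, map_zero])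
    refine ⟨algebraMap R S (f ^ k), fun h => ?_, ?_⟩
    · rw [map_pow] at h
      exact hsf (Ideal.mul_mem_left _ _ (Ideal.IsPrime.mem_of_pow_mem inferInstance k h))
    · rw [algebraMap_smul]
      exact (TensorProduct.comm R M N).injective (by rw [map_smul, hk, map_zero])

/-- Flatness at `q` only depends on the isomorphism class of the module. -/
theorem flat_localized_of_linearEquiv (q : Ideal S) [q.IsPrime] {M' : Type u} [AddCommGroup M']
    [Module R M'] [Module S M'] [IsScalarTower R S M'] (e : M ≃ₗ[S] M')
    [Module.Flat R (LocalizedModule q.primeCompl M)] :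
    Module.Flat R (LocalizedModule q.primeCompl M') := by
  rw [flat_localized_iff]
  intro J x hx
  let θ := TensorProduct.congr (e.restrictScalars R) (LinearEquiv.refl R J)
  obtain ⟨y, rfl⟩ := θ.surjective x
  obtain ⟨s, hs, hsx⟩ := exists_smul_eq_zero_of_flat_localized q J.subtype J.injective_subtype y (by
    apply (TensorProduct.congr (e.restrictScalars R) (LinearEquiv.refl R R)).injective
    rw [map_zero, ← hx]
    clear hx
    induction y using TensorProduct.induction_on with
    | zero => simp
    | tmul a b => simp [θ]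
    | add a b ha hb => simp only [map_add, ha, hb])
  refine ⟨s, hs, ?_⟩
  rw [← map_zero θ, ← hsx]
  clear hx hsx
  induction y using TensorProduct.induction_on with
  | zero => simp
  | tmul a b => simp [θ, TensorProduct.smul_tmul']
  | add a b ha hb => simp only [map_add, smul_add, ha, hb]

theorem flat_localized_congr (q : Ideal S) [q.IsPrime] {M' : Type u} [AddCommGroup M']
    [Module R M'] [Module S M'] [IsScalarTower R S M'] (e : M ≃ₗ[S] M') :
    Module.Flat R (LocalizedModule q.primeCompl M) ↔
      Module.Flat R (LocalizedModule q.primeCompl M') :=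
  ⟨fun _ => flat_localized_of_linearEquiv q e, fun _ => flat_localized_of_linearEquiv q e.symm⟩

/-- The map `B ⊗ S → A ⊗ S` of a subalgebra. -/
theorem tensorAct_baseChange_comap {A : Type u} [CommRing A] [Algebra R A] (B : Subalgebra R A)
    (s : B ⊗[R] S) (m : B ⊗[R] M) :
    AlgebraTensorModule.cancelBaseChange R B A A M ((1 : A) ⊗ₜ[B] tensorAct R B S M s m) =
      tensorAct R A S M (Algebra.TensorProduct.map B.val (AlgHom.id R S) s)
        (AlgebraTensorModule.cancelBaseChange R B A A M ((1 : A) ⊗ₜ[B] m)) := by
  induction m using TensorProduct.induction_on with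
  | zero => simp
  | add a b ha hb => simp only [map_add, tmul_add, ha, hb]
  | tmul c m =>
    induction s using TensorProduct.induction_on with
    | zero => simp
    | add a b ha hb => simp only [map_add, LinearMap.add_apply, tmul_add, ha, hb]
    | tmul b t => simp [tensorAct_tmul, Algebra.smul_def]

/-- Openness of the flat locus after an arbitrary base change from a noetherian ring. -/
theorem isOpen_flat_localized_tensor [IsNoetherianRing R] [Algebra.FiniteType R S]
    {F : Type u} [AddCommGroup F] [Module R F] [Module S F] [IsScalarTower R S F] [Module.Finite S F]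
    [Module.Flat R F] [Module.Finite S M] (π : F →ₗ[S] M) (hπ : Function.Surjective π)
    (A : Type u) [CommRing A] [Algebra R A] :
    letI := tensorModule R A S M
    haveI := tensorModule_isScalarTower R A S M
    IsOpen {q : PrimeSpectrum (A ⊗[R] S) |
      Module.Flat A (LocalizedModule q.asIdeal.primeCompl (A ⊗[R] M))} := by
  letI := tensorModule R A S M
  haveI := tensorModule_isScalarTower R A S M
  rw [isOpen_iff_forall_mem_open]
  intro q hq
  obtain ⟨B, hB, hflat⟩ := exists_subalgebra_flatAt_of_presentation π hπ q.asIdeal hq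
  haveI : IsNoetherianRing B := isNoetherianRing_of_fg hB
  haveI : Algebra.FiniteType B (B ⊗[R] S) := inferInstance
  letI := tensorModule R B S M
  haveI := tensorModule_isScalarTower R B S M
  haveI := tensorModule_finite R B S M
  let ψ := (Algebra.TensorProduct.map B.val (AlgHom.id R S)).toRingHom
  refine ⟨PrimeSpectrum.comap ψ ⁻¹'
    {q : PrimeSpectrum (B ⊗[R] S) | Module.Flat B (LocalizedModule q.asIdeal.primeCompl (B ⊗[R] M))},
    fun q' hq' => ?_, isOpen_flat_localized_of_isNoetherianRing.preimage
      (PrimeSpectrum.continuous_comap ψ), hflat B le_rfl hB⟩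
  haveI : Module.Flat B (LocalizedModule (q'.asIdeal.comap ψ).primeCompl (B ⊗[R] M)) := hq'
  exact flat_localized_baseChange A ψ q'.asIdeal
    (AlgebraTensorModule.cancelBaseChange R B A A M) (fun s m => tensorAct_baseChange_comap B s m)

end Groth.Agent.FlatH4
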