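import Groth.Agent.Lib.FlatH4.GenFreeDom
import Mathlib.RingTheory.FinitePresentation
import Mathlib.LinearAlgebra.Pi
import Mathlib.Algebra.Module.FinitePresentation

/-!
# Generic freeness: final forms
-/

universe u

namespace Groth.Agent.FlatH4

open TensorProduct

variable {R S M : Type u} [CommRing R] [IsDomain R] [CommRing S] [Algebra R S]
  [Algebra.FiniteType R S] [AddCommGroup M] [Module R M] [Module S M] [IsScalarTower R S M]
  [Module.Finite S M]

/-- Generic freeness for a finite module over a finite type algebra over a domain, with finite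
generation of the relations. -/
theorem exists_free_and_fg_relations :
    ∃ f : R, f ≠ 0 ∧
      (∀ (R' : Type u) [CommRing R'] [Algebra R R'], IsUnit (algebraMap R R' f) →
        Module.Free R' (R' ⊗[R] M)) ∧
      ∃ (m : ℕ) (π : (Fin m → S) →ₗ[S] M) (W : Submodule S (Fin m → S)), Function.Surjective π ∧
        W.FG ∧ W ≤ LinearMap.ker π ∧ ∀ ℓ, π ℓ = 0 → ∃ k : ℕ, f ^ k • ℓ ∈ W := by
  classical
  obtain ⟨n, φ, hφ⟩ := Algebra.FiniteType.iff_quotient_mvPolynomial''.1 ‹Algebra.FiniteType R S›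
  obtain ⟨m, π, hπ⟩ := Module.Finite.exists_fin' S M
  let _ : Algebra (MvPolynomial (Fin n) R) S := φ.toRingHom.toAlgebra
  let _ : Module (MvPolynomial (Fin n) R) M := Module.compHom M φ.toRingHom
  have : IsScalarTower (MvPolynomial (Fin n) R) S M :=
    IsScalarTower.of_algebraMap_smul fun p x => rfl
  have : IsScalarTower R (MvPolynomial (Fin n) R) S := IsScalarTower.of_algebraMap_eq fun r =>
    (φ.commutes r).symm
  have : IsScalarTower R (MvPolynomial (Fin n) R) M := IsScalarTower.of_algebraMap_smul fun r x => by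
    show φ (algebraMap R _ r) • x = r • x
    rw [AlgHom.commutes, algebraMap_smul]
  let c : (Fin m → MvPolynomial (Fin n) R) →ₗ[MvPolynomial (Fin n) R] (Fin m → S) :=
    (Algebra.linearMap (MvPolynomial (Fin n) R) S).compLeft (Fin m)
  have hc : Function.Surjective c := fun v => by
    choose w hw using fun i => hφ (v i)
    exact ⟨w, funext hw⟩
  obtain ⟨f, hf, hfree, W, hWfg, hWle, hW⟩ :=
    exists_free_and_fg_kernel (π.restrictScalars (MvPolynomial (Fin n) R) ∘ₗ c) (hπ.comp hc)
  obtain ⟨t, rfl⟩ := hWfg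
  refine ⟨f, hf, hfree, m, π, Submodule.span S (c '' (t : Set _)), hπ,
    Submodule.fg_span (t.finite_toSet.image c), ?_, fun ℓ hℓ => ?_⟩
  · rw [Submodule.span_le]
    rintro _ ⟨v, hv, rfl⟩
    exact hWle (Submodule.subset_span hv)
  · obtain ⟨v, rfl⟩ := hc ℓ
    obtain ⟨k, hk⟩ := hW v hℓ
    refine ⟨k, ?_⟩
    have h2 := Submodule.apply_mem_span_image_of_mem_span c hk
    rw [LinearMap.map_smul_of_tower] at h2
    exact Submodule.span_le_restrictScalars (MvPolynomial (Fin n) R) S _ h2

/-- Generic freeness of a finite type algebra over a domain. -/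
theorem exists_free_and_finitePresentation :
    ∃ f : R, f ≠ 0 ∧
      (∀ (R' : Type u) [CommRing R'] [Algebra R R'], IsUnit (algebraMap R R' f) →
        Module.Free R' (R' ⊗[R] S) ∧ Algebra.FinitePresentation R' (R' ⊗[R] S)) := by
  classical
  obtain ⟨n, φ, hφ⟩ := Algebra.FiniteType.iff_quotient_mvPolynomial''.1 ‹Algebra.FiniteType R S›
  let _ : Algebra (MvPolynomial (Fin n) R) S := φ.toRingHom.toAlgebra
  have : IsScalarTower R (MvPolynomial (Fin n) R) S := IsScalarTower.of_algebraMap_eq fun r =>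
    (φ.commutes r).symm
  let π : (Fin 1 → MvPolynomial (Fin n) R) →ₗ[MvPolynomial (Fin n) R] S :=
    Algebra.linearMap (MvPolynomial (Fin n) R) S ∘ₗ LinearMap.proj 0
  have hπ : Function.Surjective π := fun s => by
    obtain ⟨p, hp⟩ := hφ s
    exact ⟨fun _ => p, hp⟩
  obtain ⟨f, hf, hfree, W, hWfg, hWle, hW⟩ := exists_free_and_fg_kernel π hπ
  refine ⟨f, hf, fun R' _ _ hu => ⟨hfree R' hu, ?_⟩⟩
  let J : Ideal (MvPolynomial (Fin n) R) := W.map (LinearMap.proj 0)
  have hJfg : J.FG := hWfg.map _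
  let Φ : R' ⊗[R] MvPolynomial (Fin n) R →ₐ[R'] R' ⊗[R] S :=
    Algebra.TensorProduct.map (AlgHom.id R' R') φ
  have hΦ : Function.Surjective Φ := LinearMap.lTensor_surjective (g := φ.toLinearMap) R' hφ
  have : Algebra.FinitePresentation R' (R' ⊗[R] MvPolynomial (Fin n) R) :=
    Algebra.FinitePresentation.equiv (MvPolynomial.algebraTensorAlgEquiv R R').symm
  refine Algebra.FinitePresentation.of_surjective hΦ ?_
  let inr : MvPolynomial (Fin n) R →ₐ[R] R' ⊗[R] MvPolynomial (Fin n) R :=
    Algebra.TensorProduct.includeRight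
  suffices hker : RingHom.ker Φ.toRingHom = J.map inr by rw [hker]; exact hJfg.map _
  have h0 : RingHom.ker (Algebra.TensorProduct.map (AlgHom.id R R') φ) =
      (RingHom.ker φ).map inr :=
    Algebra.TensorProduct.lTensor_ker φ hφ
  refine le_antisymm ?_ ?_
  · intro x hx
    have hx' : x ∈ (RingHom.ker φ).map inr := h0 ▸ (hx : Φ x = 0)
    refine (Ideal.map_le_iff_le_comap.2 ?_ : (RingHom.ker φ).map inr ≤ J.map inr) hx'
    intro a ha
    obtain ⟨k, hk⟩ := hW (fun _ => a) ha
    have hmem : f ^ k • a ∈ J := ⟨_, hk, rfl⟩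
    have h1 : algebraMap R R' (f ^ k) • inr a ∈ J.map inr := by
      rw [algebraMap_smul, ← map_smul]
      exact Ideal.mem_map_of_mem _ hmem
    obtain ⟨v, hv⟩ := IsUnit.pow k hu
    rw [map_pow, ← hv] at h1
    have h2 := Submodule.smul_of_tower_mem (J.map inr) ((v⁻¹ : R'ˣ) : R') h1
    rwa [smul_smul, Units.inv_mul, one_smul] at h2
  · rw [Ideal.map_le_iff_le_comap]
    rintro a ⟨v, hv, rfl⟩
    have : φ (v 0) = 0 := hWle hv
    show Φ (inr (v 0)) = 0
    simp [Φ, inr, this]

end Groth.Agent.FlatH4
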