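import Groth.Agent.Lib.FlatH4.LocCrit
import Mathlib.RingTheory.Jacobson.Ideal
import Mathlib.RingTheory.Nakayama
import Mathlib.LinearAlgebra.FreeModule.Basic
import Mathlib.LinearAlgebra.Basis.VectorSpace
import Mathlib.RingTheory.LocalRing.MaximalIdeal.Basic

/-!
# Injectivity modulo an ideal of maps into flat modules
-/

universe u

namespace Groth.Agent.FlatH4

open TensorProduct LinearMap

variable {A : Type u} [CommRing A] {M N : Type u} [AddCommGroup M] [Module A M]
  [AddCommGroup N] [Module A N]

theorem one_tmul_eq_zero_iff (J : Ideal A) (x : N) :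
    (1 : A ⧸ J) ⊗ₜ[A] x = 0 ↔ x ∈ J • (⊤ : Submodule A N) := by
  rw [← (quotTensorEquivQuotSMul N J).map_eq_zero_iff, quotTensorEquivQuotSMul_mk_one_tmul,
    Submodule.Quotient.mk_eq_zero]

variable (a : Ideal A) (u : N →ₗ[A] M)

/-- If `V ⊗ u` is injective for every `V` killed by `a` (e.g. if `(A/a) ⊗ u` is injective and
`A / a` is a field), `M` is flat, and `J' ≤ J` with `a J ≤ J'`, then `u x ∈ J' M` and `x ∈ J N`
imply `x ∈ J' N`. -/
theorem mem_smul_of_map_mem_smul [Module.Flat A M]
    (hu : ∀ (V : Type u) [AddCommGroup V] [Module A V], Module.IsTorsionBySet A V (a : Set A) →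
      Function.Injective (u.lTensor V))
    {J J' : Ideal A} (haJ : a * J ≤ J') (x : N) (hx : x ∈ J • (⊤ : Submodule A N))
    (hux : u x ∈ J' • (⊤ : Submodule A M)) : x ∈ J' • (⊤ : Submodule A N) := by
  obtain ⟨ξ, hξ⟩ : ∃ ξ : (J : Submodule A A) ⊗[A] N,
      TensorProduct.lid A N (J.subtype.rTensor N ξ) = x := by
    refine Submodule.smul_induction_on hx (fun r hr n _ => ⟨⟨r, hr⟩ ⊗ₜ n, by simp⟩) ?_
    rintro _ _ ⟨y, rfl⟩ ⟨z, rfl⟩
    exact ⟨y + z, by simp⟩
  let φ : J →ₗ[A] A ⧸ J' := J'.mkQ ∘ₗ J.subtype
  let j : J ⧸ LinearMap.ker φ →ₗ[A] A ⧸ J' := (LinearMap.ker φ).liftQ φ le_rfl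
  have hj : Function.Injective j :=
    LinearMap.ker_eq_bot.1 (Submodule.ker_liftQ_eq_bot _ _ _ le_rfl)
  have hV : Module.IsTorsionBySet A (J ⧸ LinearMap.ker φ) (a : Set A) := by
    intro v r
    obtain ⟨v, rfl⟩ := Submodule.mkQ_surjective _ v
    rw [← map_smul, Submodule.mkQ_apply, Submodule.Quotient.mk_eq_zero, LinearMap.mem_ker]
    have : (r : A) • (v : A) ∈ J' := haJ (Ideal.mul_mem_mul r.2 v.2)
    simp only [φ, LinearMap.comp_apply, LinearMap.map_smul, Submodule.subtype_apply, Submodule.mkQ_apply]
    exact (Submodule.Quotient.mk_eq_zero J').2 this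
  -- both composites send `ξ` to `1 ⊗ x`, resp. `1 ⊗ u x`
  have key : j.rTensor N ((LinearMap.ker φ).mkQ.rTensor N ξ) = (1 : A ⧸ J') ⊗ₜ[A] x := by
    rw [← rTensor_comp_apply, ← hξ]
    clear hξ
    induction ξ using TensorProduct.induction_on with
    | zero => simp
    | tmul r n =>
      simp only [j, φ, rTensor_tmul, LinearMap.comp_apply, Submodule.mkQ_apply,
        Submodule.liftQ_apply, TensorProduct.lid_tmul, ← TensorProduct.smul_tmul]
      congr 1
      rw [show (1 : A ⧸ J') = Submodule.Quotient.mk (1 : A) from rfl, ← Submodule.Quotient.mk_smul,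
        smul_eq_mul, mul_one]
    | add y z hy hz => simp only [map_add, hy, hz, tmul_add]
  have h0 : (LinearMap.ker φ).mkQ.rTensor N ξ = 0 := hu _ hV <| by
    rw [map_zero]
    apply (Module.Flat.rTensor_preserves_injective_linearMap (M := M) j hj)
    rw [map_zero, ← comp_apply, rTensor_comp_lTensor, ← lTensor_comp_rTensor, comp_apply, key,
      lTensor_tmul]
    exact (one_tmul_eq_zero_iff J' (u x)).2 hux
  exact (one_tmul_eq_zero_iff J' x).1 (by rw [← key, h0, map_zero])

/-- Separatedness form: modulo any ideal `I` such that `N / I N` is `a`-adically separated,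
`u` is injective. -/
theorem mem_smul_of_map_mem_smul_of_separated [Module.Flat A M]
    (hu : ∀ (V : Type u) [AddCommGroup V] [Module A V], Module.IsTorsionBySet A V (a : Set A) →
      Function.Injective (u.lTensor V))
    (I : Ideal A) (hsep : ∀ x : N, (∀ n : ℕ, x ∈ (I ⊔ a ^ n) • (⊤ : Submodule A N)) →
      x ∈ I • (⊤ : Submodule A N))
    (x : N) (hux : u x ∈ I • (⊤ : Submodule A M)) : x ∈ I • (⊤ : Submodule A N) := by
  refine hsep x fun n => ?_
  induction n with
  | zero => simp [Ideal.one_eq_top]
  | succ n ih =>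
    refine mem_smul_of_map_mem_smul a u hu ?_ x ih (Submodule.smul_mono_left le_sup_left hux)
    rw [Ideal.mul_sup, pow_succ']
    exact sup_le_sup Ideal.mul_le_right le_rfl

theorem injective_of_map_mem_smul
    (h : ∀ (I : Ideal A) (x : N), u x ∈ I • (⊤ : Submodule A M) → x ∈ I • (⊤ : Submodule A N)) :
    Function.Injective u :=
  (injective_iff_map_eq_zero u).2 fun x hx => by simpa using h ⊥ x (by simp [hx])

/-- Cokernel flatness criterion. -/
theorem flat_quotient_range [Module.Flat A M]
    (h : ∀ (I : Ideal A) (x : N), u x ∈ I • (⊤ : Submodule A M) → x ∈ I • (⊤ : Submodule A N)) :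
    Module.Flat A (M ⧸ LinearMap.range u) := by
  refine Module.Flat.iff_rTensor_injective'.2 fun I => ?_
  rw [injective_iff_map_eq_zero]
  intro q hq
  obtain ⟨t, rfl⟩ := lTensor_surjective I (LinearMap.range u).mkQ_surjective q
  set y := TensorProduct.lid A M (I.subtype.rTensor M t) with hy
  have hnat : TensorProduct.lid A _ ((I.subtype).rTensor _
      ((LinearMap.range u).mkQ.lTensor I t)) = (LinearMap.range u).mkQ y := by
    rw [hy]
    clear hq hy y
    induction t using TensorProduct.induction_on with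
    | zero => simp
    | tmul r m => simp
    | add a b ha hb => simp only [map_add, ha, hb]
  rw [hq, map_zero] at hnat
  obtain ⟨x, hx⟩ : y ∈ LinearMap.range u := (Submodule.Quotient.mk_eq_zero _).1 hnat.symm
  have hyI : y ∈ I • (⊤ : Submodule A M) := by
    rw [hy]
    clear hx hnat hq hy y x
    induction t using TensorProduct.induction_on with
    | zero => simp
    | tmul r m => simpa using Submodule.smul_mem_smul r.2 Submodule.mem_top
    | add a b ha hb => simp only [map_add]; exact add_mem ha hb
  have hxI := h I x (hx ▸ hyI)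
  obtain ⟨s, hs⟩ : ∃ s : (I : Submodule A A) ⊗[A] N,
      TensorProduct.lid A N (I.subtype.rTensor N s) = x := by
    refine Submodule.smul_induction_on hxI (fun r hr n _ => ⟨⟨r, hr⟩ ⊗ₜ n, by simp⟩) ?_
    rintro _ _ ⟨y, rfl⟩ ⟨z, rfl⟩
    exact ⟨y + z, by simp⟩
  have : t = u.lTensor I s := by
    apply Module.Flat.rTensor_preserves_injective_linearMap (M := M) I.subtype I.injective_subtype
    apply (TensorProduct.lid A M).injective
    rw [← hy, ← hx, ← hs]
    clear hs hxI hx
    induction s using TensorProduct.induction_on with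
    | zero => simp
    | tmul r n => simp
    | add a b ha hb => simp only [map_add, ha, hb]
  rw [this, ← lTensor_comp_apply, LinearMap.range_mkQ_comp]
  simp

/-- Over a field `A / a`, injectivity modulo `a` gives injectivity after tensoring with any
module killed by `a`. -/
theorem lTensor_injective_of_isMaximal [ha : a.IsMaximal]
    (h : Function.Injective (u.lTensor (A ⧸ a)))
    (V : Type u) [AddCommGroup V] [Module A V] (hV : Module.IsTorsionBySet A V (a : Set A)) :
    Function.Injective (u.lTensor V) := by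
  let _ := hV.module
  have := hV.isScalarTower (S := A)
  let _ := Ideal.Quotient.field a
  have : Module.Flat (A ⧸ a) V := inferInstance
  let g : (A ⧸ a) ⊗[A] N →ₗ[A ⧸ a] (A ⧸ a) ⊗[A] M := u.baseChange (A ⧸ a)
  have hg : Function.Injective (g.lTensor V) :=
    Module.Flat.lTensor_preserves_injective_linearMap g h
  let e := AlgebraTensorModule.cancelBaseChange A (A ⧸ a) (A ⧸ a) V N
  let e' := AlgebraTensorModule.cancelBaseChange A (A ⧸ a) (A ⧸ a) V M
  have key : ∀ x, u.lTensor V x = e' (g.lTensor _ (e.symm x)) := by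
    intro x
    induction x using TensorProduct.induction_on with
    | zero => simp
    | tmul v m => simp [e, e', g]
    | add x y hx hy => simp [map_add, hx, hy]
  intro x y hxy
  rw [key, key] at hxy
  exact e.symm.injective (hg (e'.injective hxy))

end Groth.Agent.FlatH4
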