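import Mathlib.RingTheory.TensorProduct.DirectLimitFG
import Mathlib.RingTheory.FinitePresentation
import Mathlib.RingTheory.Adjoin.FG
import Mathlib.RingTheory.TensorProduct.Maps

/-!
# Descending homomorphisms and isomorphisms of finitely presented algebras to finitely generated
subalgebras of the base
-/

universe u

namespace Groth.Agent.FlatH4

open TensorProduct

variable {R A C C₁ C₂ D : Type u} [CommRing R] [CommRing A] [Algebra R A] [CommRing C] [Algebra R C]
  [CommRing C₁] [Algebra R C₁] [CommRing C₂] [Algebra R C₂] [CommRing D] [Algebra R D]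

/-- The map `A₀ ⊗ D → A ⊗ D`. -/
noncomputable def subTensor (A₀ : Subalgebra R A) (D : Type u) [CommRing D] [Algebra R D] :
    A₀ ⊗[R] D →ₐ[R] A ⊗[R] D :=
  Algebra.TensorProduct.map A₀.val (AlgHom.id R D)

/-- The map `A₀ ⊗ D → B ⊗ D` for `A₀ ≤ B`. -/
noncomputable def inclTensor {A₀ B : Subalgebra R A} (h : A₀ ≤ B) (D : Type u) [CommRing D]
    [Algebra R D] : A₀ ⊗[R] D →ₐ[R] B ⊗[R] D :=
  Algebra.TensorProduct.map (Subalgebra.inclusion h) (AlgHom.id R D)

theorem subTensor_inclTensor {A₀ B : Subalgebra R A} (h : A₀ ≤ B) (x : A₀ ⊗[R] D) :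
    subTensor B D (inclTensor h D x) = subTensor A₀ D x := by
  induction x using TensorProduct.induction_on with
  | zero => simp
  | tmul a d => simp [subTensor, inclTensor]
  | add x y hx hy => simp only [map_add, hx, hy]

theorem inclTensor_inclTensor {A₀ B B' : Subalgebra R A} (h : A₀ ≤ B) (h' : B ≤ B')
    (x : A₀ ⊗[R] D) : inclTensor h' D (inclTensor h D x) = inclTensor (h.trans h') D x := by
  induction x using TensorProduct.induction_on with
  | zero => simp
  | tmul a d => simp [inclTensor]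
  | add x y hx hy => simp only [map_add, hx, hy]

theorem exists_subTensor_eq (z : A ⊗[R] D) :
    ∃ (A₀ : Subalgebra R A) (z₀ : A₀ ⊗[R] D), A₀.FG ∧ subTensor A₀ D z₀ = z := by
  obtain ⟨A₀, hA₀, z₀, hz₀⟩ := TensorProduct.Algebra.exists_of_fg z
  exact ⟨A₀, z₀, hA₀, hz₀⟩

theorem exists_forall_inclTensor_eq {ι : Type*} [Finite ι] {A₀ : Subalgebra R A} (hA₀ : A₀.FG)
    (x y : ι → A₀ ⊗[R] D) (h : ∀ i, subTensor A₀ D (x i) = subTensor A₀ D (y i)) :
    ∃ (B : Subalgebra R A) (hle : A₀ ≤ B), B.FG ∧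
      ∀ i, inclTensor hle D (x i) = inclTensor hle D (y i) := by
  classical
  cases nonempty_fintype ι
  suffices ∀ s : Finset ι, ∃ (B : Subalgebra R A) (hle : A₀ ≤ B), B.FG ∧
      ∀ i ∈ s, inclTensor hle D (x i) = inclTensor hle D (y i) by
    obtain ⟨B, hle, hB, hi⟩ := this Finset.univ
    exact ⟨B, hle, hB, fun i => hi i (Finset.mem_univ i)⟩
  intro s
  induction s using Finset.induction with
  | empty => exact ⟨A₀, le_rfl, hA₀, by simp⟩
  | @insert a s _ ih =>
    obtain ⟨B, hle, hB, hi⟩ := ih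
    obtain ⟨B', hle', hB', heq⟩ := TensorProduct.Algebra.eq_of_fg_of_subtype_eq (N := D) hA₀
      (t := x a) (t' := y a) (h a)
    refine ⟨B ⊔ B', hle.trans le_sup_left, hB.sup hB', fun i his => ?_⟩
    rcases Finset.mem_insert.1 his with rfl | his
    · rw [← inclTensor_inclTensor hle' le_sup_right, ← inclTensor_inclTensor hle' le_sup_right]
      exact congrArg (inclTensor (le_sup_right (a := B) (b := B')) D) heq
    · rw [← inclTensor_inclTensor hle le_sup_left, ← inclTensor_inclTensor hle le_sup_left, hi i his]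

theorem exists_lift_hom [Algebra.FinitePresentation R C] (φ : C →ₐ[R] A ⊗[R] D) :
    ∃ (A₀ : Subalgebra R A) (φ₀ : C →ₐ[R] A₀ ⊗[R] D), A₀.FG ∧
      ∀ c, subTensor A₀ D (φ₀ c) = φ c := by
  classical
  obtain ⟨n, f, hf, s, hs⟩ := Algebra.FinitePresentation.out (R := R) (A := C)
  choose Ai zi hAi hzi using fun i => exists_subTensor_eq (φ (f (MvPolynomial.X i)))
  let A₁ := Finset.univ.sup Ai
  have hA₁ : A₁.FG := Finset.sup_induction Subalgebra.fg_bot (fun a ha b hb => ha.sup hb)
    (fun i _ => hAi i)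
  let ψ : MvPolynomial (Fin n) R →ₐ[R] A₁ ⊗[R] D := MvPolynomial.aeval fun i =>
    inclTensor (Finset.le_sup (f := Ai) (Finset.mem_univ i)) D (zi i)
  have hψ : (subTensor A₁ D).comp ψ = φ.comp f := MvPolynomial.algHom_ext fun i => by
    simp [ψ, subTensor_inclTensor, hzi]
  obtain ⟨B, hle, hB, hrel⟩ := exists_forall_inclTensor_eq (ι := s) hA₁ (fun r => ψ r) (fun _ => 0)
    fun r => by
      have hr : f r = 0 := hs.le (Ideal.subset_span r.2)
      have := DFunLike.congr_fun hψ (r : MvPolynomial (Fin n) R)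
      simp only [AlgHom.comp_apply, hr, map_zero] at this
      rw [map_zero, this]
  have hker : RingHom.ker f ≤ RingHom.ker ((inclTensor hle D).comp ψ) := by
    refine hs.symm.le.trans (Ideal.span_le.2 fun r hr => ?_)
    have := hrel ⟨r, hr⟩
    rw [map_zero] at this
    exact this
  refine ⟨B, AlgHom.liftOfSurjective f hf ((inclTensor hle D).comp ψ) hker, hB, fun c => ?_⟩
  obtain ⟨p, rfl⟩ := hf c
  rw [AlgHom.liftOfSurjective_apply, AlgHom.comp_apply, subTensor_inclTensor]
  exact DFunLike.congr_fun hψ p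

theorem exists_inclTensor_comp_eq [Algebra.FiniteType R C] {A₀ : Subalgebra R A} (hA₀ : A₀.FG)
    (φ φ' : C →ₐ[R] A₀ ⊗[R] D) (h : ∀ c, subTensor A₀ D (φ c) = subTensor A₀ D (φ' c)) :
    ∃ (B : Subalgebra R A) (hle : A₀ ≤ B), B.FG ∧
      (inclTensor hle D).comp φ = (inclTensor hle D).comp φ' := by
  obtain ⟨n, f, hf⟩ := Algebra.FiniteType.iff_quotient_mvPolynomial''.1 ‹Algebra.FiniteType R C›
  obtain ⟨B, hle, hB, hi⟩ := exists_forall_inclTensor_eq hA₀
    (fun i => φ (f (MvPolynomial.X i))) (fun i => φ' (f (MvPolynomial.X i))) fun i => h _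
  refine ⟨B, hle, hB, (AlgHom.cancel_right hf).1 (MvPolynomial.algHom_ext fun i => ?_)⟩
  exact hi i

/-- The `B`-linear extension of `φ : C₁ → B ⊗ C₂`. -/
noncomputable def extendHom (B : Type u) [CommRing B] [Algebra R B] (φ : C₁ →ₐ[R] B ⊗[R] C₂) :
    B ⊗[R] C₁ →ₐ[B] B ⊗[R] C₂ :=
  Algebra.TensorProduct.lift (Algebra.ofId B (B ⊗[R] C₂)) φ fun _ _ => Commute.all _ _

theorem extendHom_one_tmul (B : Type u) [CommRing B] [Algebra R B] (φ : C₁ →ₐ[R] B ⊗[R] C₂)
    (c : C₁) : extendHom B φ (1 ⊗ₜ c) = φ c := by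
  simp [extendHom, ← Algebra.TensorProduct.one_def]

/-- An isomorphism of base changes of finitely presented algebras descends to a finitely
generated subalgebra. -/
theorem exists_subalgebra_algEquiv [Algebra.FinitePresentation R C₁]
    [Algebra.FinitePresentation R C₂] (e : A ⊗[R] C₁ ≃ₐ[A] A ⊗[R] C₂) :
    ∃ B : Subalgebra R A, B.FG ∧ Nonempty (B ⊗[R] C₁ ≃ₐ[B] B ⊗[R] C₂) := by
  obtain ⟨A₁, φ₁, hA₁, hφ₁⟩ := exists_lift_hom
    ((e.toAlgHom.restrictScalars R).comp Algebra.TensorProduct.includeRight)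
  obtain ⟨A₂, φ₂, hA₂, hφ₂⟩ := exists_lift_hom
    ((e.symm.toAlgHom.restrictScalars R).comp Algebra.TensorProduct.includeRight)
  let A₀ := A₁ ⊔ A₂
  let φ := (inclTensor (le_sup_left : A₁ ≤ A₀) C₂).comp φ₁
  let φ' := (inclTensor (le_sup_right : A₂ ≤ A₀) C₁).comp φ₂
  have hφ : ∀ z, subTensor A₀ C₂ (extendHom A₀ φ z) = e (subTensor A₀ C₁ z) := by
    intro z
    induction z using TensorProduct.induction_on with
    | zero => simp
    | add x y hx hy => simp only [map_add, hx, hy]
    | tmul a c =>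
      have hl : extendHom A₀ φ (a ⊗ₜ c) = (a ⊗ₜ[R] (1 : C₂)) * φ c := by
        simp [extendHom, Algebra.TensorProduct.algebraMap_apply]
      have hr : subTensor A₀ C₁ (a ⊗ₜ c) = algebraMap A (A ⊗[R] C₁) a * ((1 : A) ⊗ₜ[R] c) := by
        simp [subTensor, Algebra.TensorProduct.algebraMap_apply]
      rw [hl, map_mul, hr, map_mul, e.commutes]
      congr 1
      simp [φ, subTensor_inclTensor, hφ₁]
  have hφ' : ∀ z, subTensor A₀ C₁ (extendHom A₀ φ' z) = e.symm (subTensor A₀ C₂ z) := by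
    intro z
    induction z using TensorProduct.induction_on with
    | zero => simp
    | add x y hx hy => simp only [map_add, hx, hy]
    | tmul a c =>
      have hl : extendHom A₀ φ' (a ⊗ₜ c) = (a ⊗ₜ[R] (1 : C₁)) * φ' c := by
        simp [extendHom, Algebra.TensorProduct.algebraMap_apply]
      have hr : subTensor A₀ C₂ (a ⊗ₜ c) = algebraMap A (A ⊗[R] C₂) a * ((1 : A) ⊗ₜ[R] c) := by
        simp [subTensor, Algebra.TensorProduct.algebraMap_apply]
      rw [hl, map_mul, hr, map_mul, e.symm.commutes]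
      congr 1
      simp [φ', subTensor_inclTensor, hφ₂]
  obtain ⟨B₁, hle₁, hB₁, h₁⟩ := exists_inclTensor_comp_eq (A₀ := A₀) (hA₁.sup hA₂)
    (((extendHom A₀ φ').restrictScalars R).comp φ) Algebra.TensorProduct.includeRight fun c => by
      simp only [AlgHom.comp_apply, AlgHom.restrictScalars_apply, hφ']
      rw [← extendHom_one_tmul A₀ φ, hφ, e.symm_apply_apply]
      rfl
  obtain ⟨B₂, hle₂, hB₂, h₂⟩ := exists_inclTensor_comp_eq (A₀ := A₀) (hA₁.sup hA₂)
    (((extendHom A₀ φ).restrictScalars R).comp φ') Algebra.TensorProduct.includeRight fun c => by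
      simp only [AlgHom.comp_apply, AlgHom.restrictScalars_apply, hφ]
      rw [← extendHom_one_tmul A₀ φ', hφ', e.apply_symm_apply]
      rfl
  let B := B₁ ⊔ B₂
  let hle : A₀ ≤ B := hle₁.trans le_sup_left
  have hnat : ∀ {C₁ C₂ : Type u} [CommRing C₁] [Algebra R C₁] [CommRing C₂] [Algebra R C₂]
      (ψ : C₁ →ₐ[R] A₀ ⊗[R] C₂) (z : A₀ ⊗[R] C₁),
      inclTensor hle C₂ (extendHom A₀ ψ z) =
        extendHom B ((inclTensor hle C₂).comp ψ) (inclTensor hle C₁ z) := by
    intro C₁ C₂ _ _ _ _ ψ z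
    induction z using TensorProduct.induction_on with
    | zero => simp
    | add x y hx hy => simp only [map_add, hx, hy]
    | tmul a c => simp [extendHom, inclTensor, Algebra.TensorProduct.algebraMap_apply]
  refine ⟨B, hB₁.sup hB₂, ⟨AlgEquiv.ofAlgHom (extendHom B ((inclTensor hle C₂).comp φ))
    (extendHom B ((inclTensor hle C₁).comp φ')) ?_ ?_⟩⟩
  · refine Algebra.TensorProduct.ext (by ext) (AlgHom.ext fun c => ?_)
    have hc := DFunLike.congr_fun h₂ c
    simp only [AlgHom.comp_apply, AlgHom.restrictScalars_apply,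
      Algebra.TensorProduct.includeRight_apply, AlgHom.id_apply] at hc ⊢
    rw [extendHom_one_tmul, AlgHom.comp_apply, ← hnat φ (φ' c), show hle = hle₂.trans le_sup_right from rfl,
      ← inclTensor_inclTensor hle₂ le_sup_right, hc]
    simp [inclTensor]
  · refine Algebra.TensorProduct.ext (by ext) (AlgHom.ext fun c => ?_)
    have hc := DFunLike.congr_fun h₁ c
    simp only [AlgHom.comp_apply, AlgHom.restrictScalars_apply,
      Algebra.TensorProduct.includeRight_apply, AlgHom.id_apply] at hc ⊢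
    rw [extendHom_one_tmul, AlgHom.comp_apply, ← hnat φ' (φ c),
      ← inclTensor_inclTensor hle₁ le_sup_left, hc]
    simp [inclTensor]

end Groth.Agent.FlatH4
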