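import Groth.Agent.Lib.FlatH4.FlatDescent

/-!
# Flatness at a prime: torsion criterion, base change, change of presentation
-/

universe u

namespace Groth.Agent.FlatH4

open TensorProduct LinearMap

variable {R S : Type u} [CommRing R] [CommRing S] [Algebra R S] {M : Type u} [AddCommGroup M]
  [Module R M] [Module S M] [IsScalarTower R S M]

/-- A kernel element is killed outside `q` if the localization at `q` is flat. -/
theorem exists_smul_eq_zero_of_flat_localized (q : Ideal S) [q.IsPrime]
    [Module.Flat R (LocalizedModule q.primeCompl M)] {N N' : Type u} [AddCommGroup N] [Module R N]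
    [AddCommGroup N'] [Module R N'] (φ : N →ₗ[R] N') (hφ : Function.Injective φ) (x : M ⊗[R] N)
    (hx : φ.lTensor M x = 0) : ∃ s ∈ q.primeCompl, s • x = 0 := by
  let g := LocalizedModule.mkLinearMap q.primeCompl M
  let g₁ := AlgebraTensorModule.rTensor R N g
  have h0 : g₁ x = 0 := by
    apply Module.Flat.lTensor_preserves_injective_linearMap φ hφ
    show φ.lTensor _ ((g.restrictScalars R).rTensor N x) = φ.lTensor _ 0
    rw [← LinearMap.comp_apply, lTensor_comp_rTensor, ← rTensor_comp_lTensor, LinearMap.comp_apply,
      hx, map_zero, map_zero]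
  obtain ⟨t, ht⟩ := (IsLocalizedModule.eq_zero_iff q.primeCompl g₁).1 h0
  exact ⟨t, t.2, ht⟩

/-- Flatness at a prime in terms of torsion of kernels. -/
theorem flat_localized_iff (q : Ideal S) [q.IsPrime] :
    Module.Flat R (LocalizedModule q.primeCompl M) ↔
      ∀ (J : Ideal R) (x : M ⊗[R] J), J.subtype.lTensor M x = 0 → ∃ s ∈ q.primeCompl, s • x = 0 :=
  ⟨fun _ J x hx => exists_smul_eq_zero_of_flat_localized q J.subtype J.injective_subtype x hx,
    fun h => Module.Flat.iff_lTensor_injective'.2 fun J =>
      lTensor_localized_injective q.primeCompl (LocalizedModule.mkLinearMap q.primeCompl M) _ (h J)⟩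

/-- Flatness at `q` only depends on the action through a surjection `S' → S`. -/
theorem flat_localized_comap_iff {S' : Type u} [CommRing S'] [Algebra R S'] (φ : S' →ₐ[R] S)
    (hφ : Function.Surjective φ) (q : Ideal S) [q.IsPrime] [Module S' M] [IsScalarTower R S' M]
    (hact : ∀ (s : S') (m : M), s • m = φ s • m) :
    Module.Flat R (LocalizedModule (q.comap φ).primeCompl M) ↔
      Module.Flat R (LocalizedModule q.primeCompl M) := by
  rw [flat_localized_iff, flat_localized_iff]
  have hact' : ∀ (J : Ideal R) (s : S') (x : M ⊗[R] J), s • x = φ s • x := by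
    intro J s x
    induction x using TensorProduct.induction_on with
    | zero => simp
    | tmul m r => rw [TensorProduct.smul_tmul', TensorProduct.smul_tmul', hact]
    | add a b ha hb => rw [smul_add, smul_add, ha, hb]
  constructor
  · intro h J x hx
    obtain ⟨s, hs, hsx⟩ := h J x hx
    exact ⟨φ s, hs, by rw [← hact', hsx]⟩
  · intro h J x hx
    obtain ⟨s, hs, hsx⟩ := h J x hx
    obtain ⟨s', rfl⟩ := hφ s
    exact ⟨s', hs, by rw [hact', hsx]⟩

/-- Flatness at a prime is preserved by base change. -/
theorem flat_localized_baseChange (A : Type u) [CommRing A] [Algebra R A]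
    {T : Type u} [CommRing T] [Algebra A T] (ψ : S →+* T) (q : Ideal T) [q.IsPrime]
    {M' : Type u} [AddCommGroup M'] [Module A M'] [Module T M'] [IsScalarTower A T M']
    (e : A ⊗[R] M ≃ₗ[A] M') (hψ : ∀ (s : S) (m : M), e ((1 : A) ⊗ₜ (s • m)) = ψ s • e ((1 : A) ⊗ₜ m))
    [Module.Flat R (LocalizedModule (q.comap ψ).primeCompl M)] :
    Module.Flat A (LocalizedModule q.primeCompl M') := by
  rw [flat_localized_iff]
  intro J x hx
  let θ : M' ⊗[A] J ≃ₗ[A] J ⊗[R] M :=
    TensorProduct.comm A M' J ≪≫ₗ TensorProduct.congr (LinearEquiv.refl A J) e.symm ≪≫ₗ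
      AlgebraTensorModule.cancelBaseChange R A A J M
  let θ' : M' ⊗[A] A ≃ₗ[A] A ⊗[R] M :=
    TensorProduct.comm A M' A ≪≫ₗ TensorProduct.congr (LinearEquiv.refl A A) e.symm ≪≫ₗ
      AlgebraTensorModule.cancelBaseChange R A A A M
  let incl : J →ₗ[R] A := (J.subtype : J →ₗ[A] A).restrictScalars R
  have key : ∀ z, incl.rTensor M (θ z) = θ' (J.subtype.lTensor M' z) := by
    intro z
    induction z using TensorProduct.induction_on with
    | zero => simp
    | add a b ha hb => simp only [map_add, ha, hb]
    | tmul m r =>
      obtain ⟨w, rfl⟩ := e.surjective m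
      induction w using TensorProduct.induction_on with
      | zero => simp
      | tmul c m => simp [θ, θ', incl]
      | add a b ha hb => simp only [map_add, add_tmul, ha, hb]
  have h0 : incl.lTensor M (TensorProduct.comm R J M (θ x)) = 0 := by
    rw [show incl.lTensor M (TensorProduct.comm R J M (θ x)) =
      TensorProduct.comm R A M (incl.rTensor M (θ x)) from by
        generalize θ x = y
        induction y using TensorProduct.induction_on with
        | zero => simp
        | tmul a b => simp
        | add a b ha hb => simp only [map_add, ha, hb], key, hx, map_zero, map_zero]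
  obtain ⟨s, hs, hsx⟩ := exists_smul_eq_zero_of_flat_localized (q.comap ψ) incl
    Subtype.val_injective _ h0
  refine ⟨ψ s, hs, θ.injective ?_⟩
  have hnat : ∀ z : M ⊗[R] J, θ.symm (TensorProduct.comm R M J (s • z)) =
      ψ s • θ.symm (TensorProduct.comm R M J z) := by
    intro z
    induction z using TensorProduct.induction_on with
    | zero => simp
    | add a b ha hb => simp only [smul_add, map_add, ha, hb]
    | tmul m r =>
      rw [TensorProduct.smul_tmul']
      simp [θ, hψ, TensorProduct.smul_tmul']
  have := hnat (TensorProduct.comm R J M (θ x))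
  rw [hsx, map_zero, map_zero] at this
  rw [show TensorProduct.comm R M J (TensorProduct.comm R J M (θ x)) = θ x from
    (TensorProduct.comm R J M).symm_apply_apply _, θ.symm_apply_apply] at this
  rw [← this, map_zero]

section Act

variable (B : Type u) [CommRing B] [Algebra R B] {N : Type u} [AddCommGroup N] [Module R N]
  [Module S N] [IsScalarTower R S N]

theorem tensorAct_natural (φ : M →ₗ[S] N) (s : B ⊗[R] S) (x : B ⊗[R] M) :
    (φ.restrictScalars R).baseChange B (tensorAct R B S M s x) =
      tensorAct R B S N s ((φ.restrictScalars R).baseChange B x) := by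
  induction s using TensorProduct.induction_on with
  | zero => simp
  | add a b ha hb => simp only [map_add, LinearMap.add_apply, ha, hb]
  | tmul b t =>
    induction x using TensorProduct.induction_on with
    | zero => simp
    | add a b ha hb => simp only [map_add, ha, hb]
    | tmul c m => simp [tensorAct_tmul]

variable {A : Type u} [CommRing A] [Algebra R A]

theorem tensorAct_val (B : Subalgebra R A) (s : B ⊗[R] S) (x : B ⊗[R] M) :
    B.val.toLinearMap.rTensor M (tensorAct R B S M s x) =
      tensorAct R A S M (B.val.toLinearMap.rTensor S s) (B.val.toLinearMap.rTensor M x) := by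
  induction s using TensorProduct.induction_on with
  | zero => simp
  | add a b ha hb => simp only [map_add, LinearMap.add_apply, ha, hb]
  | tmul b t =>
    induction x using TensorProduct.induction_on with
    | zero => simp
    | add a b ha hb => simp only [map_add, ha, hb]
    | tmul c m => simp [tensorAct_tmul]

end Act

end Groth.Agent.FlatH4
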