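import Groth.Agent.Lib.FlatH4.ModFlatAt
import Groth.Agent.Lib.FlatH4.GenFreeMain
import Groth.Agent.Lib.ModM1.Coh
import Mathlib.RingTheory.Localization.BaseChange

/-!
# Generic flatness over an integral base
-/

universe u

open AlgebraicGeometry CategoryTheory TensorProduct

namespace Groth.Agent.FlatH4

/-- Over a domain, a finite module over a finite type algebra is flat at all primes avoiding some
nonzero element. -/
theorem exists_flat_localized_of_finite {R T M : Type u} [CommRing R] [IsDomain R] [CommRing T]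
    [Algebra R T] [Algebra.FiniteType R T] [AddCommGroup M] [Module R M] [Module T M]
    [IsScalarTower R T M] [Module.Finite T M] :
    ∃ f : R, f ≠ 0 ∧ ∀ (q : Ideal T) (_ : q.IsPrime), algebraMap R T f ∉ q →
      Module.Flat R (LocalizedModule q.primeCompl M) := by
  obtain ⟨f, hf, hfree, -⟩ := exists_free_and_fg_relations (R := R) (S := T) (M := M)
  refine ⟨f, hf, fun q _ hfq => ?_⟩
  let Rf := Localization.Away f
  haveI : Module.Free Rf (Rf ⊗[R] M) := hfree Rf (IsLocalization.Away.algebraMap_isUnit f)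
  haveI : Module.Flat R Rf := IsLocalization.flat _ (Submonoid.powers f)
  haveI : Module.Flat R (Rf ⊗[R] M) := Module.Flat.trans R Rf _
  let g : M →ₗ[R] Rf ⊗[R] M := TensorProduct.mk R Rf M 1
  haveI : IsLocalizedModule (Submonoid.powers f) g :=
    (isLocalizedModule_iff_isBaseChange (Submonoid.powers f) Rf g).2 (TensorProduct.isBaseChange R M Rf)
  rw [flat_localized_iff]
  intro J x hx
  let g₁ := AlgebraTensorModule.rTensor R J g
  have h0 : g₁ x = 0 := by
    apply Module.Flat.lTensor_preserves_injective_linearMap (M := Rf ⊗[R] M) J.subtype J.injective_subtype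
    show J.subtype.lTensor _ ((g.restrictScalars R).rTensor J x) = J.subtype.lTensor _ 0
    rw [← LinearMap.comp_apply, LinearMap.lTensor_comp_rTensor, ← LinearMap.rTensor_comp_lTensor,
      LinearMap.comp_apply, hx, map_zero, map_zero]
  obtain ⟨⟨t, k, rfl⟩, ht⟩ := (IsLocalizedModule.eq_zero_iff (Submonoid.powers f) g₁).1 h0
  refine ⟨algebraMap R T (f ^ k), fun h => hfq (‹q.IsPrime›.mem_of_pow_mem k (by rwa [map_pow] at h)), ?_⟩
  rw [algebraMap_smul]
  exact ht

/-- Generic flatness for a module of finite type over an integral base. -/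
theorem exists_open_isFlatOverAt {X Y : Scheme.{u}} (u : X ⟶ Y) [IsIntegral Y] [LocallyOfFiniteType u]
    [QuasiCompact u] (F : X.Modules) [Coh.IsQCoh F]
    (hfin : ∀ W : X.Opens, IsAffineOpen W → Module.Finite Γ(X, W) Γ(F, W)) :
    ∃ U : Y.Opens, (U : Set Y).Nonempty ∧ ∀ x : X, u x ∈ U → FlatMod.IsFlatOverAt u F x := by
  obtain ⟨y₀⟩ : Nonempty Y := inferInstance
  obtain ⟨V, hV, hyV, -⟩ :=
    exists_isAffineOpen_mem_and_subset (X := Y) (x := y₀) (U := ⊤) trivial
  haveI : Nonempty V := ⟨⟨y₀, hyV⟩⟩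
  have hc : IsCompact (u ⁻¹ᵁ V : Set X) := QuasiCompact.isCompact_preimage _ V.2 hV.isCompact
  choose W hW hxW hWV using fun x : ↥(u ⁻¹ᵁ V) =>
    exists_isAffineOpen_mem_and_subset (X := X) (x := x.1) (U := u ⁻¹ᵁ V) x.2
  obtain ⟨t, ht⟩ := hc.elim_finite_subcover (fun x => (W x : Set X)) (fun x => (W x).2)
    fun x hx => Set.mem_iUnion.2 ⟨⟨x, hx⟩, hxW ⟨x, hx⟩⟩
  have key : ∀ i : ↥(u ⁻¹ᵁ V), ∃ f : Γ(Y, V), f ≠ 0 ∧ ∀ x : X, x ∈ W i → u x ∈ Y.basicOpen f →
      FlatMod.IsFlatOverAt u F x := by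
    intro i
    letI : Algebra Γ(Y, V) Γ(X, W i) := (u.appLE V (W i) (hWV i)).hom.toAlgebra
    haveI : Algebra.FiniteType Γ(Y, V) Γ(X, W i) := u.finiteType_appLE hV (hW i) (hWV i)
    letI := secModuleOver u F V (W i) (hWV i)
    haveI : IsScalarTower Γ(Y, V) Γ(X, W i) Γ(F, W i) := IsScalarTower.of_algebraMap_smul fun _ _ => rfl
    haveI := hfin (W i) (hW i)
    obtain ⟨f, hf, hflat⟩ :=
      exists_flat_localized_of_finite (R := Γ(Y, V)) (T := Γ(X, W i)) (M := Γ(F, W i))
    refine ⟨f, hf, fun x hx hxf => (isFlatOverAt_iff u F V hV (W i) (hW i) (hWV i) hx).2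
      (hflat _ (PrimeSpectrum.isPrime _) ?_)⟩
    intro hmem
    have hp : f ∈ (hV.primeIdealOf ⟨u x, hWV i hx⟩).asIdeal := by
      rw [← congr($(IsAffineOpen.comap_primeIdealOf_appLE V hV (W i) (hW i) (hWV i) hx).1)]
      exact hmem
    have h1 : hV.primeIdealOf ⟨u x, hWV i hx⟩ ∈ hV.fromSpec ⁻¹ᵁ Y.basicOpen f := by
      show hV.fromSpec _ ∈ Y.basicOpen f
      rw [hV.fromSpec_primeIdealOf]
      exact hxf
    rw [hV.fromSpec_preimage_basicOpen] at h1
    exact h1 hp
  choose f hf hgood using key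
  classical
  have hprod : (∏ i ∈ t, f i) ≠ 0 := Finset.prod_ne_zero_iff.2 fun i _ => hf i
  refine ⟨Y.basicOpen (∏ i ∈ t, f i), ?_, fun x hx => ?_⟩
  · rw [Set.nonempty_iff_ne_empty]
    intro h
    exact hprod ((AlgebraicGeometry.basicOpen_eq_bot_iff _).1 (SetLike.coe_injective (by rw [h]; rfl)))
  · obtain ⟨i, hi, hxi⟩ := Set.mem_iUnion₂.1 (ht (show x ∈ u ⁻¹ᵁ V from Y.basicOpen_le _ hx))
    refine hgood i x hxi ?_
    rw [← Finset.mul_prod_erase t f hi, Scheme.basicOpen_mul] at hx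
    exact hx.1

end Groth.Agent.FlatH4
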