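import Groth.Agent.Lib.FlatH4.InjCrit
import Mathlib.RingTheory.Ideal.Operations
import Mathlib.Algebra.Algebra.Operations
import Mathlib.RingTheory.LocalRing.MaximalIdeal.Basic
import Mathlib.LinearAlgebra.Basis.VectorSpace

universe u

namespace Groth.Agent.FlatH4

open TensorProduct

theorem exists_one_tmul_eq {A N : Type u} [CommRing A] [AddCommGroup N] [Module A N] (J : Ideal A)
    (z : (A ⧸ J) ⊗[A] N) : ∃ x : N, (1 : A ⧸ J) ⊗ₜ[A] x = z := by
  obtain ⟨q, hq⟩ := (quotTensorEquivQuotSMul N J).symm.surjective z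
  obtain ⟨x, rfl⟩ := Submodule.mkQ_surjective _ q
  exact ⟨x, by rw [← hq]; rfl⟩

/-- Injectivity of `(A / J) ⊗ u` in terms of elements. -/
theorem lTensor_quotient_injective {A N M : Type u} [CommRing A] [AddCommGroup N] [Module A N]
    [AddCommGroup M] [Module A M] (J : Ideal A) (u : N →ₗ[A] M)
    (h : ∀ x : N, u x ∈ J • (⊤ : Submodule A M) → x ∈ J • (⊤ : Submodule A N)) :
    Function.Injective (u.lTensor (A ⧸ J)) := by
  rw [injective_iff_map_eq_zero]
  intro z hz
  obtain ⟨x, rfl⟩ := exists_one_tmul_eq J z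
  rw [LinearMap.lTensor_tmul, one_tmul_eq_zero_iff] at hz
  rw [one_tmul_eq_zero_iff]
  exact h x hz

/-- `I • ⊤` over `R` is the same as `I S • ⊤` over `S`. -/
theorem map_smul_top_restrictScalars {R S M : Type u} [CommRing R] [CommRing S] [Algebra R S]
    [AddCommGroup M] [Module R M] [Module S M] [IsScalarTower R S M] (I : Ideal R) :
    (I.map (algebraMap R S) • ⊤ : Submodule S M).restrictScalars R = I • (⊤ : Submodule R M) := by
  rw [Ideal.smul_restrictScalars, Submodule.restrictScalars_top]

/-- Lifts of a basis of `M / 𝔪 M` generate `M` when the maximal ideal is nilpotent. -/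
theorem exists_surjective_lTensor_injective {R M : Type u} [CommRing R] [IsLocalRing R]
    (hR : IsNilpotent (IsLocalRing.maximalIdeal R)) [AddCommGroup M] [Module R M] :
    ∃ (ι : Type u) (u : (ι →₀ R) →ₗ[R] M), Function.Surjective u ∧
      Function.Injective (u.lTensor (R ⧸ IsLocalRing.maximalIdeal R)) := by
  let 𝔪 := IsLocalRing.maximalIdeal R
  let _ := Ideal.Quotient.field 𝔪
  obtain ⟨n, hn⟩ := hR
  let b := Module.Free.chooseBasis (R ⧸ 𝔪) (M ⧸ (𝔪 • ⊤ : Submodule R M))
  choose m hm using fun i => Submodule.mkQ_surjective (𝔪 • ⊤ : Submodule R M) (b i)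
  let u := Finsupp.linearCombination R m
  have hsurj : Function.Surjective u := by
    rw [← LinearMap.range_eq_top]
    suffices ∀ k : ℕ, (⊤ : Submodule R M) ≤ LinearMap.range u ⊔ 𝔪 ^ k • ⊤ by
      have := this n
      rw [hn] at this
      simpa using this
    intro k
    induction k with
    | zero => simp
    | succ k ih =>
      have h1 : (⊤ : Submodule R M) ≤ LinearMap.range u ⊔ 𝔪 • ⊤ := by
        intro x _
        have hx : (𝔪 • ⊤ : Submodule R M).mkQ x ∈ Submodule.span R (Set.range b) := by
          have h' : Submodule.span (R ⧸ 𝔪) (Set.range b) = ⊤ := b.span_eq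
          have := congrArg (Submodule.restrictScalars R) h'
          rw [Submodule.restrictScalars_span R (R ⧸ 𝔪) Ideal.Quotient.mk_surjective,
            Submodule.restrictScalars_top] at this
          rw [this]; trivial
        have hspan : Submodule.span R (Set.range b) ≤
            (LinearMap.range u).map (𝔪 • ⊤ : Submodule R M).mkQ := by
          rw [Submodule.span_le]
          rintro _ ⟨i, rfl⟩
          exact ⟨m i, ⟨Finsupp.single i 1, by simp [u]⟩, hm i⟩
        obtain ⟨y, hy, hyx⟩ := hspan hx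
        have : x - y ∈ (𝔪 • ⊤ : Submodule R M) := by
          rw [← Submodule.Quotient.eq]; exact hyx.symm
        simpa using Submodule.add_mem_sup hy this
      refine ih.trans (sup_le le_sup_left ?_)
      calc 𝔪 ^ k • (⊤ : Submodule R M) ≤ 𝔪 ^ k • (LinearMap.range u ⊔ 𝔪 • ⊤) :=
            Submodule.smul_mono le_rfl h1
        _ ≤ LinearMap.range u ⊔ 𝔪 ^ (k + 1) • ⊤ := by
            rw [Submodule.smul_sup, pow_succ, Submodule.mul_smul]
            exact sup_le_sup Submodule.smul_le_right le_rfl
  refine ⟨_, u, hsurj, ?_⟩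
  rw [injective_iff_map_eq_zero]
  intro z hz
  obtain ⟨c, rfl⟩ := exists_one_tmul_eq _ z
  rw [LinearMap.lTensor_tmul, Groth.Agent.FlatH4.one_tmul_eq_zero_iff] at hz
  rw [Groth.Agent.FlatH4.one_tmul_eq_zero_iff]
  have h0 : Finsupp.linearCombination (R ⧸ 𝔪) b
      (c.mapRange (Ideal.Quotient.mk 𝔪) (map_zero _)) = 0 := by
    rw [← (Submodule.Quotient.mk_eq_zero _).2 hz]
    simp only [u, Finsupp.linearCombination_apply]
    rw [Finsupp.sum_mapRange_index (h0 := fun i => zero_smul (R ⧸ 𝔪) (b i)), ← Submodule.mkQ_apply, map_finsuppSum]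
    exact Finsupp.sum_congr fun i _ => by
      rw [← hm i, map_smul]; rfl
  have hc : ∀ i, c i ∈ 𝔪 := fun i => by
    have := DFunLike.congr_fun (b.linearIndependent.finsuppLinearCombination_injective
      (h0.trans (map_zero _).symm)) i
    simpa [Ideal.Quotient.eq_zero_iff_mem] using this
  rw [← Finsupp.sum_single c]
  exact Submodule.sum_mem _ fun i _ => by
    rw [← mul_one (c i), ← smul_eq_mul, ← Finsupp.smul_single]
    exact Submodule.smul_mem_smul (hc i) trivial

end Groth.Agent.FlatH4
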