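import Groth.Agent.Lib.FlatH4.FlatLocal
import Groth.Agent.Lib.FlatH4.GenFreeMain
import Groth.Agent.Lib.FlatH4.ModMax
import Mathlib.LinearAlgebra.DirectSum.Finsupp
import Mathlib.RingTheory.TensorProduct.Maps
import Mathlib.RingTheory.FiniteStability
import Mathlib.RingTheory.Flat.Stability
import Mathlib.RingTheory.Localization.BaseChange

/-!
# Tools for descending flatness to a finitely generated base
-/

universe u

namespace Groth.Agent.FlatH4

open TensorProduct LinearMap

section Action

variable (R B S M : Type u) [CommRing R] [CommRing B] [Algebra R B] [CommRing S] [Algebra R S]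
  [AddCommGroup M] [Module R M] [Module S M] [IsScalarTower R S M]

/-- The action of `B ⊗ S` on `B ⊗ M`. -/
noncomputable def tensorAct : B ⊗[R] S →ₐ[B] Module.End B (B ⊗[R] M) :=
  Algebra.TensorProduct.lift (Algebra.ofId B _)
    ((Module.End.baseChangeHom R B M).comp (Algebra.lsmul R R M))
    fun b s => Algebra.commutes b _

/-- The module structure of `B ⊗ M` over `B ⊗ S`. -/
@[reducible] noncomputable def tensorModule : Module (B ⊗[R] S) (B ⊗[R] M) :=
  Module.compHom _ (tensorAct R B S M).toRingHom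

theorem tensorAct_tmul (b c : B) (s : S) (m : M) :
    tensorAct R B S M (b ⊗ₜ s) (c ⊗ₜ m) = (b * c) ⊗ₜ (s • m) := by
  rw [tensorAct, Algebra.TensorProduct.lift_tmul]
  show b • ((Algebra.lsmul R R M s).baseChange B (c ⊗ₜ m)) = _
  rw [LinearMap.baseChange_tmul, TensorProduct.smul_tmul', smul_eq_mul]
  rfl

theorem tensorModule_isScalarTower :
    letI := tensorModule R B S M
    IsScalarTower B (B ⊗[R] S) (B ⊗[R] M) := by
  letI := tensorModule R B S M
  refine IsScalarTower.of_algebraMap_smul fun b x => ?_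
  show tensorAct R B S M (algebraMap B _ b) x = b • x
  rw [AlgHom.commutes, Module.algebraMap_end_apply]

theorem tensorModule_finite [Module.Finite S M] :
    letI := tensorModule R B S M
    Module.Finite (B ⊗[R] S) (B ⊗[R] M) := by
  classical
  letI := tensorModule R B S M
  obtain ⟨t, ht⟩ := Module.Finite.fg_top (R := S) (M := M)
  refine ⟨⟨t.image fun m => (1 : B) ⊗ₜ[R] m, eq_top_iff.2 fun x hx' => ?_⟩⟩
  clear hx'
  induction x using TensorProduct.induction_on with
  | zero => exact zero_mem _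
  | add a b ha hb => exact add_mem ha hb
  | tmul b m =>
    suffices ∀ s : S, (b ⊗ₜ[R] (s • m) : B ⊗[R] M) ∈
        Submodule.span (B ⊗[R] S) ((t.image fun m => (1 : B) ⊗ₜ[R] m : Finset _) : Set (B ⊗[R] M)) by
      simpa using this 1
    have hm : m ∈ Submodule.span S (t : Set M) := ht.ge trivial
    induction hm using Submodule.span_induction with
    | zero => intro s; simp
    | add x y _ _ hx hy => intro s; rw [smul_add, tmul_add]; exact add_mem (hx s) (hy s)
    | smul r x _ hx => intro s; rw [← mul_smul]; exact hx _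
    | mem x hx =>
      intro s
      have : (b ⊗ₜ[R] (s • x) : B ⊗[R] M) = (b ⊗ₜ[R] s : B ⊗[R] S) • ((1 : B) ⊗ₜ[R] x) := by
        show _ = tensorAct R B S M (b ⊗ₜ s) ((1 : B) ⊗ₜ[R] x)
        rw [tensorAct_tmul, mul_one]
      rw [this]
      exact Submodule.smul_mem _ _ (Submodule.subset_span (by simpa using ⟨x, hx, rfl⟩))

end Action

section Star

variable {R M : Type u} [CommRing R] [AddCommGroup M] [Module R M]

/-- Injections of modules killed by `p` stay injective after tensoring with `M`, up to `f`-power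
torsion. -/
def ModFree (p : Ideal R) (f : R) (M : Type u) [AddCommGroup M] [Module R M] : Prop :=
  ∀ {N N' : Type u} [AddCommGroup N] [Module R N] [AddCommGroup N'] [Module R N'],
    Module.IsTorsionBySet R N (p : Set R) → Module.IsTorsionBySet R N' (p : Set R) →
    ∀ g : N →ₗ[R] N', Function.Injective g →
      ∀ x : N ⊗[R] M, g.rTensor M x = 0 → ∃ k : ℕ, f ^ k • x = 0

/-- Generic freeness gives `ModFree` at each prime. -/
theorem exists_modFree {S : Type u} [CommRing S] [Algebra R S] [Algebra.FiniteType R S]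
    [Module S M] [IsScalarTower R S M] [Module.Finite S M] (p : Ideal R) [p.IsPrime] :
    ∃ f ∉ p, ModFree p f M := by
  letI := tensorModule R (R ⧸ p) S M
  haveI := tensorModule_isScalarTower R (R ⧸ p) S M
  haveI := tensorModule_finite R (R ⧸ p) S M
  obtain ⟨f', hf', hfree, -⟩ := exists_free_and_fg_relations (R := R ⧸ p) (S := (R ⧸ p) ⊗[R] S)
    (M := (R ⧸ p) ⊗[R] M)
  obtain ⟨f, rfl⟩ := Ideal.Quotient.mk_surjective f'
  refine ⟨f, fun h => hf' (Ideal.Quotient.eq_zero_iff_mem.2 h), ?_⟩
  intro N N' _ _ _ _ hN hN' g hg x hx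
  let _ := hN.module
  let _ := hN'.module
  haveI := hN.isScalarTower (S := R)
  haveI := hN'.isScalarTower (S := R)
  let f' := Ideal.Quotient.mk p f
  let Rf := Localization.Away f'
  haveI : Module.Free Rf (Rf ⊗[R ⧸ p] ((R ⧸ p) ⊗[R] M)) :=
    hfree Rf (IsLocalization.Away.algebraMap_isUnit f')
  haveI : Module.Flat (R ⧸ p) Rf := IsLocalization.flat Rf (Submonoid.powers f')
  haveI : Module.Flat (R ⧸ p) (Rf ⊗[R ⧸ p] ((R ⧸ p) ⊗[R] M)) := Module.Flat.trans (R ⧸ p) Rf _
  let g' : N →ₗ[R ⧸ p] N' := g.extendScalarsOfSurjective Ideal.Quotient.mk_surjective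
  let e := AlgebraTensorModule.cancelBaseChange R (R ⧸ p) (R ⧸ p) N M
  let e' := AlgebraTensorModule.cancelBaseChange R (R ⧸ p) (R ⧸ p) N' M
  have key : ∀ y, g.rTensor M (e y) = e' (g'.rTensor _ y) := by
    intro y
    induction y using TensorProduct.induction_on with
    | zero => simp
    | tmul n z =>
      induction z using TensorProduct.induction_on with
      | zero => simp
      | tmul r m =>
        simp [e, e', g']
        exact congrArg (· ⊗ₜ[R] m) (g'.map_smul r n)
      | add a b ha hb => simp only [tmul_add, map_add, ha, hb]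
    | add a b ha hb => simp only [map_add, ha, hb]
  obtain ⟨y, rfl⟩ := e.surjective x
  rw [key, e'.map_eq_zero_iff] at hx
  let μ : (R ⧸ p) ⊗[R] M →ₗ[R ⧸ p] Rf ⊗[R ⧸ p] ((R ⧸ p) ⊗[R] M) := TensorProduct.mk (R ⧸ p) Rf _ 1
  haveI : IsLocalizedModule (Submonoid.powers f') μ :=
    (isLocalizedModule_iff_isBaseChange (Submonoid.powers f') Rf _).2 (TensorProduct.isBaseChange _ _ Rf)
  have h0 : μ.lTensor N y = 0 := by
    apply Module.Flat.rTensor_preserves_injective_linearMap g' hg
    rw [← LinearMap.comp_apply, rTensor_comp_lTensor, ← lTensor_comp_rTensor, LinearMap.comp_apply,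
      hx, map_zero, map_zero]
  have hloc : IsLocalizedModule (Submonoid.powers f') (μ.rTensor N) :=
    IsLocalizedModule.rTensor (R := R ⧸ p) (A := R ⧸ p) (N := N) (Submonoid.powers f') μ
  have h1 : μ.rTensor N (TensorProduct.comm _ _ _ y) = 0 := by
    rw [show μ.rTensor N (TensorProduct.comm _ _ _ y) = TensorProduct.comm _ _ _ (μ.lTensor N y) from
      (LinearMap.congr_fun (LinearMap.comm_comp_lTensor_comp_comm_eq (Q := N) μ) _).symm.trans (by simp),
      h0, map_zero]
  obtain ⟨⟨_, k, rfl⟩, hk⟩ := (IsLocalizedModule.eq_zero_iff (Submonoid.powers f') (μ.rTensor N)).1 h1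
  refine ⟨k, ?_⟩
  have hk' : f' ^ k • y = 0 := (TensorProduct.comm (R ⧸ p) N _).injective (by
    rw [map_smul, map_zero]; exact hk)
  rw [← algebraMap_smul (R ⧸ p) (f ^ k) (e y), Ideal.Quotient.algebraMap_eq, map_pow, ← map_smul e,
    hk', map_zero]

variable {K F : Type u} [AddCommGroup K] [Module R K] [AddCommGroup F] [Module R F]

/-- Diagram chase along a cover `q : G → C`. -/
theorem exists_pow_mem_range_of_cover (ι : K →ₗ[R] F) (π : F →ₗ[R] M)
    (hex : Function.Exact ι π) (hπ : Function.Surjective π) (p : Ideal R) (f : R)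
    (hstar : ModFree p f M) (W : Submodule R K) {G C : Type u} [AddCommGroup G] [Module R G]
    [AddCommGroup C] [Module R C] (q : G →ₗ[R] C) (hq : Function.Surjective q)
    (hG : Module.IsTorsionBySet R G (p : Set R))
    (hfree : ∀ d : G ⊗[R] K, ι.lTensor G d = 0 → ∃ c : G ⊗[R] W, W.subtype.lTensor G c = d)
    (u : C ⊗[R] K) (hu : ι.lTensor C u = 0) :
    ∃ (k : ℕ) (c : C ⊗[R] W), f ^ k • u = W.subtype.lTensor C c := by
  obtain ⟨u', rfl⟩ := rTensor_surjective K hq u
  let L := LinearMap.ker q
  have hL : Module.IsTorsionBySet R L (p : Set R) := fun x r => Subtype.ext (@hG x r)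
  have hqa : q.rTensor F (ι.lTensor G u') = 0 := by
    rw [← hu, ← LinearMap.comp_apply, rTensor_comp_lTensor, ← lTensor_comp_rTensor, LinearMap.comp_apply]
  obtain ⟨l, hl⟩ := (rTensor_exact F (LinearMap.exact_subtype_ker_map q) hq _).1 hqa
  have hb : L.subtype.rTensor M (π.lTensor L l) = 0 := by
    rw [← LinearMap.comp_apply, rTensor_comp_lTensor, ← lTensor_comp_rTensor, LinearMap.comp_apply,
      hl, ← lTensor_comp_apply, hex.linearMap_comp_eq_zero]
    simp
  obtain ⟨k, hk⟩ := hstar hL hG L.subtype L.injective_subtype _ hb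
  obtain ⟨v, hv⟩ := (lTensor_exact L hex hπ (f ^ k • l)).1 (by rw [map_smul]; exact hk)
  have hd : ι.lTensor G (f ^ k • u' - L.subtype.rTensor K v) = 0 := by
    rw [map_sub, map_smul, ← LinearMap.comp_apply (ι.lTensor G), lTensor_comp_rTensor,
      ← rTensor_comp_lTensor, LinearMap.comp_apply, hv, map_smul, hl, sub_self]
  obtain ⟨c, hc⟩ := hfree _ hd
  refine ⟨k, q.rTensor W c, ?_⟩
  rw [← LinearMap.comp_apply, lTensor_comp_rTensor, ← rTensor_comp_lTensor, LinearMap.comp_apply, hc,
    map_sub, map_smul, ← rTensor_comp_apply, LinearMap.comp_ker_subtype]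
  simp

/-- Kernels after tensoring with a module killed by `p` come from `ι ⁻¹ (p F)`. -/
theorem exists_pow_mem_range_of_rTensor_eq_zero (ι : K →ₗ[R] F) (π : F →ₗ[R] M)
    (hex : Function.Exact ι π) (hπ : Function.Surjective π) (p : Ideal R) (f : R)
    (hstar : ModFree p f M) (W : Submodule R K) (hW : ∀ k, ι k ∈ p • (⊤ : Submodule R F) → k ∈ W)
    {C : Type u} [AddCommGroup C] [Module R C] (hC : Module.IsTorsionBySet R C (p : Set R))
    (u : C ⊗[R] K) (hu : ι.lTensor C u = 0) :
    ∃ (k : ℕ) (c : C ⊗[R] W), f ^ k • u = W.subtype.lTensor C c := by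
  classical
  let _ := hC.module
  haveI := hC.isScalarTower (S := R)
  let G := C →₀ R ⧸ p
  let q : G →ₗ[R] C := (Finsupp.linearCombination (R ⧸ p) (id : C → C)).restrictScalars R
  have hq : Function.Surjective q :=
    Finsupp.linearCombination_surjective (R ⧸ p) Function.surjective_id
  have hG : Module.IsTorsionBySet R G (p : Set R) := fun x r => Finsupp.ext fun c => by
    rw [Finsupp.smul_apply, Finsupp.zero_apply, ← one_mul (x c), ← smul_mul_assoc,
      ← Algebra.algebraMap_eq_smul_one, Ideal.Quotient.algebraMap_eq,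
      Ideal.Quotient.eq_zero_iff_mem.2 r.2, zero_mul]
  -- kernel over the free module `G`
  have hfree : ∀ d : G ⊗[R] K, ι.lTensor G d = 0 → ∃ c : G ⊗[R] W, W.subtype.lTensor G c = d := by
    intro d hd
    let e := TensorProduct.finsuppLeft R R (R ⧸ p) K C
    have he : ∀ (z : G ⊗[R] K) (c : C), ι.lTensor (R ⧸ p) (e z c) =
        TensorProduct.finsuppLeft R R (R ⧸ p) F C (ι.lTensor G z) c := by
      intro z c
      show ι.lTensor (R ⧸ p) (TensorProduct.finsuppLeft R R (R ⧸ p) K C z c) = _
      rw [TensorProduct.finsuppLeft_apply, TensorProduct.finsuppLeft_apply, ← LinearMap.comp_apply,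
        lTensor_comp_rTensor, ← rTensor_comp_lTensor, LinearMap.comp_apply]
    have hval : ∀ c : C, ∃ w : (R ⧸ p) ⊗[R] W, W.subtype.lTensor (R ⧸ p) w = e d c := by
      intro c
      obtain ⟨k, hk⟩ := exists_one_tmul_eq p (e d c)
      have h0 : (1 : R ⧸ p) ⊗ₜ[R] ι k = 0 := by
        rw [← LinearMap.lTensor_tmul, hk, he, hd, map_zero, Finsupp.zero_apply]
      exact ⟨1 ⊗ₜ ⟨k, hW k ((one_tmul_eq_zero_iff p _).1 h0)⟩, hk⟩
    choose w hw using hval
    refine ⟨∑ c ∈ (e d).support, (TensorProduct.finsuppLeft R R (R ⧸ p) W C).symm (Finsupp.single c (w c)),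
      e.injective ?_⟩
    have hnat : ∀ z : G ⊗[R] W, e (W.subtype.lTensor G z) = Finsupp.mapRange (W.subtype.lTensor (R ⧸ p))
        (map_zero _) (TensorProduct.finsuppLeft R R (R ⧸ p) W C z) := by
      intro z
      ext c
      rw [Finsupp.mapRange_apply]
      show TensorProduct.finsuppLeft R R (R ⧸ p) K C (W.subtype.lTensor G z) c = _
      rw [TensorProduct.finsuppLeft_apply, TensorProduct.finsuppLeft_apply, ← LinearMap.comp_apply,
        rTensor_comp_lTensor, ← lTensor_comp_rTensor, LinearMap.comp_apply]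
    rw [map_sum, map_sum]
    conv_rhs => rw [← Finsupp.sum_single (e d)]
    refine Finset.sum_congr rfl fun c _ => ?_
    rw [hnat, LinearEquiv.apply_symm_apply, Finsupp.mapRange_single, hw]
  exact exists_pow_mem_range_of_cover ι π hex hπ p f hstar W q hq hG hfree u hu

end Star

end Groth.Agent.FlatH4
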