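import Groth.Agent.Lib.FlatH4.FibreModels
import Groth.Agent.Lib.FlatH4.NoethApprox
import Mathlib.Algebra.Module.FinitePresentation
import Mathlib.RingTheory.FinitePresentation
import Mathlib.RingTheory.Flat.FaithfullyFlat.Basic

/-!
# The fibrewise criterion of flatness, finitely presented case
-/

universe u

namespace Groth.Agent.FlatH4

open TensorProduct LinearMap

section Transport

variable {S T T' M M' : Type u} [CommRing S] [CommRing T] [CommRing T'] [AddCommGroup M]
  [Module S M] [Module T M] [Module T' M] [SMulCommClass S T M] [SMulCommClass S T' M]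
  [AddCommGroup M'] [Module S M'] [Module T M'] [SMulCommClass S T M']

/-- `FibFlat` only depends on the action through a surjection `T' → T`. -/
theorem fibFlat_comap_iff (φ : T' →+* T) (hφ : Function.Surjective φ)
    (hact : ∀ (s : T') (m : M), s • m = φ s • m) (P : Ideal S) (q : Ideal T) :
    FibFlat S M P (q.comap φ) ↔ FibFlat S M P q := by
  have hact' : ∀ {N : Type u} [AddCommGroup N] [Module S N] (s : T') (x : M ⊗[S] N),
      s • x = φ s • x := by
    intro N _ _ s x
    induction x using TensorProduct.induction_on with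
    | zero => simp
    | tmul m r => rw [TensorProduct.smul_tmul', TensorProduct.smul_tmul', hact]
    | add a b ha hb => rw [smul_add, smul_add, ha, hb]
  constructor
  · intro h N N' _ _ _ _ hN hN' g hg x hx
    obtain ⟨s, hs, hsx⟩ := h hN hN' g hg x hx
    exact ⟨φ s, hs, by rw [← hact', hsx]⟩
  · intro h N N' _ _ _ _ hN hN' g hg x hx
    obtain ⟨s, hs, hsx⟩ := h hN hN' g hg x hx
    obtain ⟨s', rfl⟩ := hφ s
    exact ⟨s', hs, by rw [hact', hsx]⟩

/-- `FibFlat` only depends on the isomorphism class of the module. -/
theorem fibFlat_of_linearEquiv (e : M ≃ₗ[S] M') (he : ∀ (t : T) (m : M), e (t • m) = t • e m)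
    (P : Ideal S) (q : Ideal T) (h : FibFlat S M P q) : FibFlat S M' P q := by
  intro N N' _ _ _ _ hN hN' g hg x hx
  let θ := TensorProduct.congr e (LinearEquiv.refl S N)
  let θ' := TensorProduct.congr e (LinearEquiv.refl S N')
  obtain ⟨y, rfl⟩ := θ.surjective x
  obtain ⟨s, hs, hsy⟩ := h hN hN' g hg y (θ'.injective (by
    rw [map_zero, ← hx]
    clear hx
    induction y using TensorProduct.induction_on with
    | zero => simp
    | tmul a b => simp [θ, θ']
    | add a b ha hb => simp only [map_add, ha, hb]))
  refine ⟨s, hs, ?_⟩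
  rw [← map_zero θ, ← hsy]
  clear hx hsy
  induction y using TensorProduct.induction_on with
  | zero => simp
  | tmul a b => simp [θ, TensorProduct.smul_tmul', he]
  | add a b ha hb => simp only [map_add, smul_add, ha, hb]

end Transport

/-- The fibrewise criterion over a polynomial ring, relations coming from models. -/
theorem flat_localized_of_fibFlat_quotient_models {B A S₀ S : Type u} [CommRing B] [IsNoetherianRing B]
    [CommRing A] [Algebra B A] [CommRing S₀] [Algebra B S₀] [Algebra.FiniteType B S₀]
    [CommRing S] [Algebra A S] (eS : A ⊗[B] S₀ ≃ₐ[A] S) {n m : ℕ} {ι : Type u}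
    (w : ι → Fin m → MvPolynomial (Fin n) S₀)
    (K : Submodule (MvPolynomial (Fin n) S) (Fin m → MvPolynomial (Fin n) S))
    (hK : K = Submodule.span (MvPolynomial (Fin n) S) (Set.range fun j => fun i =>
      MvPolynomial.map (eS.toAlgHom.toRingHom.comp
        (Algebra.TensorProduct.includeRight (R := B) (A := A) (B := S₀)).toRingHom) (w j i)))
    (q : Ideal (MvPolynomial (Fin n) S)) [q.IsPrime]
    [Module.Flat A (LocalizedModule q.primeCompl ((Fin m → MvPolynomial (Fin n) S) ⧸ K))]
    (hfib : FibFlat S ((Fin m → MvPolynomial (Fin n) S) ⧸ K)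
      ((q.comap (algebraMap A (MvPolynomial (Fin n) S))).map (algebraMap A S)) q) :
    Module.Flat S (LocalizedModule q.primeCompl ((Fin m → MvPolynomial (Fin n) S) ⧸ K)) := by
  classical
  obtain ⟨e, he⟩ := exists_mvPolynomial_model eS n
  obtain ⟨eM, heM⟩ := exists_quotient_model e w K (by
    rw [hK]
    congr 2
    funext j i
    exact (he _).symm)
  haveI : Algebra.FiniteType B (MvPolynomial (Fin n) S₀) :=
    Algebra.FiniteType.trans (S := S₀) inferInstance inferInstance
  obtain ⟨k, φ, hφ⟩ := Algebra.FiniteType.iff_quotient_mvPolynomial''.1 (inferInstance :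
    Algebra.FiniteType B (MvPolynomial (Fin n) S₀))
  letI : Module (MvPolynomial (Fin k) B)
      ((Fin m → MvPolynomial (Fin n) S₀) ⧸ Submodule.span (MvPolynomial (Fin n) S₀) (Set.range w)) :=
    Module.compHom _ φ.toRingHom
  haveI : IsScalarTower B (MvPolynomial (Fin k) B)
      ((Fin m → MvPolynomial (Fin n) S₀) ⧸ Submodule.span (MvPolynomial (Fin n) S₀) (Set.range w)) :=
    IsScalarTower.of_algebraMap_smul fun b x => by
      show φ (algebraMap B _ b) • x = b • x
      rw [AlgHom.commutes, algebraMap_smul]
  haveI : Module.Finite (MvPolynomial (Fin k) B)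
      ((Fin m → MvPolynomial (Fin n) S₀) ⧸ Submodule.span (MvPolynomial (Fin n) S₀) (Set.range w)) := by
    letI : Algebra (MvPolynomial (Fin k) B) (MvPolynomial (Fin n) S₀) := φ.toRingHom.toAlgebra
    haveI : IsScalarTower (MvPolynomial (Fin k) B) (MvPolynomial (Fin n) S₀)
        ((Fin m → MvPolynomial (Fin n) S₀) ⧸ Submodule.span (MvPolynomial (Fin n) S₀) (Set.range w)) :=
      IsScalarTower.of_algebraMap_smul fun _ _ => rfl
    haveI : Module.Finite (MvPolynomial (Fin k) B) (MvPolynomial (Fin n) S₀) :=
      Module.Finite.of_surjective (Algebra.linearMap _ (MvPolynomial (Fin n) S₀)) hφ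
    exact Module.Finite.trans (MvPolynomial (Fin n) S₀) _
  obtain ⟨r, π, hπ⟩ := Module.Finite.exists_fin' (MvPolynomial (Fin k) B)
    ((Fin m → MvPolynomial (Fin n) S₀) ⧸ Submodule.span (MvPolynomial (Fin n) S₀) (Set.range w))
  refine flat_localized_of_fibFlat_models (A := A) π hπ φ hφ (fun _ _ => rfl) eS
    (e.toAlgHom.toRingHom.comp
      (Algebra.TensorProduct.includeRight (R := B) (A := A) (B := MvPolynomial (Fin n) S₀)).toRingHom)
    (fun s => ?_) ?_ eM heM q hfib
  · show e ((1 : A) ⊗ₜ algebraMap S₀ (MvPolynomial (Fin n) S₀) s) = _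
    rw [he, MvPolynomial.algebraMap_eq, MvPolynomial.map_C]
    rfl
  · rw [eq_top_iff]
    intro t ht
    clear ht
    obtain ⟨z, rfl⟩ := e.surjective t
    induction z using TensorProduct.induction_on with
    | zero => simp
    | add a b ha hb => rw [map_add]; exact add_mem ha hb
    | tmul a p =>
      rw [show a ⊗ₜ[B] p = a • ((1 : A) ⊗ₜ p) by rw [TensorProduct.smul_tmul', smul_eq_mul, mul_one],
        map_smul]
      exact Submodule.smul_mem _ _ (Submodule.subset_span ⟨p, rfl⟩)

/-- The fibrewise criterion over a polynomial ring, module given by relations from models. -/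
theorem flat_localized_of_fibFlat_quotient {A S : Type u} [CommRing A] [CommRing S] [Algebra A S]
    [Algebra.FinitePresentation A S] {n m : ℕ}
    (K : Submodule (MvPolynomial (Fin n) S) (Fin m → MvPolynomial (Fin n) S)) (hK : K.FG)
    (q : Ideal (MvPolynomial (Fin n) S)) [q.IsPrime]
    [Module.Flat A (LocalizedModule q.primeCompl ((Fin m → MvPolynomial (Fin n) S) ⧸ K))]
    (hfib : FibFlat S ((Fin m → MvPolynomial (Fin n) S) ⧸ K)
      ((q.comap (algebraMap A (MvPolynomial (Fin n) S))).map (algebraMap A S)) q) :
    Module.Flat S (LocalizedModule q.primeCompl ((Fin m → MvPolynomial (Fin n) S) ⧸ K)) := by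
  classical
  obtain ⟨R, S₁, _, _, _, _, hR, hS₁, ⟨e₁⟩⟩ := exists_approx A S
  haveI := hR
  haveI := hS₁
  obtain ⟨g, hg⟩ := hK
  obtain ⟨B, hB, hrange⟩ := exists_subalgebra_subset_range e₁
    (g.biUnion fun v => Finset.univ.biUnion fun i => (v i).coeffs)
  haveI : IsNoetherianRing R := Algebra.FiniteType.isNoetherianRing ℤ R
  haveI : IsNoetherianRing B := isNoetherianRing_of_fg hB
  let eS : A ⊗[B] (B ⊗[R] S₁) ≃ₐ[A] S :=
    (Algebra.TensorProduct.cancelBaseChange R B A A S₁).trans e₁
  let ι : B ⊗[R] S₁ →+* S := eS.toAlgHom.toRingHom.comp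
    (Algebra.TensorProduct.includeRight (R := B) (A := A) (B := B ⊗[R] S₁)).toRingHom
  have hι : ∀ y : B ⊗[R] S₁, ι y = e₁ (B.val.toLinearMap.rTensor S₁ y) := by
    intro y
    induction y using TensorProduct.induction_on with
    | zero => simp
    | add a b ha hb => simp only [map_add, ha, hb]
    | tmul b s =>
      show (Algebra.TensorProduct.cancelBaseChange R B A A S₁).trans e₁ (1 ⊗ₜ (b ⊗ₜ s)) = _
      simp [Algebra.smul_def]
  have hw : ∀ v : g, ∀ i, ∃ w : MvPolynomial (Fin n) (B ⊗[R] S₁),
      MvPolynomial.map ι w = (v : Fin m → MvPolynomial (Fin n) S) i := by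
    intro v i
    suffices (v : Fin m → MvPolynomial (Fin n) S) i ∈ Set.range (MvPolynomial.map ι) from this
    rw [MvPolynomial.mem_range_map_iff_coeffs_subset]
    intro c hc
    obtain ⟨y, hy⟩ := hrange c (Finset.mem_biUnion.2 ⟨v, v.2, Finset.mem_biUnion.2 ⟨i, Finset.mem_univ _, hc⟩⟩)
    exact ⟨y, (hι y).trans hy⟩
  choose w hw using hw
  refine flat_localized_of_fibFlat_quotient_models eS w K ?_ q hfib
  rw [← hg]
  congr 1
  ext v
  constructor
  · exact fun hv => ⟨⟨v, hv⟩, funext fun i => hw ⟨v, hv⟩ i⟩
  · rintro ⟨j, rfl⟩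
    have : (fun i => MvPolynomial.map ι (w j i)) = (j : Fin m → MvPolynomial (Fin n) S) :=
      funext fun i => hw j i
    show (fun i => MvPolynomial.map ι (w j i)) ∈ _
    rw [this]
    exact j.2

/-- The fibrewise criterion of flatness for finitely presented data. -/
theorem flat_localized_of_fibFlat_fp {A S T M : Type u} [CommRing A] [CommRing S] [CommRing T]
    [Algebra A S] [Algebra S T] [Algebra A T] [IsScalarTower A S T]
    [Algebra.FinitePresentation A S] [Algebra.FinitePresentation A T]
    [AddCommGroup M] [Module A M] [Module S M] [Module T M] [IsScalarTower A S M]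
    [IsScalarTower S T M] [IsScalarTower A T M] [Module.FinitePresentation T M]
    (q : Ideal T) [q.IsPrime] [Module.Flat A (LocalizedModule q.primeCompl M)]
    (hfib : FibFlat S M ((q.comap (algebraMap A T)).map (algebraMap A S)) q) :
    Module.Flat S (LocalizedModule q.primeCompl M) := by
  haveI : Algebra.FinitePresentation S T :=
    Algebra.FinitePresentation.of_restrict_scalars_finitePresentation A S T
  obtain ⟨n, φ, hφ, hker⟩ := Algebra.FinitePresentation.out (R := S) (A := T)
  let P := MvPolynomial (Fin n) S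
  letI : Algebra P T := φ.toRingHom.toAlgebra
  letI : Module P M := Module.compHom M φ.toRingHom
  haveI : IsScalarTower P T M := IsScalarTower.of_algebraMap_smul fun _ _ => rfl
  haveI : IsScalarTower S P M := IsScalarTower.of_algebraMap_smul fun r x => by
    show φ (algebraMap S P r) • x = r • x
    rw [AlgHom.commutes, algebraMap_smul]
  haveI : IsScalarTower A P M := IsScalarTower.of_algebraMap_smul fun r x => by
    rw [IsScalarTower.algebraMap_apply A S P, algebraMap_smul, algebraMap_smul]
  haveI : Module.FinitePresentation P T :=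
    Module.finitePresentation_of_surjective (Algebra.linearMap _ T) hφ (by exact hker)
  haveI : Module.FinitePresentation P M := Module.FinitePresentation.trans P M T
  obtain ⟨m, K, eM, hK⟩ := Module.FinitePresentation.exists_fin P M
  have hflat : Module.Flat A (LocalizedModule (q.comap φ.toRingHom).primeCompl ((Fin m → P) ⧸ K)) :=
    (flat_localized_congr _ eM).1
      ((flat_localized_comap_iff (φ.restrictScalars A) hφ q fun _ _ => rfl).2 ‹_›)
  haveI := hflat
  have hfib' : FibFlat S M ((q.comap (algebraMap A T)).map (algebraMap A S)) (q.comap φ.toRingHom) :=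
    (fibFlat_comap_iff (M := M) φ.toRingHom hφ (fun _ _ => rfl) _ q).2 hfib
  have := flat_localized_of_fibFlat_quotient (A := A) K hK (q.comap φ.toRingHom) (by
    refine fibFlat_of_linearEquiv (eM.restrictScalars S) (fun t m => eM.map_smul t m) _ _ ?_
    rw [show (q.comap φ.toRingHom).comap (algebraMap A P) = q.comap (algebraMap A T) by
      rw [Ideal.comap_comap]
      congr 1
      exact (φ.restrictScalars A).comp_algebraMap]
    exact hfib')
  exact (flat_localized_comap_iff φ hφ q fun _ _ => rfl).1 ((flat_localized_congr _ eM).2 this)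

end Groth.Agent.FlatH4
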