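import Groth.Agent.Lib.FlatH4.FlatAt

/-!
# Flatness at a point comes from a finite stage
-/

universe u

namespace Groth.Agent.FlatH4

open TensorProduct LinearMap

variable {R A S M : Type u} [CommRing R] [CommRing A] [Algebra R A] [CommRing S] [Algebra R S]
  [AddCommGroup M] [Module R M] [Module S M] [IsScalarTower R S M]
  {F : Type u} [AddCommGroup F] [Module R F] [Module S F] [IsScalarTower R S F]
  (π : F →ₗ[S] M)

local notation "Kπ" => LinearMap.ker π

/-- The prime of `B ⊗ S` induced by a prime of `A ⊗ S`. -/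
abbrev primeAt (q : Ideal (A ⊗[R] S)) (B : Subalgebra R A) : Ideal (B ⊗[R] S) :=
  q.comap (Algebra.TensorProduct.map B.val (AlgHom.id R S))

/-- Relations in `p F` come from `p (B ⊗ ker π)` after multiplying by `s`. -/
def RelSMul (B : Type u) [CommRing B] [Algebra R B] (p : Ideal R) (s : B ⊗[R] S) (w : Kπ) : Prop :=
  ∃ t ∈ p • (⊤ : Submodule R (B ⊗[R] Kπ)),
    (kerIncl (R := R) π).baseChange B t = tensorAct R B S F s ((1 : B) ⊗ₜ[R] kerIncl (R := R) π w)

omit [Module R M] [IsScalarTower R S M] in
theorem RelSMul.mul {B : Type u} [CommRing B] [Algebra R B] {p : Ideal R} {s : B ⊗[R] S} {w : Kπ}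
    (h : RelSMul π B p s w) (c : B ⊗[R] S) : RelSMul π B p (c * s) w := by
  obtain ⟨t, ht, he⟩ := h
  refine ⟨tensorAct R B S Kπ c t, (Submodule.map_smul'' p (⊤ : Submodule R (B ⊗[R] Kπ))
    ((tensorAct R B S Kπ c).restrictScalars R)).trans_le (Submodule.smul_mono le_rfl le_top)
      (Submodule.mem_map_of_mem ht), ?_⟩
  rw [kerIncl, tensorAct_natural, map_mul]
  exact congrArg _ he

/-- One relation descends, up to an element outside `q`. -/
theorem exists_relSMul [Module.Flat R F] (hπ : Function.Surjective π) (q : Ideal (A ⊗[R] S))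
    [q.IsPrime]
    (hflat : letI := tensorModule R A S M; haveI := tensorModule_isScalarTower R A S M
      Module.Flat A (LocalizedModule q.primeCompl (A ⊗[R] M)))
    (p : Ideal R) (w : Kπ) (hw : kerIncl (R := R) π w ∈ p • (⊤ : Submodule R F)) :
    ∃ B₀ : Subalgebra R A, B₀.FG ∧ ∀ B : Subalgebra R A, B₀ ≤ B →
      ∃ s : B ⊗[R] S, s ∉ primeAt q B ∧ RelSMul π B p s w := by
  letI := tensorModule R A S M
  haveI := tensorModule_isScalarTower R A S M
  haveI := hflat
  let ι := kerIncl (R := R) π
  let J := p.map (algebraMap R A)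
  have hz : (1 : A) ⊗ₜ[R] ι w ∈ J • (⊤ : Submodule A (A ⊗[R] F)) := by
    show _ ∈ (p.map (algebraMap R A) • (⊤ : Submodule A (A ⊗[R] F))).restrictScalars R
    rw [map_smul_top_restrictScalars]
    have hle : (p • (⊤ : Submodule R F)).map (TensorProduct.mk R A F 1) ≤ p • ⊤ := by
      rw [Submodule.map_smul'']
      exact Submodule.smul_mono le_rfl le_top
    exact hle (Submodule.mem_map_of_mem hw)
  obtain ⟨y, hy⟩ := exists_tensor_of_mem_smul J hz
  let ρ := (π.restrictScalars R).baseChange A
  obtain ⟨s, hs, hsx⟩ := exists_smul_eq_zero_of_flat_localized q (J.subtype : J →ₗ[A] A)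
    J.injective_subtype (ρ.rTensor J y) (by
      apply (TensorProduct.rid A (A ⊗[R] M)).injective
      rw [rid_natural, hy, map_zero]
      simp [ρ, ι])
  let E := tensorAct R A S F s
  have h0 : ρ.rTensor J (E.rTensor J y) = 0 := by
    rw [← hsx]
    clear hy hsx
    induction y using TensorProduct.induction_on with
    | zero => simp
    | add a b ha hb => simp only [map_add, smul_add, ha, hb]
    | tmul a b =>
      rw [LinearMap.rTensor_tmul, LinearMap.rTensor_tmul, LinearMap.rTensor_tmul,
        TensorProduct.smul_tmul']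
      congr 1
      exact tensorAct_natural (R := R) A π s a
  have hρ : Function.Surjective ρ := LinearMap.lTensor_surjective (g := π.restrictScalars R) A hπ
  obtain ⟨η, hη⟩ := (rTensor_exact J (exact_kerIncl (R := R) π A hπ) hρ _).1 h0
  set t := TensorProduct.rid A (A ⊗[R] Kπ) (J.subtype.lTensor _ η) with htdef
  have ht : t ∈ J • (⊤ : Submodule A (A ⊗[R] Kπ)) := rid_mem_smul J η
  have htw : ι.baseChange A t = E ((1 : A) ⊗ₜ[R] ι w) := by
    rw [htdef, ← rid_natural, hη, rid_natural, hy]
  have ht' : t ∈ p • (⊤ : Submodule R (A ⊗[R] Kπ)) := by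
    rw [← map_smul_top_restrictScalars (S := A)]
    exact ht
  clear_value t
  obtain ⟨B₁, hB₁, t₁, ht₁, rfl⟩ : ∃ B₁ : Subalgebra R A, B₁.FG ∧ ∃ t₁ ∈ p • (⊤ : Submodule R (B₁ ⊗[R] Kπ)),
      B₁.val.toLinearMap.rTensor Kπ t₁ = t := by
    refine Submodule.smul_induction_on ht' (fun r hr y _ => ?_) ?_
    · obtain ⟨B₁, hB₁, y₁, rfl⟩ := TensorProduct.Algebra.exists_of_fg y
      exact ⟨B₁, hB₁, r • y₁, Submodule.smul_mem_smul hr trivial, by rw [map_smul]⟩
    · rintro _ _ ⟨B₁, hB₁, y₁, hy₁, rfl⟩ ⟨B₂, hB₂, y₂, hy₂, rfl⟩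
      refine ⟨B₁ ⊔ B₂, hB₁.sup hB₂, _, add_mem
        ((Submodule.map_smul'' p (⊤ : Submodule R (B₁ ⊗[R] Kπ))
          ((Subalgebra.inclusion (le_sup_left : B₁ ≤ B₁ ⊔ B₂)).toLinearMap.rTensor Kπ)).trans_le
            (Submodule.smul_mono le_rfl le_top) (Submodule.mem_map_of_mem hy₁))
        ((Submodule.map_smul'' p (⊤ : Submodule R (B₂ ⊗[R] Kπ))
          ((Subalgebra.inclusion (le_sup_right : B₂ ≤ B₁ ⊔ B₂)).toLinearMap.rTensor Kπ)).trans_le
            (Submodule.smul_mono le_rfl le_top) (Submodule.mem_map_of_mem hy₂)), ?_⟩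
      rw [map_add, ← rTensor_comp_apply, ← rTensor_comp_apply]
      rfl
  obtain ⟨B₂, hB₂, s₂, hs₂⟩ := TensorProduct.Algebra.exists_of_fg s
  refine ⟨B₁ ⊔ B₂, hB₁.sup hB₂, fun B hB => ?_⟩
  have hle₁ : B₁ ≤ B := le_sup_left.trans hB
  have hle₂ : B₂ ≤ B := le_sup_right.trans hB
  let s' : B ⊗[R] S := (Subalgebra.inclusion hle₂).toLinearMap.rTensor S s₂
  have hs' : B.val.toLinearMap.rTensor S s' = s := by
    rw [← rTensor_comp_apply]
    exact hs₂
  refine ⟨s', ?_, (Subalgebra.inclusion hle₁).toLinearMap.rTensor Kπ t₁,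
    (Submodule.map_smul'' p (⊤ : Submodule R (B₁ ⊗[R] Kπ))
      ((Subalgebra.inclusion hle₁).toLinearMap.rTensor Kπ)).trans_le
        (Submodule.smul_mono le_rfl le_top) (Submodule.mem_map_of_mem ht₁), ?_⟩
  · show B.val.toLinearMap.rTensor S s' ∉ q
    rw [hs']
    exact hs
  · apply Module.Flat.rTensor_preserves_injective_linearMap (M := F) B.val.toLinearMap Subtype.val_injective
    rw [tensorAct_val, hs', LinearMap.rTensor_tmul]
    show B.val.toLinearMap.rTensor F (ι.lTensor B _) = _
    rw [← LinearMap.comp_apply, rTensor_comp_lTensor, ← lTensor_comp_rTensor, LinearMap.comp_apply,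
      ← rTensor_comp_apply]
    refine Eq.trans ?_ htw
    rfl

/-- A single multiplier works for all relations. -/
theorem exists_forall_relSMul [IsNoetherianRing S] [Module.Finite S F] [Module.Flat R F]
    (hπ : Function.Surjective π) (q : Ideal (A ⊗[R] S)) [q.IsPrime]
    (hflat : letI := tensorModule R A S M; haveI := tensorModule_isScalarTower R A S M
      Module.Flat A (LocalizedModule q.primeCompl (A ⊗[R] M)))
    (p : Ideal R) :
    ∃ B₀ : Subalgebra R A, B₀.FG ∧ ∀ B : Subalgebra R A, B₀ ≤ B →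
      ∃ s : B ⊗[R] S, s ∉ primeAt q B ∧
        ∀ w : Kπ, kerIncl (R := R) π w ∈ p • (⊤ : Submodule R F) → RelSMul π B p s w := by
  classical
  haveI : IsNoetherian S F := isNoetherian_of_isNoetherianRing_of_finite S F
  let W : Submodule S Kπ := (p.map (algebraMap R S) • (⊤ : Submodule S F)).comap (LinearMap.ker π).subtype
  obtain ⟨g, hg⟩ := IsNoetherian.noetherian W
  have hmem : ∀ w : Kπ, kerIncl (R := R) π w ∈ p • (⊤ : Submodule R F) ↔ w ∈ W := fun w => by
    rw [← map_smul_top_restrictScalars (S := S)]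
    rfl
  have hgen := fun w : g =>
    exists_relSMul π hπ q hflat p w ((hmem _).2 (hg.le (Submodule.subset_span w.2)))
  choose Bw hBw hrel using hgen
  refine ⟨Finset.univ.sup Bw, Finset.sup_induction Subalgebra.fg_bot (fun a ha b hb => ha.sup hb)
    (fun i _ => hBw i), fun B hB => ?_⟩
  choose s hs hrs using fun w : g => hrel w B ((Finset.le_sup (Finset.mem_univ w)).trans hB)
  refine ⟨∏ w : g, s w, fun h => ?_, fun w hw => ?_⟩
  · obtain ⟨i, -, hi⟩ := (Ideal.IsPrime.prod_mem_iff).1 h
    exact hs i hi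
  have hw' : w ∈ Submodule.span S (g : Set Kπ) := hg.ge ((hmem w).1 hw)
  clear hw
  induction hw' using Submodule.span_induction with
  | mem x hx =>
    rw [← Finset.prod_erase_mul _ _ (Finset.mem_univ (⟨x, hx⟩ : g))]
    exact (hrs ⟨x, hx⟩).mul π _
  | zero => exact ⟨0, zero_mem _, by simp⟩
  | add x y _ _ hx hy =>
    obtain ⟨tx, htx, hex⟩ := hx
    obtain ⟨ty, hty, hey⟩ := hy
    exact ⟨tx + ty, add_mem htx hty, by rw [map_add, hex, hey, map_add, TensorProduct.tmul_add, map_add]⟩
  | smul a x _ hx =>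
    obtain ⟨t, ht, he⟩ := hx.mul π ((1 : B) ⊗ₜ[R] a)
    refine ⟨t, ht, he.trans ?_⟩
    rw [mul_comm, map_mul]
    show tensorAct R B S F _ (tensorAct R B S F ((1 : B) ⊗ₜ[R] a) ((1 : B) ⊗ₜ[R] kerIncl (R := R) π x)) = _
    rw [tensorAct_tmul, mul_one]
    rfl

/-- Kernel elements in `p (B ⊗ F)` come from `p (B ⊗ ker π)` up to `f`-powers and `s`. -/
theorem exists_pow_preimage_smul (hπ : Function.Surjective π) (B : Type u) [CommRing B] [Algebra R B]
    (p : Ideal R) (f : R) (hstar : ModFree p f M) (s : B ⊗[R] S)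
    (hT : ∀ w : Kπ, kerIncl (R := R) π w ∈ p • (⊤ : Submodule R F) → RelSMul π B p s w)
    (z : B ⊗[R] F) (hz : z ∈ p • (⊤ : Submodule R (B ⊗[R] F)))
    (hρz : (π.restrictScalars R).baseChange B z = 0) :
    ∃ k : ℕ, ∃ t ∈ p • (⊤ : Submodule R (B ⊗[R] Kπ)),
      (kerIncl (R := R) π).baseChange B t = tensorAct R B S F s (f ^ k • z) := by
  let ι := kerIncl (R := R) π
  obtain ⟨u, rfl⟩ := (exact_kerIncl π B hπ z).1 hρz
  let mk : B →ₗ[R] B ⧸ (p • ⊤ : Submodule R B) := (p • ⊤ : Submodule R B).mkQ
  have hC : Module.IsTorsionBySet R (B ⧸ (p • ⊤ : Submodule R B)) (p : Set R) :=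
    Module.isTorsionBySet_quotient_ideal_smul B p
  have h0 : mk.rTensor F ((kerIncl (R := R) π).baseChange B u) = 0 := by
    refine Submodule.smul_induction_on hz (fun r hr y hy => ?_) (fun a b ha hb => by simp [ha, hb])
    clear hy
    rw [map_smul]
    induction y using TensorProduct.induction_on with
    | zero => simp
    | tmul b x => rw [LinearMap.rTensor_tmul, TensorProduct.smul_tmul', @hC (mk b) ⟨r, hr⟩,
        TensorProduct.zero_tmul]
    | add a b ha hb => rw [map_add, smul_add, ha, hb, add_zero]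
  have hs : Function.Surjective (π.restrictScalars R) := hπ
  have hex : Function.Exact (kerIncl (R := R) π) (π.restrictScalars R) :=
    LinearMap.exact_subtype_ker_map π
  let W : Submodule R Kπ := (p • (⊤ : Submodule R F)).comap (kerIncl (R := R) π)
  obtain ⟨k, c, hc⟩ := exists_pow_mem_range_of_rTensor_eq_zero (kerIncl (R := R) π)
    (π.restrictScalars R) hex hs p f hstar W (fun _ h => h) hC (mk.rTensor Kπ u) (by
      rw [← LinearMap.comp_apply, lTensor_comp_rTensor, ← rTensor_comp_lTensor, LinearMap.comp_apply]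
      exact h0)
  obtain ⟨c', rfl⟩ := rTensor_surjective W (Submodule.mkQ_surjective (p • ⊤ : Submodule R B)) c
  refine ⟨k, ?_⟩
  obtain ⟨t₁, ht₁, he₁⟩ : ∃ t ∈ p • (⊤ : Submodule R (B ⊗[R] Kπ)),
      ι.baseChange B t = tensorAct R B S F s (ι.baseChange B (W.subtype.lTensor B c')) := by
    clear hc
    induction c' using TensorProduct.induction_on with
    | zero => exact ⟨0, zero_mem _, by simp⟩
    | add a b ha hb =>
      obtain ⟨ta, hta, hea⟩ := ha
      obtain ⟨tb, htb, heb⟩ := hb
      exact ⟨ta + tb, add_mem hta htb, by simp [map_add, hea, heb]⟩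
    | tmul b w =>
      obtain ⟨t, ht, he⟩ := hT w.1 w.2
      refine ⟨b • t, (Submodule.map_smul'' p (⊤ : Submodule R (B ⊗[R] Kπ))
        ((LinearMap.lsmul B (B ⊗[R] Kπ) b).restrictScalars R)).trans_le
          (Submodule.smul_mono le_rfl le_top) (Submodule.mem_map_of_mem ht), ?_⟩
      rw [map_smul, he, ← map_smul, TensorProduct.smul_tmul', smul_eq_mul, mul_one]
      rfl
  have h2 : f ^ k • u - W.subtype.lTensor B c' ∈ p • (⊤ : Submodule R (B ⊗[R] Kπ)) := by
    have hker : mk.rTensor Kπ (f ^ k • u - W.subtype.lTensor B c') = 0 := by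
      rw [map_sub, map_smul, hc, ← LinearMap.comp_apply (mk.rTensor Kπ), rTensor_comp_lTensor,
        ← lTensor_comp_rTensor, LinearMap.comp_apply, sub_self]
    obtain ⟨e, he⟩ := (rTensor_exact Kπ (LinearMap.exact_subtype_mkQ (p • ⊤ : Submodule R B))
      (Submodule.mkQ_surjective _) _).1 hker
    rw [← he]
    clear he hker
    induction e using TensorProduct.induction_on with
    | zero => simp
    | add a b ha hb => rw [map_add]; exact add_mem ha hb
    | tmul b x =>
      rw [LinearMap.rTensor_tmul]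
      exact (Submodule.map_smul'' p (⊤ : Submodule R B) ((TensorProduct.mk R B Kπ).flip x)).trans_le
        (Submodule.smul_mono le_rfl le_top) (Submodule.mem_map_of_mem b.2)
  refine ⟨t₁ + tensorAct R B S Kπ s (f ^ k • u - W.subtype.lTensor B c'), add_mem ht₁
    ((Submodule.map_smul'' p (⊤ : Submodule R (B ⊗[R] Kπ))
      ((tensorAct R B S Kπ s).restrictScalars R)).trans_le (Submodule.smul_mono le_rfl le_top)
        (Submodule.mem_map_of_mem h2)), ?_⟩
  rw [map_add, he₁]
  show _ + ((LinearMap.ker π).subtype.restrictScalars R).baseChange B _ = _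
  rw [tensorAct_natural, ← map_add, ← map_add, add_sub_cancel, LinearMap.map_smul_of_tower]

/-- Flatness at `q` descends to a finitely generated subalgebra. -/
theorem exists_subalgebra_flatAt_of_presentation [IsNoetherianRing R] [Algebra.FiniteType R S]
    [Module.Finite S M] [Module.Finite S F] [Module.Flat R F] (hπ : Function.Surjective π)
    (q : Ideal (A ⊗[R] S)) [q.IsPrime]
    (hflat : letI := tensorModule R A S M; haveI := tensorModule_isScalarTower R A S M
      Module.Flat A (LocalizedModule q.primeCompl (A ⊗[R] M))) :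
    ∃ B₀ : Subalgebra R A, B₀.FG ∧ ∀ B : Subalgebra R A, B₀ ≤ B → B.FG →
      letI := tensorModule R B S M; haveI := tensorModule_isScalarTower R B S M
      Module.Flat B (LocalizedModule (primeAt q B).primeCompl (B ⊗[R] M)) := by
  haveI : IsNoetherianRing S := Algebra.FiniteType.isNoetherianRing R S
  let p : Ideal R := (q.comap (algebraMap A (A ⊗[R] S))).comap (algebraMap R A)
  obtain ⟨f, hfp, hstar⟩ := exists_modFree (M := M) (S := S) p
  obtain ⟨B₀, hB₀, hT⟩ := exists_forall_relSMul π hπ q hflat p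
  refine ⟨B₀, hB₀, fun B hle hB => ?_⟩
  haveI : IsNoetherianRing B := isNoetherianRing_of_fg hB
  haveI : IsNoetherianRing (B ⊗[R] S) := Algebra.FiniteType.isNoetherianRing B _
  obtain ⟨s, hs, hrel⟩ := hT B hle
  letI := tensorModule R B S M
  haveI := tensorModule_isScalarTower R B S M
  haveI := tensorModule_finite R B S M
  have hmemR : ∀ r : R, algebraMap B (B ⊗[R] S) (algebraMap R B r) ∈ primeAt q B ↔ r ∈ p := by
    intro r
    show Algebra.TensorProduct.map B.val (AlgHom.id R S) ((algebraMap R B r : B) ⊗ₜ[R] (1 : S)) ∈ q ↔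
      algebraMap A (A ⊗[R] S) (algebraMap R A r) ∈ q
    rw [Algebra.TensorProduct.map_tmul]
    rfl
  have hfq : algebraMap B (B ⊗[R] S) (algebraMap R B f) ∉ primeAt q B := fun h => hfp ((hmemR f).1 h)
  refine flat_localized_of_kernels (p.map (algebraMap R B)) (primeAt q B) ?_ (fun x hx => ?_)
    (fun {N N'} _ _ _ _ hN hN' g hg x hx => ?_)
  · rw [Ideal.map_le_iff_le_comap, Ideal.map_le_iff_le_comap]
    exact fun r hr => (hmemR r).2 hr
  · let J := p.map (algebraMap R B)
    let ρ := (π.restrictScalars R).baseChange B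
    have hρ : Function.Surjective ρ := LinearMap.lTensor_surjective (g := π.restrictScalars R) B hπ
    obtain ⟨y, rfl⟩ := rTensor_surjective J hρ x
    obtain ⟨k, t, ht, hkt⟩ := exists_pow_preimage_smul π hπ B p f hstar s hrel
      (TensorProduct.rid B (B ⊗[R] F) (J.subtype.lTensor _ y))
      (by rw [← map_smul_top_restrictScalars (S := B)]; exact rid_mem_smul J y)
      (by
        have h := rid_natural J ρ y
        rw [show J.subtype.lTensor (B ⊗[R] M) (ρ.rTensor J y) = 0 from hx, map_zero] at h
        exact h.symm)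
    rw [← map_smul_top_restrictScalars (S := B)] at ht
    obtain ⟨η, hη⟩ := exists_tensor_of_mem_smul J ht
    let c : B ⊗[R] S := s * algebraMap B (B ⊗[R] S) (algebraMap R B (f ^ k))
    have hc : c ∉ primeAt q B := fun h => by
      rcases Ideal.IsPrime.mem_or_mem inferInstance h with h | h
      · exact hs h
      · rw [map_pow, map_pow] at h
        exact hfq (Ideal.IsPrime.mem_of_pow_mem inferInstance k h)
    refine ⟨c, hc, ?_⟩
    have hy : (tensorAct R B S F c).rTensor J y = ((kerIncl (R := R) π).baseChange B).rTensor J η := by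
      apply Module.Flat.lTensor_preserves_injective_linearMap (M := B ⊗[R] F) J.subtype J.injective_subtype
      apply (TensorProduct.rid B (B ⊗[R] F)).injective
      rw [rid_natural, rid_natural, hη, hkt, map_mul, AlgHom.commutes, Module.End.mul_apply,
        Module.algebraMap_end_apply, algebraMap_smul]
    have hnat : c • ρ.rTensor J y = ρ.rTensor J ((tensorAct R B S F c).rTensor J y) := by
      clear hx hkt hη hy
      induction y using TensorProduct.induction_on with
      | zero => simp
      | add a b ha hb => simp only [map_add, smul_add, ha, hb]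
      | tmul a b =>
        rw [LinearMap.rTensor_tmul, LinearMap.rTensor_tmul, LinearMap.rTensor_tmul,
          TensorProduct.smul_tmul']
        congr 1
        exact (tensorAct_natural (R := R) B π c a).symm
    exact hnat.trans (by
      rw [hy, ← rTensor_comp_apply, (exact_kerIncl π B hπ).linearMap_comp_eq_zero]; simp)
  · let _ : Module R N := Module.compHom N (algebraMap R B)
    let _ : Module R N' := Module.compHom N' (algebraMap R B)
    haveI : IsScalarTower R B N := IsScalarTower.of_algebraMap_smul fun _ _ => rfl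
    haveI : IsScalarTower R B N' := IsScalarTower.of_algebraMap_smul fun _ _ => rfl
    have hN0 : Module.IsTorsionBySet R N (p : Set R) := fun n r => by
      rw [← algebraMap_smul B (r : R) n]
      exact @hN n ⟨_, Ideal.mem_map_of_mem _ r.2⟩
    have hN0' : Module.IsTorsionBySet R N' (p : Set R) := fun n r => by
      rw [← algebraMap_smul B (r : R) n]
      exact @hN' n ⟨_, Ideal.mem_map_of_mem _ r.2⟩
    let e := TensorProduct.comm B (B ⊗[R] M) N ≪≫ₗ AlgebraTensorModule.cancelBaseChange R B B N M
    let e' := TensorProduct.comm B (B ⊗[R] M) N' ≪≫ₗ AlgebraTensorModule.cancelBaseChange R B B N' M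
    have key : ∀ y, (g.restrictScalars R).rTensor M (e y) = e' (g.lTensor _ y) := by
      intro y
      induction y using TensorProduct.induction_on with
      | zero => simp
      | tmul z n =>
        induction z using TensorProduct.induction_on with
        | zero => simp
        | tmul b m => simp [e, e']
        | add a b ha hb => simp only [add_tmul, map_add, ha, hb]
      | add a b ha hb => simp only [map_add, ha, hb]
    obtain ⟨k, hk⟩ := hstar hN0 hN0' (g.restrictScalars R) hg (e x) (by rw [key, hx, map_zero])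
    refine ⟨algebraMap B (B ⊗[R] S) (algebraMap R B (f ^ k)), fun h => ?_, ?_⟩
    · rw [map_pow, map_pow] at h
      exact hfq (Ideal.IsPrime.mem_of_pow_mem inferInstance k h)
    · rw [algebraMap_smul]
      apply e.injective
      rw [map_smul, algebraMap_smul, hk, map_zero]

end Groth.Agent.FlatH4
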