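import Mathlib.RingTheory.ZariskisMainTheorem
import Mathlib.RingTheory.IntegralClosure.GoingDown
import Mathlib.RingTheory.Polynomial.IsIntegral
import Mathlib.RingTheory.NoetherNormalization
import Mathlib.RingTheory.Valuation.LocalSubring
import Mathlib.Algebra.MvPolynomial.Funext
import Mathlib.FieldTheory.IsAlgClosed.AlgebraicClosure
import Mathlib.RingTheory.Localization.Integral
import Mathlib.RingTheory.Bezout
import Mathlib.RingTheory.Valuation.ValuationRing
import Mathlib.RingTheory.Valuation.Integral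

/-!
# Points closed in their fibre between a point and a specialisation
-/

universe u

open IsLocalRing

noncomputable section

namespace Groth.Agent.FlatH4

theorem isIntegrallyClosed_mvPolynomial (V : Type u) [CommRing V] [IsDomain V] [IsIntegrallyClosed V]
    (n : ℕ) : IsIntegrallyClosed (MvPolynomial (Fin n) V) := by
  induction n with
  | zero => exact IsIntegrallyClosed.of_equiv (MvPolynomial.isEmptyAlgEquiv V (Fin 0)).symm.toRingEquiv
  | succ n ih =>
    have := ih
    exact IsIntegrallyClosed.of_equiv (MvPolynomial.finSuccEquiv V n).symm.toRingEquiv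

/-- Over a valuation ring a polynomial is a scalar times one with a unit coefficient. -/
theorem exists_content {V : Type u} [CommRing V] [IsDomain V] [ValuationRing V] {σ : Type*}
    (f : MvPolynomial σ V) (hf : f ≠ 0) :
    ∃ (c : V) (f₁ : MvPolynomial σ V), f = MvPolynomial.C c * f₁ ∧ ∃ m, IsUnit (f₁.coeff m) := by
  classical
  obtain ⟨c, hc⟩ := (IsBezout.isPrincipal_of_FG (Ideal.span (f.coeff '' (f.support : Set _)))
    (Submodule.fg_span (f.support.finite_toSet.image _))).1
  rw [← Ideal.submodule_span_eq] at hc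
  have hmem : ∀ m, f.coeff m ∈ Ideal.span {c} := fun m => by
    by_cases hm : m ∈ f.support
    · show f.coeff m ∈ Submodule.span V {c}
      rw [← hc]
      exact Ideal.subset_span ⟨m, hm, rfl⟩
    · rw [MvPolynomial.notMem_support_iff.1 hm]; exact zero_mem _
  obtain ⟨f₁, hf₁⟩ : MvPolynomial.C c ∣ f :=
    MvPolynomial.C_dvd_iff_dvd_coeff c f |>.2 fun m => Ideal.mem_span_singleton.1 (hmem m)
  refine ⟨c, f₁, hf₁, ?_⟩
  have hc0 : c ≠ 0 := fun h => hf (by rw [hf₁, h, map_zero, zero_mul])
  by_contra! hu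
  have hle : Submodule.span V {c} ≤ Ideal.span {c} * maximalIdeal V := by
    rw [← hc, Ideal.span_le]
    rintro _ ⟨m, -, rfl⟩
    show f.coeff m ∈ Ideal.span {c} * maximalIdeal V
    rw [hf₁, MvPolynomial.coeff_C_mul]
    exact Ideal.mul_mem_mul (Ideal.mem_span_singleton_self c) (hu m)
  obtain ⟨x, hx, hxc⟩ := Ideal.mem_span_singleton_mul.1 (hle (Submodule.mem_span_singleton_self c))
  have : x = 1 := mul_left_cancel₀ hc0 (hxc.trans (mul_one c).symm)
  exact (maximalIdeal.isMaximal V).ne_top ((Ideal.eq_top_iff_one _).2 (this ▸ hx))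

section

variable {V C : Type u} [CommRing V] [IsDomain V] [ValuationRing V] [CommRing C] [IsDomain C]
  [Algebra V C] [Algebra.FiniteType V C] [FaithfulSMul V C]

/-- Quasi-finite injective parametrisation at a closed point of the special fibre. -/
theorem exists_quasiFiniteAt_param (M : Ideal C) [M.IsMaximal] (hM : M.under V = maximalIdeal V) :
    ∃ (d : ℕ) (φ : MvPolynomial (Fin d) V →ₐ[V] C), Function.Injective φ ∧
      (M.comap φ.toRingHom).IsMaximal ∧
      (letI := φ.toRingHom.toAlgebra; Algebra.QuasiFiniteAt (MvPolynomial (Fin d) V) M) := by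
  classical
  let mC := (maximalIdeal V).map (algebraMap V C)
  have hmM : mC ≤ M := Ideal.map_le_iff_le_comap.2 hM.ge
  have : Nontrivial (C ⧸ mC) := Ideal.Quotient.nontrivial_iff.2
    (ne_top_of_le_ne_top (Ideal.IsMaximal.ne_top ‹_›) hmM)
  letI : Field (V ⧸ maximalIdeal V) := Ideal.Quotient.field _
  letI : Algebra (V ⧸ maximalIdeal V) (C ⧸ mC) :=
    (Ideal.quotientMap mC (algebraMap V C) Ideal.le_comap_map).toAlgebra
  haveI : IsScalarTower V (V ⧸ maximalIdeal V) (C ⧸ mC) := IsScalarTower.of_algebraMap_eq fun _ => rfl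
  haveI : Algebra.FiniteType (V ⧸ maximalIdeal V) (C ⧸ mC) :=
    Algebra.FiniteType.of_restrictScalars_finiteType V _ _
  obtain ⟨d, g, hg, hgfin⟩ := exists_finite_inj_algHom_of_fg (V ⧸ maximalIdeal V) (C ⧸ mC)
  choose t ht using fun i => Ideal.Quotient.mk_surjective (g (MvPolynomial.X i))
  let φ : MvPolynomial (Fin d) V →ₐ[V] C := MvPolynomial.aeval t
  have hred : (Ideal.Quotient.mk mC).comp φ.toRingHom =
      g.toRingHom.comp (MvPolynomial.map (Ideal.Quotient.mk (maximalIdeal V))) := by
    refine MvPolynomial.ringHom_ext (fun r => ?_) fun i => ?_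
    · show Ideal.Quotient.mk mC (φ (MvPolynomial.C r)) = g (MvPolynomial.map _ (MvPolynomial.C r))
      rw [MvPolynomial.map_C]
      show Ideal.Quotient.mk mC (φ (algebraMap V (MvPolynomial (Fin d) V) r)) =
        g (algebraMap (V ⧸ maximalIdeal V) (MvPolynomial (Fin d) (V ⧸ maximalIdeal V)) _)
      rw [AlgHom.commutes, AlgHom.commutes]
      rfl
    · show Ideal.Quotient.mk mC (φ (MvPolynomial.X i)) = g (MvPolynomial.map _ (MvPolynomial.X i))
      rw [MvPolynomial.map_X, ← ht]
      simp [φ]
  have hinj : Function.Injective φ := by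
    refine (injective_iff_map_eq_zero _).2 fun f hf => by_contra fun hf0 => ?_
    obtain ⟨c, f₁, rfl, m, hm⟩ := exists_content f hf0
    have hc : c ≠ 0 := fun h => hf0 (by rw [h, map_zero, zero_mul])
    rw [map_mul] at hf
    have h1 : φ f₁ = 0 := (mul_eq_zero.1 hf).resolve_left fun h => hc (FaithfulSMul.algebraMap_injective V C
      ((φ.commutes c).symm.trans (h.trans (map_zero _).symm)))
    have h2 : g (MvPolynomial.map (Ideal.Quotient.mk (maximalIdeal V)) f₁) = 0 :=
      (congr($hred f₁)).symm.trans (by rw [RingHom.comp_apply]; exact (congrArg _ h1).trans (map_zero _))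
    have h3 := congr(MvPolynomial.coeff m $(hg (h2.trans (map_zero g).symm)))
    rw [MvPolynomial.coeff_map, MvPolynomial.coeff_zero, Ideal.Quotient.eq_zero_iff_mem] at h3
    exact h3 hm
  letI := φ.toRingHom.toAlgebra
  haveI : IsScalarTower V (MvPolynomial (Fin d) V) C :=
    IsScalarTower.of_algebraMap_eq fun r => (φ.commutes r).symm
  haveI : Algebra.FiniteType (MvPolynomial (Fin d) V) C :=
    Algebra.FiniteType.of_restrictScalars_finiteType V _ _
  have hfin : ((Ideal.Quotient.mk mC).comp φ.toRingHom).Finite := by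
    rw [hred]
    exact RingHom.Finite.comp hgfin
      (RingHom.Finite.of_surjective _ (MvPolynomial.map_surjective _ Ideal.Quotient.mk_surjective))
  haveI : Module.Finite (MvPolynomial (Fin d) V) (C ⧸ mC) := RingHom.finite_algebraMap.1 hfin
  haveI : (M.map (Ideal.Quotient.mk mC)).IsMaximal :=
    Ideal.IsMaximal.map_of_surjective_of_ker_le Ideal.Quotient.mk_surjective (by rwa [Ideal.mk_ker])
  have hcm : (M.map (Ideal.Quotient.mk mC)).comap (Ideal.Quotient.mk mC) = M :=
    Ideal.comap_map_mk hmM
  haveI hmax : (M.comap φ.toRingHom).IsMaximal := by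
    have := Ideal.isMaximal_comap_of_isIntegral_of_isMaximal (R := MvPolynomial (Fin d) V)
      (M.map (Ideal.Quotient.mk mC))
    rwa [show algebraMap (MvPolynomial (Fin d) V) (C ⧸ mC) = (Ideal.Quotient.mk mC).comp φ.toRingHom
      from rfl, ← Ideal.comap_comap, hcm] at this
  refine ⟨d, φ, hinj, hmax, ?_⟩
  let q : PrimeSpectrum C := ⟨M, inferInstance⟩
  let p := PrimeSpectrum.comap (algebraMap (MvPolynomial (Fin d) V) C) q
  let F := PrimeSpectrum.comap (algebraMap (MvPolynomial (Fin d) V) C) ⁻¹' {p}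
  have hsub : ∀ x : PrimeSpectrum C, x ∈ F → mC ≤ x.asIdeal := fun x hx => by
    refine Ideal.map_le_iff_le_comap.2 ?_
    rw [IsScalarTower.algebraMap_eq V (MvPolynomial (Fin d) V) C, ← Ideal.comap_comap,
      show x.asIdeal.comap (algebraMap (MvPolynomial (Fin d) V) C) = p.asIdeal from congrArg PrimeSpectrum.asIdeal hx]
    show maximalIdeal V ≤ (M.comap φ.toRingHom).comap _
    rw [Ideal.comap_comap, show φ.toRingHom.comp (algebraMap V _) = algebraMap V C from φ.comp_algebraMap]
    exact hM.ge
  have hprimes : ∀ x : PrimeSpectrum C, x ∈ F → ∃ y : Ideal (C ⧸ mC),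
      y ∈ (M.comap φ.toRingHom).primesOver (C ⧸ mC) ∧ y.comap (Ideal.Quotient.mk mC) = x.asIdeal := by
    intro x hx
    have h : (x.asIdeal.map (Ideal.Quotient.mk mC)).comap (Ideal.Quotient.mk mC) = x.asIdeal :=
      Ideal.comap_map_mk (hsub x hx)
    refine ⟨_, ⟨Ideal.map_isPrime_of_surjective Ideal.Quotient.mk_surjective
      (by rw [Ideal.mk_ker]; exact hsub x hx), ⟨?_⟩⟩, h⟩
    show M.comap φ.toRingHom = (x.asIdeal.map _).comap ((Ideal.Quotient.mk mC).comp φ.toRingHom)
    rw [← Ideal.comap_comap, h]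
    exact (congrArg PrimeSpectrum.asIdeal hx).symm
  haveI : Finite F := by
    choose y hy hy' using hprimes
    haveI : Finite ((M.comap φ.toRingHom).primesOver (C ⧸ mC)) :=
      (Algebra.QuasiFinite.finite_primesOver _).to_subtype
    exact Finite.of_injective (fun x : F => (⟨y x.1 x.2, hy x.1 x.2⟩ : (M.comap φ.toRingHom).primesOver (C ⧸ mC)))
      fun a b hab => Subtype.ext (PrimeSpectrum.ext
        (by
          have h := Subtype.ext_iff.1 hab
          dsimp only at h
          rw [← hy' a.1 a.2, ← hy' b.1 b.2, h]))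
  haveI : T1Space F := ⟨fun x => by
    have : IsClosed ({x.1} : Set (PrimeSpectrum C)) := by
      rw [PrimeSpectrum.isClosed_singleton_iff_isMaximal]
      obtain ⟨y, ⟨hy, hyo⟩, hyx⟩ := hprimes x.1 x.2
      haveI := hy
      haveI : (y.comap (algebraMap (MvPolynomial (Fin d) V) (C ⧸ mC))).IsMaximal := by
        show (y.under (MvPolynomial (Fin d) V)).IsMaximal
        rw [← hyo.over]; exact hmax
      have := Ideal.isMaximal_of_isIntegral_of_isMaximal_comap (R := MvPolynomial (Fin d) V) y this
      rw [← hyx]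
      exact Ideal.comap_isMaximal_of_surjective _ Ideal.Quotient.mk_surjective
    have := this.preimage (continuous_subtype_val (p := fun z => z ∈ F))
    convert this using 1
    ext z; simp [Subtype.ext_iff]⟩
  exact Algebra.QuasiFiniteAt.of_isOpen_singleton_fiber q (isOpen_discrete _)

end

/-- A valuation subring of an algebraically closed field has algebraically closed residue field. -/
theorem isAlgClosed_residueField {L : Type u} [Field L] [IsAlgClosed L] (O : ValuationSubring L) :
    IsAlgClosed (ResidueField O) := by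
  refine IsAlgClosed.of_exists_root _ fun p hp hirr => ?_
  obtain ⟨P, hP, hdeg, hmon⟩ := Polynomial.lifts_and_degree_eq_and_monic
    (Polynomial.map_surjective (residue O) residue_surjective p) hp
  obtain ⟨x, hx⟩ := IsAlgClosed.exists_root (P.map (algebraMap O L)) (by
    rw [Polynomial.degree_map_eq_of_injective (fun a b h => Subtype.ext h), hdeg]
    exact (Polynomial.degree_pos_of_irreducible hirr).ne')
  have hint : IsIntegral O x := ⟨P, hmon, by rw [Polynomial.IsRoot, Polynomial.eval_map] at hx; exact hx⟩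
  obtain ⟨y, rfl⟩ := IsIntegrallyClosed.isIntegral_iff.1 hint
  refine ⟨residue O y, ?_⟩
  rw [← hP, Polynomial.eval_map, Polynomial.eval₂_at_apply]
  rw [Polynomial.IsRoot, Polynomial.eval_map, Polynomial.eval₂_at_apply] at hx
  rw [show P.eval y = 0 from (map_eq_zero_iff (algebraMap O L) fun a b h => Subtype.ext h).1 hx, map_zero]

/-- A homomorphism inverting `r` extends along a map which is an isomorphism after inverting `r`. -/
theorem exists_lift_away {A B F : Type*} [CommRing A] [CommRing B] [CommRing F] (f : A →+* B) (r : A)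
    (hb : Function.Bijective (Localization.awayMap f r)) (π : A →+* F) (hu : IsUnit (π r)) :
    ∃ ψ : B →+* F, ψ.comp f = π := by
  let e := RingEquiv.ofBijective _ hb
  refine ⟨(IsLocalization.Away.lift (S := Localization.Away r) r hu).comp
    (e.symm.toRingHom.comp (algebraMap B (Localization.Away (f r)))), RingHom.ext fun a => ?_⟩
  have h1 : e.symm (algebraMap B (Localization.Away (f r)) (f a)) =
      algebraMap A (Localization.Away r) a := by
    rw [RingEquiv.symm_apply_eq]
    show _ = Localization.awayMap f r (algebraMap A (Localization.Away r) a)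
    exact (IsLocalization.map_eq (M := Submonoid.powers r) (T := Submonoid.powers (f r))
      (S := Localization.Away r) (Q := Localization.Away (f r)) _ a).symm
  show IsLocalization.Away.lift (S := Localization.Away r) r hu
    (e.symm (algebraMap B (Localization.Away (f r)) (f a))) = π a
  rw [h1, IsLocalization.Away.lift_eq]

section

variable {V C : Type u} [CommRing V] [IsDomain V] [ValuationRing V] [CommRing C] [IsDomain C]
  [Algebra V C] [Algebra.FiniteType V C] [FaithfulSMul V C]

/-- A prime of the generic fibre, algebraic over the base, below a closed point of the special fibre. -/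
theorem exists_algebraic_prime_le (hV : ¬ IsField V) (M : Ideal C) [M.IsMaximal]
    (hM : M.under V = maximalIdeal V) (b : C) (hb : b ≠ 0) :
    ∃ q : Ideal C, q.IsPrime ∧ q ≤ M ∧ b ∉ q ∧ q.comap (algebraMap V C) = ⊥ ∧
      ∀ x, ∃ p : Polynomial V, p ≠ 0 ∧ Polynomial.aeval x p ∈ q := by
  classical
  obtain ⟨d, φ, hinj, hmax, hqf⟩ := exists_quasiFiniteAt_param M hM
  letI := φ.toRingHom.toAlgebra
  let R := MvPolynomial (Fin d) V
  haveI : IsScalarTower V R C := IsScalarTower.of_algebraMap_eq fun r => (φ.commutes r).symm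
  haveI : Algebra.FiniteType R C := Algebra.FiniteType.of_restrictScalars_finiteType V _ _
  haveI : FaithfulSMul R C := (faithfulSMul_iff_algebraMap_injective R C).2 hinj
  haveI := hqf
  obtain ⟨r, hrM, hbij⟩ := Algebra.ZariskisMainProperty.of_finiteType (R := R) M
  have hint : ∀ x, ∃ m, IsIntegral R (r.1 ^ m * x) := by
    have h := (Algebra.zariskisMainProperty_iff (R := R) (p := M)).1
      (Algebra.ZariskisMainProperty.of_finiteType (R := R) M)
    intro x
    have h2 := Localization.awayMap_surjective_iff.1 hbij.2 x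
    obtain ⟨⟨a, ha⟩, m, hm⟩ := h2
    exact ⟨m, hm ▸ ha⟩
  have hr0 : r.1 ≠ 0 := fun h => hrM (h ▸ zero_mem M)
  -- a nonzero polynomial in the ideal of `b`
  obtain ⟨mb, hmb⟩ := hint b
  have hne : (Ideal.span {b}).comap (algebraMap R C) ≠ ⊥ :=
    Ideal.comap_ne_bot_of_algebraic_mem (mul_ne_zero (pow_ne_zero mb hr0) hb)
      (Ideal.mul_mem_left _ _ (Ideal.mem_span_singleton_self b)) hmb.isAlgebraic
  obtain ⟨h, hhb, hh0⟩ := Submodule.exists_mem_ne_zero_of_ne_bot hne
  -- an extension of the valuation ring to an algebraic closure of the fraction field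
  let K := FractionRing V
  let L := AlgebraicClosure K
  let iota : V →+* L := (algebraMap K L).comp (algebraMap V K)
  have hiota : Function.Injective iota :=
    (algebraMap K L).injective.comp (IsFractionRing.injective V K)
  obtain ⟨O, hO, hOloc⟩ := (LocalSubring.range iota).exists_le_valuationSubring
  let j : V →+* O := (Subring.inclusion hO).comp iota.rangeRestrict
  haveI : IsLocalHom j := ⟨fun a ha => by
    have h1 := hOloc.map_nonunit _ ha
    obtain ⟨⟨_, z, rfl⟩, hz⟩ := isUnit_iff_exists_inv.1 h1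
    refine isUnit_iff_exists_inv.2 ⟨z, hiota ?_⟩
    rw [map_mul, map_one]
    exact congrArg Subtype.val hz⟩
  haveI := isAlgClosed_residueField O
  let m₀ := M.comap φ.toRingHom
  haveI := hmax
  letI : Field (R ⧸ m₀) := Ideal.Quotient.field _
  letI : Field (V ⧸ maximalIdeal V) := Ideal.Quotient.field _
  have hm₀ : maximalIdeal V ≤ m₀.comap (algebraMap V R) := by
    rw [Ideal.comap_comap, show φ.toRingHom.comp (algebraMap V R) = algebraMap V C from φ.comp_algebraMap]
    exact hM.ge
  letI : Algebra (V ⧸ maximalIdeal V) (R ⧸ m₀) := (Ideal.quotientMap m₀ (algebraMap V R) hm₀).toAlgebra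
  haveI : IsScalarTower V (V ⧸ maximalIdeal V) (R ⧸ m₀) := IsScalarTower.of_algebraMap_eq fun _ => rfl
  haveI : Algebra.FiniteType (V ⧸ maximalIdeal V) (R ⧸ m₀) :=
    Algebra.FiniteType.of_restrictScalars_finiteType V _ _
  haveI : Module.Finite (V ⧸ maximalIdeal V) (R ⧸ m₀) := finite_of_finite_type_of_isJacobsonRing _ _
  letI : Algebra (V ⧸ maximalIdeal V) (ResidueField O) := (ResidueField.map j).toAlgebra
  let σ : R ⧸ m₀ →ₐ[V ⧸ maximalIdeal V] ResidueField O := IsAlgClosed.lift
  let τ : Fin d → ResidueField O := fun i => σ (Ideal.Quotient.mk m₀ (MvPolynomial.X i))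
  -- infinitely many lifts of every coordinate
  obtain ⟨a, ha, ha0⟩ := Submodule.exists_mem_ne_zero_of_ne_bot
    (IsLocalRing.isField_iff_maximalIdeal_eq.not.1 hV)
  have hinf : ∀ i, ({v : L | ∃ hv : v ∈ O, residue O ⟨v, hv⟩ = τ i}).Infinite := by
    intro i
    obtain ⟨v₀, hv₀⟩ := residue_surjective (τ i)
    refine Set.infinite_of_injective_forall_mem (f := fun k : ℕ => v₀.1 + iota a ^ (k + 1)) ?_ fun k =>
      ⟨(v₀ + j a ^ (k + 1)).2, ?_⟩
    · intro k l hkl
      have h1 := add_left_cancel hkl
      rw [← map_pow, ← map_pow] at h1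
      have h2 := hiota h1
      by_contra hne'
      rcases Nat.lt_or_ge k l with hlt | hge
      · obtain ⟨n, rfl⟩ : ∃ n, l = k + (n + 1) := ⟨l - k - 1, by omega⟩
        rw [show k + (n + 1) + 1 = (k + 1) + (n + 1) by ring, pow_add a (k + 1) (n + 1)] at h2
        have h3 : a ^ (n + 1) = 1 := mul_left_cancel₀ (pow_ne_zero (k + 1) ha0) (by rw [mul_one]; exact h2.symm)
        exact ha (IsUnit.of_mul_eq_one (a ^ n) (by rw [← pow_succ', h3]))
      · obtain ⟨n, rfl⟩ : ∃ n, k = l + (n + 1) := ⟨k - l - 1, by omega⟩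
        rw [show l + (n + 1) + 1 = (l + 1) + (n + 1) by ring, pow_add a (l + 1) (n + 1)] at h2
        have h3 : a ^ (n + 1) = 1 := mul_left_cancel₀ (pow_ne_zero (l + 1) ha0) (by rw [mul_one]; exact h2)
        exact ha (IsUnit.of_mul_eq_one (a ^ n) (by rw [← pow_succ', h3]))
    · show residue O (v₀ + j a ^ (k + 1)) = τ i
      rw [map_add, map_pow, show residue O (j a) = 0 from
        (residue_eq_zero_iff _).2 fun h => ha (IsUnit.of_map j a h), zero_pow (by omega), add_zero, hv₀]
  -- a lift of the closed point avoiding `h`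
  obtain ⟨s, hs, hsh⟩ : ∃ s : Fin d → L, (∀ i, ∃ hv : s i ∈ O, residue O ⟨s i, hv⟩ = τ i) ∧
      MvPolynomial.eval₂ iota s h ≠ 0 := by
    by_contra! hall
    refine hh0 (MvPolynomial.map_injective iota hiota ?_)
    rw [map_zero]
    refine MvPolynomial.funext_set _ hinf fun x hx => ?_
    rw [map_zero, MvPolynomial.eval_map]
    exact hall x fun i => hx i (Set.mem_univ i)
  choose hsO hsτ using hs
  let ev : R →+* O := MvPolynomial.eval₂Hom j fun i => ⟨s i, hsO i⟩
  have hev : ∀ x, (ev x).1 = MvPolynomial.eval₂ iota s x := fun x =>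
    congr($(MvPolynomial.comp_eval₂Hom j (fun i => (⟨s i, hsO i⟩ : O)) O.subtype) x)
  have hevσ : (residue O).comp ev = σ.toRingHom.comp (Ideal.Quotient.mk m₀) := by
    refine MvPolynomial.ringHom_ext (fun x => ?_) fun i => ?_
    · show residue O (ev (MvPolynomial.C x)) = σ (Ideal.Quotient.mk m₀ (MvPolynomial.C x))
      rw [show ev (MvPolynomial.C x) = j x from MvPolynomial.eval₂Hom_C _ _ _]
      exact (σ.commutes (Ideal.Quotient.mk (maximalIdeal V) x)).symm
    · show residue O (ev (MvPolynomial.X i)) = τ i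
      rw [show ev (MvPolynomial.X i) = ⟨s i, hsO i⟩ from MvPolynomial.eval₂Hom_X' _ _ _]
      exact hsτ i
  let P : Ideal R := RingHom.ker ev
  haveI : P.IsPrime := RingHom.ker_isPrime _
  have hPm : P ≤ m₀ := fun x hx => Ideal.Quotient.eq_zero_iff_mem.1 (σ.toRingHom.injective (by
    rw [map_zero]
    exact (congr($hevσ x)).symm.trans (by rw [RingHom.comp_apply, RingHom.mem_ker.1 hx, map_zero])))
  -- going down in the integral closure
  haveI : IsIntegrallyClosed V :=
    IsIntegrallyClosed.of_equiv (ValuationRing.equivInteger V K).symm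
  haveI := isIntegrallyClosed_mvPolynomial V d
  let C' := integralClosure R C
  haveI : FaithfulSMul R C' := (faithfulSMul_iff_algebraMap_injective R C').2 fun x y hxy =>
    hinj (congrArg Subtype.val hxy)
  haveI : (M.comap C'.val.toRingHom).LiesOver m₀ := ⟨by
    show m₀ = (M.comap C'.val.toRingHom).comap (algebraMap R C')
    rw [Ideal.comap_comap]; rfl⟩
  obtain ⟨P', hP'Q, hP', hP'P⟩ :=
    Ideal.exists_ideal_le_liesOver_of_le (S := C') (M.comap C'.val.toRingHom) hPm
  haveI := hP'
  obtain ⟨F, _, π, hπ⟩ : ∃ (F : Type u) (_ : Field F) (π : C' →+* F), ∀ c, π c = 0 ↔ c ∈ P' :=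
    ⟨FractionRing (C' ⧸ P'), inferInstance, (algebraMap (C' ⧸ P') _).comp (Ideal.Quotient.mk P'), fun c => by
      rw [RingHom.comp_apply, map_eq_zero_iff _ (IsFractionRing.injective (C' ⧸ P') _),
        Ideal.Quotient.eq_zero_iff_mem]⟩
  have hπr : π r ≠ 0 := fun h => hrM (hP'Q ((hπ r).1 h))
  obtain ⟨ψ, hψ'⟩ := exists_lift_away C'.val.toRingHom r hbij π hπr.isUnit
  have hψ : ∀ c : C', ψ c.1 = π c := fun c => congr($hψ' c)
  have hψφ : ∀ x, ψ (φ x) = π (algebraMap R C' x) := fun x => hψ (algebraMap R C' x)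
  have hPker : ∀ x, ψ (φ x) = 0 ↔ x ∈ P := fun x => by
    rw [hψφ, hπ, hP'P.over]
    rfl
  refine ⟨RingHom.ker ψ, RingHom.ker_isPrime _, ?_, ?_, ?_, ?_⟩
  · intro x hx
    obtain ⟨m, hm⟩ := hint x
    have h1 : π ⟨r.1 ^ m * x, hm⟩ = 0 := by
      rw [← hψ, map_mul, RingHom.mem_ker.1 hx, mul_zero]
    exact (Ideal.IsPrime.mem_or_mem (inferInstance : M.IsPrime)
      (show r.1 ^ m * x ∈ M from hP'Q ((hπ _).1 h1))).resolve_left
      fun h2 => hrM (Ideal.IsPrime.mem_of_pow_mem (inferInstance : M.IsPrime) m h2)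
  · intro hbψ
    obtain ⟨c, hc⟩ := Ideal.mem_span_singleton'.1 (Ideal.mem_comap.1 hhb)
    have : h ∈ P := (hPker h).1 (by
      rw [show φ h = c * b from hc.symm, map_mul, RingHom.mem_ker.1 hbψ, mul_zero])
    exact hsh (by rw [← hev, RingHom.mem_ker.1 this]; rfl)
  · refine eq_bot_iff.2 fun x hx => ?_
    have h1 : algebraMap V R x ∈ P := (hPker _).1 (by
      rw [AlgHom.commutes]; exact hx)
    have h2 : j x = 0 := (MvPolynomial.eval₂Hom_C j (fun i => (⟨s i, hsO i⟩ : O)) x).symm.trans h1
    exact hiota ((congrArg Subtype.val h2).trans (map_zero iota).symm)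
  · have hVF : Function.Injective (ψ.comp (algebraMap V C)) := by
      refine (injective_iff_map_eq_zero _).2 fun x hx => hiota ?_
      have h1 : algebraMap V R x ∈ P := (hPker _).1 (by rw [AlgHom.commutes]; exact hx)
      have h2 : j x = 0 := (MvPolynomial.eval₂Hom_C j (fun i => (⟨s i, hsO i⟩ : O)) x).symm.trans h1
      exact (congrArg Subtype.val h2).trans (map_zero iota).symm
    letI : Algebra V F := (ψ.comp (algebraMap V C)).toAlgebra
    letI : Algebra K F := (IsFractionRing.lift (K := K) hVF).toAlgebra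
    haveI : IsScalarTower V K F :=
      IsScalarTower.of_algebraMap_eq fun x => (IsFractionRing.lift_algebraMap hVF x).symm
    haveI : IsScalarTower V K L := IsScalarTower.of_algebraMap_eq fun _ => rfl
    let ψa : C →ₐ[V] F := { ψ with commutes' := fun _ => rfl }
    let E := algebraicClosure K F
    have hXi : ∀ i, ψ (φ (MvPolynomial.X i)) ∈ E := by
      intro i
      rw [mem_algebraicClosure_iff]
      obtain ⟨p, hp0, hp⟩ := (IsFractionRing.isAlgebraic_iff V K L).2
        (Algebra.IsAlgebraic.isAlgebraic (R := K) (s i))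
      refine (IsFractionRing.isAlgebraic_iff V K F).1 ⟨p, hp0, ?_⟩
      have h1 : Polynomial.aeval (MvPolynomial.X i : R) p ∈ P := by
        refine Subtype.ext ?_
        rw [hev]
        show MvPolynomial.eval₂Hom iota s _ = (0 : L)
        rw [Polynomial.aeval_def, Polynomial.hom_eval₂, MvPolynomial.eval₂Hom_X']
        rw [Polynomial.aeval_def] at hp
        rw [show (MvPolynomial.eval₂Hom iota s).comp (algebraMap V R) = algebraMap V L from
          RingHom.ext fun x => MvPolynomial.eval₂Hom_C iota s x]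
        exact hp
      have h2 := (hPker _).2 h1
      rw [← Polynomial.aeval_algHom_apply φ] at h2
      rw [show ψ (φ (MvPolynomial.X i)) = ψa (φ (MvPolynomial.X i)) from rfl, Polynomial.aeval_algHom_apply]
      exact h2
    have hR : ∀ x : R, ψ (φ x) ∈ E := fun x => by
      induction x using MvPolynomial.induction_on with
      | C a =>
        show ψ (φ (algebraMap V R a)) ∈ E
        rw [AlgHom.commutes]
        show algebraMap V F a ∈ E
        rw [IsScalarTower.algebraMap_apply V K F]
        exact E.algebraMap_mem _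
      | add p q hp hq => rw [map_add, map_add]; exact add_mem hp hq
      | mul_X p i hp => rw [map_mul, map_mul]; exact mul_mem hp (hXi i)
    let ρ : R →+* E := (ψ.comp φ.toRingHom).codRestrict E hR
    have hC' : ∀ c : C', π c ∈ E := fun c => by
      obtain ⟨p, hp, hpc⟩ := c.2
      have h1 : IsIntegral E (π c) := by
        refine ⟨p.map ρ, hp.map _, ?_⟩
        rw [Polynomial.eval₂_map, ← hψ]
        have := congrArg ψ hpc
        rw [Polynomial.hom_eval₂, map_zero] at this
        exact this
      exact (mem_algebraicClosure_iff).2 ((isIntegral_trans (R := K) (π c) h1).isAlgebraic)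
    intro x
    obtain ⟨m, hm⟩ := hint x
    have hx : ψ x ∈ E := by
      have h1 : π r ^ m * ψ x = π ⟨r.1 ^ m * x, hm⟩ := by rw [← hψ, ← hψ, map_mul, map_pow]
      rw [show ψ x = π ⟨r.1 ^ m * x, hm⟩ * (π r ^ m)⁻¹ by
        rw [← h1, mul_comm (π r ^ m), mul_inv_cancel_right₀ (pow_ne_zero _ hπr)]]
      exact mul_mem (hC' _) (inv_mem (pow_mem (hC' _) _))
    obtain ⟨p, hp0, hp⟩ := (IsFractionRing.isAlgebraic_iff V K F).2 (mem_algebraicClosure_iff.1 hx)
    refine ⟨p, hp0, ?_⟩
    rw [RingHom.mem_ker, show ψ (Polynomial.aeval x p) = ψa (Polynomial.aeval x p) from rfl,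
      ← Polynomial.aeval_algHom_apply]
    exact hp

end

/-- A prime closed in the generic fibre below a prime closed in its fibre over a nonzero prime. -/
theorem exists_closed_prime_between {A B : Type u} [CommRing A] [CommRing B] [IsDomain A] [IsDomain B]
    [Algebra A B] [Algebra.FiniteType A B] [FaithfulSMul A B] (q' : Ideal B) [q'.IsPrime]
    (hne : q'.under A ≠ ⊥)
    (hmax : ∀ q : Ideal B, q.IsPrime → q' ≤ q → q.under A = q'.under A → q = q')
    (b : B) (hb : b ≠ 0) :
    ∃ q : Ideal B, q.IsPrime ∧ q ≤ q' ∧ b ∉ q ∧ q.under A = ⊥ ∧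
      ∀ q₂ : Ideal B, q₂.IsPrime → q ≤ q₂ → q₂.under A = ⊥ → q₂ = q := by
  classical
  let K := FractionRing A
  let L := FractionRing B
  have hAL : Function.Injective ((algebraMap B L).comp (algebraMap A B)) :=
    (IsFractionRing.injective B L).comp (FaithfulSMul.algebraMap_injective A B)
  have hunit : ∀ y : q'.primeCompl, IsUnit (algebraMap B L y) := fun y => IsUnit.mk0 _ fun h => y.2 (by
    rw [map_eq_zero_iff _ (IsFractionRing.injective B L)] at h
    rw [h]; exact zero_mem _)
  let l : Localization.AtPrime q' →+* L := IsLocalization.lift (S := Localization.AtPrime q') hunit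
  obtain ⟨W, hW, hWloc⟩ := (LocalSubring.range l).exists_le_valuationSubring
  have hl : ∀ x, l (algebraMap B _ x) = algebraMap B L x := fun x => IsLocalization.lift_eq hunit x
  have hBW : ∀ x : B, algebraMap B L x ∈ W := fun x => hW ⟨algebraMap B _ x, hl x⟩
  let ω : B →+* W := (algebraMap B L).codRestrict W hBW
  have hω : ∀ x, x ∈ q' ↔ ω x ∈ maximalIdeal W := by
    intro x
    let y : (LocalSubring.range l).toSubring :=
      ⟨algebraMap B L x, algebraMap B _ x, hl x⟩
    have h1 : IsUnit (algebraMap B (Localization.AtPrime q') x) ↔ x ∉ q' :=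
      IsLocalization.AtPrime.isUnit_to_map_iff _ q' x
    have h2 : IsUnit (ω x) ↔ IsUnit y := ⟨fun h => hWloc.map_nonunit y h, fun h => h.map (Subring.inclusion hW)⟩
    have h3 : IsUnit y ↔ x ∉ q' := by
      refine ⟨fun h => h1.1 ?_, fun h => ?_⟩
      · obtain ⟨⟨_, z, rfl⟩, hz⟩ := isUnit_iff_exists_inv.1 h
        refine isUnit_iff_exists_inv.2 ⟨z, ?_⟩
        have hinj : Function.Injective l := by
          refine (IsLocalization.lift_injective_iff _).2 fun a c => ?_
          rw [(IsLocalization.injective (Localization.AtPrime q')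
            (Ideal.primeCompl_le_nonZeroDivisors q')).eq_iff, (IsFractionRing.injective B L).eq_iff]
        refine hinj ?_
        rw [map_mul, map_one, hl]
        exact congrArg Subtype.val hz
      · obtain ⟨z, hz⟩ := isUnit_iff_exists_inv.1 (h1.2 h)
        refine isUnit_iff_exists_inv.2 ⟨⟨l z, z, rfl⟩, Subtype.ext ?_⟩
        show algebraMap B L x * l z = 1
        rw [← hl, ← map_mul, hz, map_one]
    rw [mem_maximalIdeal, mem_nonunits_iff, h2, h3, not_not]
  letI : Algebra K L := (IsFractionRing.lift (K := K) hAL).toAlgebra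
  letI : Algebra A L := ((algebraMap B L).comp (algebraMap A B)).toAlgebra
  have hAK : ∀ x, algebraMap K L (algebraMap A K x) = algebraMap A L x := fun x =>
    IsFractionRing.lift_algebraMap hAL x
  let O := W.comap (algebraMap K L)
  obtain ⟨t, ht⟩ := Algebra.FiniteType.out (R := A) (A := B)
  letI : Algebra O L := ((algebraMap K L).comp O.subtype).toAlgebra
  let Cs := Algebra.adjoin O ((t.image (algebraMap B L) : Finset L) : Set L)
  haveI : Algebra.FiniteType O Cs :=
    (Subalgebra.fg_iff_finiteType _).1 (Subalgebra.fg_adjoin_finset _)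
  haveI : FaithfulSMul O Cs := (faithfulSMul_iff_algebraMap_injective O Cs).2 fun x y hxy =>
    Subtype.ext ((algebraMap K L).injective (congrArg Subtype.val hxy))
  have hOW : ∀ x : O, algebraMap O L x ∈ W := fun x => x.2
  have hCW : ∀ z ∈ Cs, z ∈ W := fun z hz => by
    induction hz using Algebra.adjoin_induction with
    | mem z hz =>
      obtain ⟨y, -, rfl⟩ := Finset.mem_image.1 hz
      exact hBW y
    | algebraMap x => exact hOW x
    | add x y _ _ hx hy => exact add_mem hx hy
    | mul x y _ _ hx hy => exact mul_mem hx hy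
  let κ : Cs →+* W := Cs.toSubring.subtype.codRestrict W fun z => hCW z.1 z.2
  have hAO : ∀ x : A, algebraMap A K x ∈ O := fun x => by
    show algebraMap K L (algebraMap A K x) ∈ W
    rw [hAK]; exact hBW _
  have hBC : ∀ x : B, algebraMap B L x ∈ Cs := fun x => by
    have hx : x ∈ Algebra.adjoin A (t : Set B) := ht ▸ Algebra.mem_top
    induction hx using Algebra.adjoin_induction with
    | mem z hz => exact Algebra.subset_adjoin (Finset.mem_image_of_mem _ hz)
    | algebraMap x =>
      have : algebraMap B L (algebraMap A B x) = algebraMap O L ⟨algebraMap A K x, hAO x⟩ := (hAK x).symm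
      rw [this]
      exact Subalgebra.algebraMap_mem _ _
    | add x y _ _ hx hy => rw [map_add]; exact add_mem hx hy
    | mul x y _ _ hx hy => rw [map_mul]; exact mul_mem hx hy
  let i : B →+* Cs := (algebraMap B L).codRestrict Cs.toSubring hBC
  let Q₀ : Ideal Cs := (maximalIdeal W).comap κ
  haveI : Q₀.IsPrime := Ideal.IsPrime.comap κ
  obtain ⟨M, hMmax, hQM, hMO⟩ : ∃ M : Ideal Cs, M.IsMaximal ∧ Q₀ ≤ M ∧ M.under O = maximalIdeal O := by
    obtain ⟨M, hM, hle⟩ := Ideal.exists_le_maximal Q₀ (Ideal.IsPrime.ne_top ‹_›)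
    haveI := hM
    refine ⟨M, hM, hle, le_antisymm (le_maximalIdeal (Ideal.IsPrime.ne_top inferInstance)) fun x hx => ?_⟩
    refine hle ?_
    show κ (algebraMap O Cs x) ∈ maximalIdeal W
    rw [mem_maximalIdeal, mem_nonunits_iff] at hx ⊢
    intro hu
    refine hx ?_
    obtain ⟨w, hw⟩ := isUnit_iff_exists_inv.1 hu
    have hw' : algebraMap K L x.1 * w.1 = 1 := congrArg Subtype.val hw
    have hw2 : w.1 = algebraMap K L x.1⁻¹ := by
      rw [map_inv₀]; exact eq_inv_of_mul_eq_one_right hw'
    have hx0 : x.1 ≠ 0 := fun h0 => by rw [h0, map_zero, zero_mul] at hw'; exact zero_ne_one hw'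
    exact isUnit_iff_exists_inv.2 ⟨⟨x.1⁻¹, show algebraMap K L x.1⁻¹ ∈ W from hw2 ▸ w.2⟩,
      Subtype.ext (mul_inv_cancel₀ hx0)⟩
  haveI := hMmax
  have hiM : M.comap i = q' := by
    refine hmax _ (Ideal.IsPrime.comap i) (fun x hx => hQM ((hω x).1 hx)) (le_antisymm ?_ ?_)
    · intro x hx
      show algebraMap A B x ∈ q'
      rw [hω]
      have hix : algebraMap O Cs ⟨algebraMap A K x, hAO x⟩ = i (algebraMap A B x) := Subtype.ext (hAK x)
      have h1 : (⟨algebraMap A K x, hAO x⟩ : O) ∈ maximalIdeal O := hMO ▸ (by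
        show algebraMap O Cs ⟨algebraMap A K x, hAO x⟩ ∈ M
        rw [hix]; exact hx)
      rw [mem_maximalIdeal, mem_nonunits_iff] at h1 ⊢
      intro hu
      refine h1 ?_
      obtain ⟨w, hw⟩ := isUnit_iff_exists_inv.1 hu
      have hw' : algebraMap K L (algebraMap A K x) * w.1 = 1 := (hAK x).symm ▸ congrArg Subtype.val hw
      have hw2 : w.1 = algebraMap K L (algebraMap A K x)⁻¹ := by
        rw [map_inv₀]; exact eq_inv_of_mul_eq_one_right hw'
      have hx0 : algebraMap A K x ≠ 0 := fun h0 => by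
        rw [h0, map_zero, zero_mul] at hw'; exact zero_ne_one hw'
      exact isUnit_iff_exists_inv.2
        ⟨⟨(algebraMap A K x)⁻¹, show algebraMap K L _ ∈ W from hw2 ▸ w.2⟩, Subtype.ext (mul_inv_cancel₀ hx0)⟩
    · intro x hx
      exact hQM ((hω _).1 hx)
  obtain ⟨a₀, ha₀, ha₀0⟩ := Submodule.exists_mem_ne_zero_of_ne_bot hne
  have hO : ¬ IsField O := fun h => by
    obtain ⟨z, hz⟩ := h.mul_inv_cancel (a := ⟨algebraMap A K a₀, hAO a₀⟩) fun h0 =>
      ha₀0 (IsFractionRing.injective A K ((congrArg Subtype.val h0).trans (map_zero _).symm))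
    have hu : IsUnit (⟨algebraMap A K a₀, hAO a₀⟩ : O) := isUnit_iff_exists_inv.2 ⟨z, hz⟩
    refine (maximalIdeal.isMaximal W).ne_top (Ideal.eq_top_of_isUnit_mem _ ((hω _).1 ha₀) ?_)
    have := hu.map (((algebraMap K L).comp O.subtype).codRestrict W fun y => hOW y)
    convert this using 1
    exact Subtype.ext (hAK a₀).symm
  have hib : i b ≠ 0 := fun h => hb (IsFractionRing.injective B L
    ((congrArg Subtype.val h).trans (map_zero _).symm))
  obtain ⟨q, hq, hqM, hbq, hqO, halg⟩ := exists_algebraic_prime_le hO M hMO (i b) hib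
  haveI := hq
  have hqA : (q.comap i).under A = ⊥ := eq_bot_iff.2 fun x hx => by
    have h1 : (⟨algebraMap A K x, hAO x⟩ : O) ∈ q.comap (algebraMap O Cs) := by
      show algebraMap O Cs _ ∈ q
      convert (show i (algebraMap A B x) ∈ q from hx) using 1
      exact Subtype.ext (hAK x)
    rw [hqO] at h1
    exact IsFractionRing.injective A K ((congrArg Subtype.val h1).trans (map_zero _).symm)
  refine ⟨q.comap i, Ideal.IsPrime.comap i, fun x hx => hiM ▸ hqM hx, hbq, hqA, fun q₂ hq₂ hle h₂ => ?_⟩
  refine le_antisymm (fun x hx => by_contra fun hxq => ?_) hle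
  -- every element is algebraic over `A` modulo `q`
  have hOQ : Function.Injective ((Ideal.Quotient.mk q).comp (algebraMap O Cs)) :=
    (injective_iff_map_eq_zero _).2 fun y hy => by
      have : y ∈ q.comap (algebraMap O Cs) :=
        Ideal.mem_comap.2 (Ideal.Quotient.eq_zero_iff_mem.1 hy)
      rwa [hqO] at this
  let F := FractionRing (Cs ⧸ q)
  let ι : B →+* F := ((algebraMap (Cs ⧸ q) F).comp (Ideal.Quotient.mk q)).comp i
  have hι : RingHom.ker ι = q.comap i := by
    ext y
    rw [RingHom.mem_ker, RingHom.comp_apply, RingHom.comp_apply,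
      map_eq_zero_iff _ (IsFractionRing.injective (Cs ⧸ q) F), Ideal.Quotient.eq_zero_iff_mem]
    rfl
  letI : Algebra A F := (ι.comp (algebraMap A B)).toAlgebra
  have hAF : Function.Injective (algebraMap A F) := (injective_iff_map_eq_zero _).2 fun y hy => by
    have : y ∈ (q.comap i).under A := hι ▸ RingHom.mem_ker.2 hy
    rwa [hqA] at this
  letI : Algebra K F := (IsFractionRing.lift (K := K) hAF).toAlgebra
  haveI : IsScalarTower A K F :=
    IsScalarTower.of_algebraMap_eq fun y => (IsFractionRing.lift_algebraMap hAF y).symm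
  obtain ⟨p, hp0, hp⟩ := halg (i x)
  have hOF : ((algebraMap (Cs ⧸ q) F).comp (Ideal.Quotient.mk q)).comp (algebraMap O Cs) =
      (algebraMap K F).comp O.subtype := by
    refine RingHom.ext fun y => ?_
    obtain ⟨n, d, hd, hy⟩ := IsFractionRing.div_surjective (A := A) y.1
    have hd0 : algebraMap A K d ≠ 0 :=
      IsFractionRing.to_map_ne_zero_of_mem_nonZeroDivisors hd
    let Θ := ((algebraMap (Cs ⧸ q) F).comp (Ideal.Quotient.mk q)).comp (algebraMap O Cs)
    have hΘA : ∀ z : A, Θ ⟨algebraMap A K z, hAO z⟩ = algebraMap A F z := fun z =>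
      congrArg ((algebraMap (Cs ⧸ q) F).comp (Ideal.Quotient.mk q)) (Subtype.ext (hAK z))
    have hmul : y * ⟨algebraMap A K d, hAO d⟩ = ⟨algebraMap A K n, hAO n⟩ :=
      Subtype.ext (by show y.1 * algebraMap A K d = _; rw [← hy, div_mul_cancel₀ _ hd0])
    have h1 := congrArg Θ hmul
    rw [map_mul, hΘA, hΘA] at h1
    show Θ y = algebraMap K F y.1
    rw [← hy, map_div₀, ← IsScalarTower.algebraMap_apply, ← IsScalarTower.algebraMap_apply, ← h1,
      mul_div_cancel_right₀ _ ((map_ne_zero_iff _ hAF).2 (nonZeroDivisors.ne_zero hd))]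
  have halgK : IsAlgebraic K (ι x) := by
    refine ⟨p.map O.subtype, (Polynomial.map_ne_zero_iff (fun a c h => Subtype.ext h)).2 hp0, ?_⟩
    rw [Polynomial.aeval_def, Polynomial.eval₂_map, ← hOF]
    show Polynomial.eval₂ _ (((algebraMap (Cs ⧸ q) F).comp (Ideal.Quotient.mk q)) (i x)) p = 0
    rw [← Polynomial.hom_eval₂, RingHom.comp_apply, ← Polynomial.aeval_def,
      Ideal.Quotient.eq_zero_iff_mem.2 hp, map_zero]
  obtain ⟨pA, hpA0, hpA⟩ := (IsFractionRing.isAlgebraic_iff A K F).2 halgK
  let q₁ := q.comap i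
  haveI : q₁.IsPrime := Ideal.IsPrime.comap i
  have hne' : (q₂.map (Ideal.Quotient.mk q₁)).comap (algebraMap A (B ⧸ q₁)) ≠ ⊥ := by
    refine Ideal.comap_ne_bot_of_algebraic_mem (x := Ideal.Quotient.mk q₁ x) ?_
      (Ideal.mem_map_of_mem _ hx) ⟨pA, hpA0, ?_⟩
    · rwa [Ne, Ideal.Quotient.eq_zero_iff_mem]
    · rw [show Ideal.Quotient.mk q₁ x = Ideal.Quotient.mkₐ A q₁ x from rfl,
        Polynomial.aeval_algHom_apply, Ideal.Quotient.mkₐ_eq_mk, Ideal.Quotient.eq_zero_iff_mem]
      show Polynomial.aeval x pA ∈ q.comap i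
      rw [← hι, RingHom.mem_ker, Polynomial.aeval_def, Polynomial.hom_eval₂]
      exact hpA
  refine hne' ?_
  rw [show algebraMap A (B ⧸ q₁) = (Ideal.Quotient.mk q₁).comp (algebraMap A B) from rfl,
    ← Ideal.comap_comap, Ideal.comap_map_mk hle]
  exact h₂

end Groth.Agent.FlatH4
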