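import Groth.Agent.Lib.FlatH4.FibreCritApps
import Mathlib.RingTheory.Localization.BaseChange

/-!
# The fibrewise criterion of flatness for essentially finitely presented local algebras
-/

universe u

namespace Groth.Agent.FlatH4

open TensorProduct LinearMap

/-- A finitely presented module over a localization comes from a finitely presented module. -/
theorem exists_localized_presentation {T S' M : Type u} [CommRing T] [CommRing S'] [Algebra T S']
    (U : Submonoid T) [IsLocalization U S'] [AddCommGroup M] [Module S' M] [Module T M]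
    [IsScalarTower T S' M] [Module.FinitePresentation S' M] :
    ∃ (M₀ : Type u) (_ : AddCommGroup M₀) (_ : Module T M₀) (g : M₀ →ₗ[T] M),
      Module.FinitePresentation T M₀ ∧ IsLocalizedModule U g := by
  classical
  obtain ⟨k, K, e, hK⟩ := Module.FinitePresentation.exists_fin S' M
  obtain ⟨G, hG⟩ := hK
  -- clear denominators in the relations
  have hcol : ∀ v : G, ∃ (w : Fin k → T) (u : U), ∀ i, algebraMap T S' (w i) = algebraMap T S' u * v.1 i := by
    intro v
    obtain ⟨u, hu⟩ := IsLocalization.exist_integer_multiples U (Finset.univ : Finset (Fin k)) v.1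
    choose w hw using fun i => hu i (Finset.mem_univ i)
    refine ⟨w, u, fun i => ?_⟩
    rw [hw i, Algebra.smul_def]
  choose w u hw using hcol
  let K₀ : Submodule T (Fin k → T) := Submodule.span T (Set.range w)
  let c : (Fin k → T) →ₗ[T] (Fin k → S') :=
    LinearMap.pi fun i => (Algebra.linearMap T S').comp (LinearMap.proj i)
  let q : (Fin k → S') →ₗ[S'] M := e.symm.toLinearMap.comp K.mkQ
  have hq : ∀ v, q v = 0 ↔ v ∈ K := fun v => by simp [q]
  let g' : (Fin k → T) →ₗ[T] M := (q.restrictScalars T).comp c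
  have hle : K₀ ≤ LinearMap.ker g' := by
    rw [Submodule.span_le]
    rintro _ ⟨v, rfl⟩
    show q (c (w v)) = 0
    rw [hq, show c (w v) = algebraMap T S' (u v) • (v : Fin k → S') from funext fun i => hw v i]
    exact K.smul_mem _ (hG.le (Submodule.subset_span v.2))
  refine ⟨(Fin k → T) ⧸ K₀, inferInstance, inferInstance, K₀.liftQ g' hle, ?_, ⟨?_, ?_, ?_⟩⟩
  · exact Module.finitePresentation_of_surjective K₀.mkQ K₀.mkQ_surjective
      (by rw [Submodule.ker_mkQ]; exact Submodule.fg_span (Set.finite_range w))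
  · intro x
    rw [Module.End.isUnit_iff]
    obtain ⟨y, hy⟩ := (IsLocalization.map_units S' x).exists_left_inv
    refine ⟨fun a b hab => ?_, fun b => ⟨y • b, ?_⟩⟩
    · have h : algebraMap T S' x • a = algebraMap T S' x • b := by
        rw [algebraMap_smul, algebraMap_smul]
        exact hab
      have := congrArg (fun z => y • z) h
      simpa only [smul_smul, hy, one_smul] using this
    · show (x : T) • y • b = b
      rw [← algebraMap_smul S' (x : T), smul_smul, mul_comm, hy, one_smul]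
  · intro m
    obtain ⟨v, rfl⟩ : ∃ v, q v = m := by
      obtain ⟨v, hv⟩ := K.mkQ_surjective (e m)
      exact ⟨v, by simp [q, hv]⟩
    obtain ⟨d, hd⟩ := IsLocalization.exist_integer_multiples U (Finset.univ : Finset (Fin k)) v
    choose a ha using fun i => hd i (Finset.mem_univ i)
    refine ⟨(Submodule.Quotient.mk a, d), ?_⟩
    show (d : T) • q v = q (c a)
    rw [← LinearMap.map_smul_of_tower]
    congr 1
    funext i
    exact (ha i).symm
  · intro x₁ x₂ hx
    obtain ⟨a, rfl⟩ := Submodule.Quotient.mk_surjective _ x₁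
    obtain ⟨b, rfl⟩ := Submodule.Quotient.mk_surjective _ x₂
    have hmem : c (a - b) ∈ Submodule.span S' (G : Set (Fin k → S')) := by
      rw [hG, ← hq, map_sub, map_sub, sub_eq_zero]
      exact hx
    suffices ∀ z ∈ Submodule.span S' (G : Set (Fin k → S')),
        ∃ d : U, ∃ r ∈ K₀, c r = algebraMap T S' d • z by
      obtain ⟨d, r, hr, hr'⟩ := this _ hmem
      have hz : ∀ i, ∃ t : U, (t : T) * r i = (t : T) * ((d : T) * (a - b) i) := fun i => by
        have hi : algebraMap T S' (r i) = algebraMap T S' ((d : T) * (a - b) i) := by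
          rw [map_mul]
          exact congrFun hr' i
        exact (IsLocalization.exists_of_eq (M := U) hi)
      choose t ht using hz
      refine ⟨(∏ i, t i) * d, ?_⟩
      rw [← Submodule.Quotient.mk_smul, ← Submodule.Quotient.mk_smul, Submodule.Quotient.eq,
        ← smul_sub]
      rw [Submonoid.smul_def, show (((∏ i, t i) * d : U) : T) • (a - b) = ((∏ i, t i : U) : T) • r from funext fun i => ?_]
      · exact K₀.smul_mem _ hr
      · simp only [Pi.smul_apply, smul_eq_mul, Submonoid.coe_mul]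
        rw [← Finset.prod_erase_mul _ _ (Finset.mem_univ i), Submonoid.coe_mul]
        linear_combination (-(((Finset.univ.erase i).prod t : U) : T)) * ht i
    intro z hz
    induction hz using Submodule.span_induction with
    | mem z hz => exact ⟨u ⟨z, hz⟩, w ⟨z, hz⟩, Submodule.subset_span ⟨_, rfl⟩, funext fun i => hw ⟨z, hz⟩ i⟩
    | zero => exact ⟨1, 0, zero_mem _, by simp⟩
    | add y z _ _ hy hz =>
      obtain ⟨d₁, r₁, hr₁, e₁⟩ := hy
      obtain ⟨d₂, r₂, hr₂, e₂⟩ := hz
      refine ⟨d₁ * d₂, (d₂ : T) • r₁ + (d₁ : T) • r₂,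
        add_mem (K₀.smul_mem _ hr₁) (K₀.smul_mem _ hr₂), ?_⟩
      rw [map_add, map_smul, map_smul, e₁, e₂, ← algebraMap_smul S' (d₂ : T) (algebraMap T S' d₁ • y),
        ← algebraMap_smul S' (d₁ : T) (algebraMap T S' d₂ • z), smul_smul, smul_smul, smul_add,
        Submonoid.coe_mul, map_mul, mul_comm (algebraMap T S' d₂)]
    | smul s z _ hz =>
      obtain ⟨d, r, hr, hdr⟩ := hz
      obtain ⟨⟨t, d'⟩, hs⟩ := IsLocalization.surj U s
      refine ⟨d' * d, t • r, K₀.smul_mem _ hr, ?_⟩
      rw [map_smul, hdr, ← algebraMap_smul S' t, smul_smul, smul_smul, ← hs, Submonoid.coe_mul, map_mul]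
      congr 1
      ring

/-- A local algebra essentially of finite presentation, seen over a finitely generated algebra
mapping to it. -/
theorem exists_algebra_localization {R S₀ S'₀ S' : Type u} [CommRing R] [CommRing S₀] [CommRing S'₀]
    [CommRing S'] [Algebra R S₀] [Algebra R S'₀] [Algebra R S'] [Algebra S'₀ S']
    [IsScalarTower R S'₀ S'] [Algebra.FinitePresentation R S₀] [Algebra.FinitePresentation R S'₀]
    (U : Submonoid S'₀) [IsLocalization U S'] (φ : S₀ →ₐ[R] S') :
    ∃ (T : Type u) (_ : CommRing T) (_ : Algebra R T) (_ : Algebra S₀ T) (_ : Algebra T S')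
      (_ : IsScalarTower R S₀ T) (_ : IsScalarTower R T S') (V : Submonoid T),
      Algebra.FinitePresentation R T ∧ IsLocalization V S' ∧
        ∀ s, algebraMap T S' (algebraMap S₀ T s) = φ s := by
  classical
  obtain ⟨Y, hY⟩ := (inferInstance : Algebra.FiniteType R S₀).out
  choose x hx using fun y : Y => IsLocalization.surj U (φ y.1)
  let rel : Y → S₀ ⊗[R] S'₀ := fun y =>
    ((y : S₀) ⊗ₜ[R] ((x y).2 : S'₀)) - (1 : S₀) ⊗ₜ[R] (x y).1
  let J : Ideal (S₀ ⊗[R] S'₀) := Ideal.span (Set.range rel)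
  let α : S₀ ⊗[R] S'₀ →ₐ[R] S' :=
    Algebra.TensorProduct.lift φ (IsScalarTower.toAlgHom R S'₀ S') fun _ _ => Commute.all _ _
  have hJ : ∀ z ∈ J, α z = 0 := fun z hz => by
    show z ∈ RingHom.ker α.toRingHom
    refine Ideal.span_le.2 ?_ hz
    rintro _ ⟨y, rfl⟩
    show α (rel y) = 0
    simp [rel, α, hx y]
  let α' : (S₀ ⊗[R] S'₀) ⧸ J →ₐ[R] S' := Ideal.Quotient.liftₐ J α hJ
  haveI : Algebra.FinitePresentation R (S₀ ⊗[R] S'₀) := Algebra.FinitePresentation.trans R S₀ _
  letI : Algebra ((S₀ ⊗[R] S'₀) ⧸ J) S' := α'.toRingHom.toAlgebra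
  let ι : S'₀ →ₐ[R] (S₀ ⊗[R] S'₀) ⧸ J :=
    (Ideal.Quotient.mkₐ R J).comp Algebra.TensorProduct.includeRight
  have hι : ∀ b, α' (ι b) = algebraMap S'₀ S' b := fun b => by
    show α ((1 : S₀) ⊗ₜ b) = _
    simp [α]
  have key : ∀ t : (S₀ ⊗[R] S'₀) ⧸ J, ∃ m ∈ U, ∃ a, ι m * t = ι a := by
    intro t
    obtain ⟨t, rfl⟩ := Ideal.Quotient.mk_surjective t
    induction t using TensorProduct.induction_on with
    | zero => exact ⟨1, U.one_mem, 0, by simp⟩
    | add t t' h h' =>
      obtain ⟨m, hm, a, ha⟩ := h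
      obtain ⟨m', hm', a', ha'⟩ := h'
      refine ⟨m * m', U.mul_mem hm hm', m' * a + m * a', ?_⟩
      rw [map_add, map_add, map_mul, map_mul, map_mul, ← ha, ← ha']
      ring
    | tmul s b =>
      suffices ∃ m ∈ U, ∃ a, ι m * Ideal.Quotient.mk J (s ⊗ₜ 1) = ι a by
        obtain ⟨m, hm, a, ha⟩ := this
        refine ⟨m, hm, a * b, ?_⟩
        rw [map_mul ι a b, ← ha, show s ⊗ₜ[R] b = (s ⊗ₜ (1 : S'₀)) * ((1 : S₀) ⊗ₜ b) by simp, map_mul,
          mul_assoc]
        rfl
      have hs : s ∈ Algebra.adjoin R (Y : Set S₀) := hY ▸ trivial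
      induction hs using Algebra.adjoin_induction with
      | mem y hy =>
        refine ⟨(x ⟨y, hy⟩).2, (x ⟨y, hy⟩).2.2, (x ⟨y, hy⟩).1, ?_⟩
        show Ideal.Quotient.mk J ((1 : S₀) ⊗ₜ _) * Ideal.Quotient.mk J (y ⊗ₜ 1) =
          Ideal.Quotient.mk J ((1 : S₀) ⊗ₜ _)
        rw [← map_mul, Ideal.Quotient.eq, Algebra.TensorProduct.tmul_mul_tmul, one_mul, mul_one]
        exact Ideal.subset_span ⟨⟨y, hy⟩, rfl⟩
      | algebraMap r =>
        refine ⟨1, U.one_mem, algebraMap R S'₀ r, ?_⟩
        rw [map_one, one_mul, AlgHom.commutes, ← Algebra.TensorProduct.algebraMap_apply,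
          Ideal.Quotient.mk_algebraMap]
      | add s s' _ _ h h' =>
        obtain ⟨m, hm, a, ha⟩ := h
        obtain ⟨m', hm', a', ha'⟩ := h'
        refine ⟨m * m', U.mul_mem hm hm', m' * a + m * a', ?_⟩
        rw [TensorProduct.add_tmul, map_add, map_add, map_mul, map_mul, map_mul, ← ha, ← ha']
        ring
      | mul s s' _ _ h h' =>
        obtain ⟨m, hm, a, ha⟩ := h
        obtain ⟨m', hm', a', ha'⟩ := h'
        refine ⟨m * m', U.mul_mem hm hm', a * a', ?_⟩
        rw [show (s * s') ⊗ₜ[R] (1 : S'₀) = (s ⊗ₜ 1) * (s' ⊗ₜ 1) by simp, map_mul, map_mul, map_mul,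
          ← ha, ← ha']
        ring
  have hfg : J.FG := Submodule.fg_span (Set.finite_range rel)
  refine ⟨(S₀ ⊗[R] S'₀) ⧸ J, inferInstance, inferInstance, inferInstance, α'.toRingHom.toAlgebra,
    inferInstance, IsScalarTower.of_algebraMap_eq fun r => (α'.commutes r).symm,
    U.map ι.toMonoidHom, Algebra.FinitePresentation.quotient hfg, ⟨?_, ?_, ?_⟩, fun s => ?_⟩
  · rintro ⟨_, m, hm, rfl⟩
    show IsUnit (α' (ι m))
    rw [hι]
    exact IsLocalization.map_units S' (⟨m, hm⟩ : U)
  · intro z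
    obtain ⟨⟨a, m⟩, h⟩ := IsLocalization.surj U z
    refine ⟨(ι a, ⟨ι m, m, m.2, rfl⟩), ?_⟩
    show z * α' (ι m) = α' (ι a)
    rw [hι, hι]
    exact h
  · intro t t' h
    obtain ⟨m, hm, a, ha⟩ := key (t - t')
    have h0 : algebraMap S'₀ S' a = 0 := by
      rw [← hι, ← ha, map_mul, map_sub]
      rw [show α' t = α' t' from h, sub_self, mul_zero]
    obtain ⟨⟨n, hn⟩, hn'⟩ := (IsLocalization.map_eq_zero_iff U S' a).1 h0
    refine ⟨⟨ι (n * m), n * m, U.mul_mem hn hm, rfl⟩, ?_⟩
    show ι (n * m) * t = ι (n * m) * t'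
    rw [← sub_eq_zero, ← mul_sub, map_mul, mul_assoc, ha, ← map_mul, hn', map_zero]
  · show α (s ⊗ₜ 1) = φ s
    simp [α]

end Groth.Agent.FlatH4
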