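import Groth.Agent.Lib.FlatH4.FlatDescentAt
import Groth.Agent.Lib.FlatH4.MapInj
import Mathlib.RingTheory.LocalRing.ResidueField.Ideal
import Mathlib.RingTheory.Flat.Localization
import Mathlib.RingTheory.IsTensorProduct

/-!
# The fibrewise criterion of flatness
-/

universe u

namespace Groth.Agent.FlatH4

open TensorProduct LinearMap

/-- `M / P M` is flat over `S / P` at `q`, in terms of kernels. -/
def FibFlat (S : Type u) [CommRing S] {T : Type u} [CommRing T] (M : Type u) [AddCommGroup M]
    [Module S M] [Module T M] [SMulCommClass S T M] (P : Ideal S) (q : Ideal T) : Prop :=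
  ∀ {N N' : Type u} [AddCommGroup N] [Module S N] [AddCommGroup N'] [Module S N'],
    Module.IsTorsionBySet S N (P : Set S) → Module.IsTorsionBySet S N' (P : Set S) →
    ∀ g : N →ₗ[S] N', Function.Injective g →
      ∀ x : M ⊗[S] N, g.lTensor M x = 0 → ∃ s ∉ q, s • x = 0

section Noetherian

variable {R S T M : Type u} [CommRing R] [CommRing S] [CommRing T] [Algebra R S] [Algebra S T]
  [Algebra R T] [IsScalarTower R S T] [IsNoetherianRing S] [IsNoetherianRing T]
  [AddCommGroup M] [Module R M] [Module S M] [Module T M] [IsScalarTower R S M]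
  [IsScalarTower S T M] [IsScalarTower R T M] [Module.Finite T M]

omit [IsScalarTower R S M] in
/-- The fibrewise criterion at a point, noetherian case. -/
theorem flat_localized_of_fibFlat (p : Ideal R) (q : Ideal T) [q.IsPrime]
    (hq : p.map (algebraMap R T) ≤ q) [Module.Flat R (LocalizedModule q.primeCompl M)]
    (hfib : FibFlat S M (p.map (algebraMap R S)) q) :
    Module.Flat S (LocalizedModule q.primeCompl M) := by
  refine flat_localized_of_kernels (p.map (algebraMap R S)) q ?_ (fun x hx => ?_)
    (fun {N N'} _ _ _ _ hN hN' g hg x hx => hfib hN hN' g hg x hx)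
  · rw [Ideal.map_map, ← IsScalarTower.algebraMap_eq]
    exact hq
  let g := LocalizedModule.mkLinearMap q.primeCompl M
  let g₁ := AlgebraTensorModule.rTensor S (p.map (algebraMap R S) : Ideal S) g
  have h0 : g₁ x = 0 := by
    apply injective_lTensor_map (S := S) (M := LocalizedModule q.primeCompl M) p
    show (p.map (algebraMap R S)).subtype.lTensor _ ((g.restrictScalars S).rTensor _ x) =
      (p.map (algebraMap R S)).subtype.lTensor _ 0
    rw [← LinearMap.comp_apply, lTensor_comp_rTensor, ← rTensor_comp_lTensor, LinearMap.comp_apply,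
      hx, map_zero, map_zero]
  obtain ⟨t, ht⟩ := (IsLocalizedModule.eq_zero_iff q.primeCompl g₁).1 h0
  exact ⟨t, t.2, ht⟩

end Noetherian

section Descend

/-- Tensoring with a field which is an algebra over `R / p` is exact on modules killed by `p`. -/
theorem baseChange_field_injective {R k N N' : Type u} [CommRing R] [Field k] [Algebra R k]
    [AddCommGroup N] [Module R N] [AddCommGroup N'] [Module R N']
    (hN : Module.IsTorsionBySet R N (RingHom.ker (algebraMap R k) : Set R))
    (hN' : Module.IsTorsionBySet R N' (RingHom.ker (algebraMap R k) : Set R))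
    (g : N →ₗ[R] N') (hg : Function.Injective g) : Function.Injective (g.baseChange k) := by
  let p := RingHom.ker (algebraMap R k)
  haveI : p.IsPrime := RingHom.ker_isPrime _
  letI : Algebra (R ⧸ p) k := (Ideal.Quotient.lift p (algebraMap R k) fun a ha => ha).toAlgebra
  haveI : IsScalarTower R (R ⧸ p) k := IsScalarTower.of_algebraMap_eq fun _ => rfl
  have hinj : Function.Injective (algebraMap (R ⧸ p) k) := RingHom.kerLift_injective _
  haveI : Module.IsTorsionFree (R ⧸ p) k :=
    Module.isTorsionFree_iff_algebraMap_injective.2 hinj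
  letI : Algebra (FractionRing (R ⧸ p)) k := FractionRing.liftAlgebra (R ⧸ p) k
  haveI : IsScalarTower (R ⧸ p) (FractionRing (R ⧸ p)) k :=
    FractionRing.isScalarTower_liftAlgebra (R ⧸ p) k
  haveI : Module.Flat (R ⧸ p) k := Module.Flat.trans (R ⧸ p) (FractionRing (R ⧸ p)) k
  letI := hN.module
  letI := hN'.module
  haveI : IsScalarTower R (R ⧸ p) N := IsScalarTower.of_algebraMap_smul fun _ _ => rfl
  haveI : IsScalarTower R (R ⧸ p) N' := IsScalarTower.of_algebraMap_smul fun _ _ => rfl
  let g' : N →ₗ[R ⧸ p] N' :=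
    LinearMap.extendScalarsOfSurjective (S := R ⧸ p) Ideal.Quotient.mk_surjective g
  haveI : TensorProduct.CompatibleSMul R (R ⧸ p) k N := ⟨fun r c x => by
    obtain ⟨r, rfl⟩ := Ideal.Quotient.mk_surjective r
    rw [← Ideal.Quotient.algebraMap_eq, algebraMap_smul, algebraMap_smul, TensorProduct.smul_tmul]⟩
  haveI : TensorProduct.CompatibleSMul R (R ⧸ p) k N' := ⟨fun r c x => by
    obtain ⟨r, rfl⟩ := Ideal.Quotient.mk_surjective r
    rw [← Ideal.Quotient.algebraMap_eq, algebraMap_smul, algebraMap_smul, TensorProduct.smul_tmul]⟩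
  let e := TensorProduct.equivOfCompatibleSMul R (R ⧸ p) k k N
  let e' := TensorProduct.equivOfCompatibleSMul R (R ⧸ p) k k N'
  have hflat := Module.Flat.lTensor_preserves_injective_linearMap (M := k) g' hg
  intro x y hxy
  obtain ⟨x, rfl⟩ := e.surjective x
  obtain ⟨y, rfl⟩ := e.surjective y
  have key : ∀ z, (g.baseChange k) (e z) = e' (g'.lTensor k z) := by
    intro z
    induction z using TensorProduct.induction_on with
    | zero => simp
    | tmul a b => rfl
    | add a b ha hb => simp only [map_add, ha, hb]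
  rw [key, key] at hxy
  rw [hflat (e'.injective hxy)]

variable {R A S₀ T₀ M₀ S T M : Type u} [CommRing R] [CommRing A] [Algebra R A]
  [CommRing S₀] [Algebra R S₀] [CommRing T₀] [Algebra R T₀] [Algebra S₀ T₀] [IsScalarTower R S₀ T₀]
  [AddCommGroup M₀] [Module R M₀] [Module S₀ M₀] [Module T₀ M₀] [IsScalarTower R S₀ M₀]
  [IsScalarTower S₀ T₀ M₀] [IsScalarTower R T₀ M₀]
  [CommRing S] [Algebra A S] [CommRing T] [Algebra A T] [Algebra S T] [IsScalarTower A S T]
  [AddCommGroup M] [Module A M] [Module S M] [Module T M] [IsScalarTower A S M]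
  [IsScalarTower S T M] [IsScalarTower A T M]

/-- Fibrewise flatness descends along a base change of models. -/
theorem fibFlat_descend (eS : A ⊗[R] S₀ ≃ₐ[A] S) (ψ : T₀ →+* T)
    (hψ : ∀ s : S₀, ψ (algebraMap S₀ T₀ s) = algebraMap S T (eS ((1 : A) ⊗ₜ s)))
    (hT : Submodule.span A (Set.range ψ) = ⊤)
    (eM : A ⊗[R] M₀ ≃ₗ[A] M) (hM : ∀ (t : T₀) (m : M₀), eM (1 ⊗ₜ (t • m)) = ψ t • eM (1 ⊗ₜ m))
    (p : Ideal A) [p.IsPrime] (q : Ideal T) [q.IsPrime] (hqp : q.comap (algebraMap A T) = p)
    (hfib : FibFlat S M (p.map (algebraMap A S)) q) :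
    FibFlat S₀ M₀ ((p.comap (algebraMap R A)).map (algebraMap R S₀)) (q.comap ψ) := by
  intro N N' _ _ _ _ hN hN' g hg x hx
  by_contra hne
  push Not at hne
  let k := p.ResidueField
  have hker : RingHom.ker (algebraMap R k) = p.comap (algebraMap R A) := by
    rw [IsScalarTower.algebraMap_eq R A k, ← RingHom.comap_ker, Ideal.ker_algebraMap_residueField]
  letI : Module R N := Module.compHom N (algebraMap R S₀)
  letI : Module R N' := Module.compHom N' (algebraMap R S₀)
  haveI : IsScalarTower R S₀ N := IsScalarTower.of_algebraMap_smul fun _ _ => rfl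
  haveI : IsScalarTower R S₀ N' := IsScalarTower.of_algebraMap_smul fun _ _ => rfl
  have hNR : Module.IsTorsionBySet R N (RingHom.ker (algebraMap R k) : Set R) := fun n r => by
    obtain ⟨r, hr⟩ := r
    rw [hker] at hr
    exact @hN n ⟨_, Ideal.mem_map_of_mem (algebraMap R S₀) hr⟩
  have hNR' : Module.IsTorsionBySet R N' (RingHom.ker (algebraMap R k) : Set R) := fun n r => by
    obtain ⟨r, hr⟩ := r
    rw [hker] at hr
    exact @hN' n ⟨_, Ideal.mem_map_of_mem (algebraMap R S₀) hr⟩
  let η : S →+* k ⊗[R] S₀ :=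
    (Algebra.TensorProduct.map (IsScalarTower.toAlgHom R A k) (AlgHom.id R S₀)).toRingHom.comp
      eS.symm.toRingHom
  have hηA : ∀ a : A, η (algebraMap A S a) = algebraMap A k a ⊗ₜ (1 : S₀) := fun a => by
    show Algebra.TensorProduct.map (IsScalarTower.toAlgHom R A k) (AlgHom.id R S₀)
      (eS.symm (algebraMap A S a)) = _
    rw [AlgEquiv.commutes, Algebra.TensorProduct.algebraMap_apply, Algebra.TensorProduct.map_tmul]
    rfl
  have hηS : ∀ s : S₀, η (eS ((1 : A) ⊗ₜ s)) = (1 : k) ⊗ₜ s := fun s => by
    show Algebra.TensorProduct.map (IsScalarTower.toAlgHom R A k) (AlgHom.id R S₀)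
      (eS.symm (eS ((1 : A) ⊗ₜ s))) = _
    rw [AlgEquiv.symm_apply_apply, Algebra.TensorProduct.map_tmul, map_one]
    rfl
  letI : Module S (k ⊗[R] N) := Module.compHom _ ((tensorAct R k S₀ N).toRingHom.comp η)
  letI : Module S (k ⊗[R] N') := Module.compHom _ ((tensorAct R k S₀ N').toRingHom.comp η)
  have hsm : ∀ (s : S) (y : k ⊗[R] N), s • y = tensorAct R k S₀ N (η s) y := fun _ _ => rfl
  have hsm' : ∀ (s : S) (y : k ⊗[R] N'), s • y = tensorAct R k S₀ N' (η s) y := fun _ _ => rfl
  have hzero : ∀ a : p, η (algebraMap A S (a : A)) = 0 := fun a => by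
    rw [hηA, Ideal.algebraMap_residueField_eq_zero.2 a.2, TensorProduct.zero_tmul]
  have htor : Module.IsTorsionBySet S (k ⊗[R] N) (p.map (algebraMap A S) : Set S) := by
    rw [Ideal.map, Ideal.span, ← Module.isTorsionBySet_iff_is_torsion_by_span]
    rintro y ⟨_, a, ha, rfl⟩
    show algebraMap A S a • y = 0
    rw [hsm, hzero ⟨a, ha⟩, map_zero, LinearMap.zero_apply]
  have htor' : Module.IsTorsionBySet S (k ⊗[R] N') (p.map (algebraMap A S) : Set S) := by
    rw [Ideal.map, Ideal.span, ← Module.isTorsionBySet_iff_is_torsion_by_span]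
    rintro y ⟨_, a, ha, rfl⟩
    show algebraMap A S a • y = 0
    rw [hsm', hzero ⟨a, ha⟩, map_zero, LinearMap.zero_apply]
  let gk : k ⊗[R] N →ₗ[S] k ⊗[R] N' :=
    { (g.restrictScalars R).baseChange k with
      map_smul' := fun s y => by
        simp only [hsm, hsm', RingHom.id_apply]
        exact tensorAct_natural (R := R) k g (η s) y }
  have hgk : Function.Injective gk := baseChange_field_injective hNR hNR' (g.restrictScalars R) hg
  let j : M₀ ⊗[S₀] N →+ M ⊗[S] (k ⊗[R] N) := TensorProduct.liftAddHom
    (AddMonoidHom.mk' (fun m => AddMonoidHom.mk' (fun n => eM (1 ⊗ₜ m) ⊗ₜ[S] ((1 : k) ⊗ₜ[R] n))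
      fun a b => by simp [tmul_add]) fun a b => by ext n; simp [tmul_add, add_tmul])
    (fun s m n => by
      show eM (1 ⊗ₜ (s • m)) ⊗ₜ[S] ((1 : k) ⊗ₜ[R] n) = eM (1 ⊗ₜ m) ⊗ₜ[S] ((1 : k) ⊗ₜ[R] (s • n))
      rw [← algebraMap_smul T₀ s m, hM, hψ, algebraMap_smul, TensorProduct.smul_tmul, hsm, hηS,
        tensorAct_tmul, one_mul])
  have hjx : gk.lTensor M (j x) = 0 := by
    let j' : M₀ ⊗[S₀] N' →+ M ⊗[S] (k ⊗[R] N') := TensorProduct.liftAddHom
      (AddMonoidHom.mk' (fun m => AddMonoidHom.mk' (fun n => eM (1 ⊗ₜ m) ⊗ₜ[S] ((1 : k) ⊗ₜ[R] n))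
        fun a b => by simp [tmul_add]) fun a b => by ext n; simp [tmul_add, add_tmul])
      (fun s m n => by
        show eM (1 ⊗ₜ (s • m)) ⊗ₜ[S] ((1 : k) ⊗ₜ[R] n) = eM (1 ⊗ₜ m) ⊗ₜ[S] ((1 : k) ⊗ₜ[R] (s • n))
        rw [← algebraMap_smul T₀ s m, hM, hψ, algebraMap_smul, TensorProduct.smul_tmul, hsm', hηS,
          tensorAct_tmul, one_mul])
    rw [show gk.lTensor M (j x) = j' (g.lTensor M₀ x) from by
      clear hx hne
      induction x using TensorProduct.induction_on with
      | zero => simp
      | tmul m n => simp [j, j', gk]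
      | add a b ha hb => simp only [map_add, ha, hb], hx, map_zero]
  obtain ⟨t, htq, ht⟩ := hfib htor htor' gk hgk (j x) hjx
  let fA : A →ₗ[R] k →ₗ[R] k := (LinearMap.mul R k) ∘ₗ (IsScalarTower.toAlgHom R A k).toLinearMap
  let gM : M₀ →ₗ[R] N →ₗ[R] M₀ ⊗[S₀] N := (TensorProduct.mk S₀ M₀ N).restrictScalars₁₂ R R
  let β : A ⊗[R] M₀ →ₗ[R] k ⊗[R] N →ₗ[R] k ⊗[R] (M₀ ⊗[S₀] N) := TensorProduct.map₂ fA gM
  have hβ : ∀ (a : A) (m : M₀) (c : k) (n : N),
      β (a ⊗ₜ m) (c ⊗ₜ n) = (algebraMap A k a * c) ⊗ₜ (m ⊗ₜ[S₀] n) := fun _ _ _ _ => rfl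
  have heM : ∀ (b : A) (m : M₀), eM (b ⊗ₜ m) = b • eM (1 ⊗ₜ m) := fun b m => by
    rw [← map_smul, TensorProduct.smul_tmul', smul_eq_mul, mul_one]
  let τ : M ⊗[S] (k ⊗[R] N) →+ k ⊗[R] (M₀ ⊗[S₀] N) := TensorProduct.liftAddHom
    (AddMonoidHom.mk' (fun m => (β (eM.symm m)).toAddMonoidHom) fun a b => by
      ext n; simp)
    (fun s m y => by
      show β (eM.symm (s • m)) y = β (eM.symm m) (s • y)
      obtain ⟨w, rfl⟩ := eM.surjective m
      obtain ⟨σ, rfl⟩ := eS.surjective s
      rw [LinearEquiv.symm_apply_apply, hsm]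
      have hη' : η (eS σ) =
          Algebra.TensorProduct.map (IsScalarTower.toAlgHom R A k) (AlgHom.id R S₀) σ := by
        show Algebra.TensorProduct.map _ _ (eS.symm (eS σ)) = _
        rw [AlgEquiv.symm_apply_apply]
      rw [hη']
      clear hη'
      induction σ using TensorProduct.induction_on with
      | zero => simp
      | add σ σ' h h' => simp only [map_add, add_smul, LinearMap.add_apply, h, h']
      | tmul a s =>
        induction w using TensorProduct.induction_on with
        | zero => simp
        | add w w' h h' => simp only [map_add, smul_add, LinearMap.add_apply, h, h']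
        | tmul b m =>
          induction y using TensorProduct.induction_on with
          | zero => simp
          | add y y' h h' => simp only [map_add, h, h']
          | tmul c n =>
            have : eM.symm (eS (a ⊗ₜ s) • eM (b ⊗ₜ m)) = (a * b) ⊗ₜ (s • m) := by
              rw [LinearEquiv.symm_apply_eq, heM b, heM (a * b)]
              rw [show eS (a ⊗ₜ s) = a • eS ((1 : A) ⊗ₜ s) from by
                  rw [← map_smul, TensorProduct.smul_tmul', smul_eq_mul, mul_one],
                smul_assoc, smul_comm (eS _) b, ← mul_smul]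
              congr 1
              rw [← algebraMap_smul T₀ s m, hM, hψ, algebraMap_smul]
            rw [this, hβ, Algebra.TensorProduct.map_tmul, tensorAct_tmul, hβ,
              TensorProduct.smul_tmul, map_mul]
            simp only [IsScalarTower.coe_toAlgHom', AlgHom.coe_id, id_eq]
            congr 1
            ring)
  have hτ : ∀ (m : M) (y : k ⊗[R] N), τ (m ⊗ₜ[S] y) = β (eM.symm m) y := fun _ _ => rfl
  have hψR : ∀ r : R, ψ (algebraMap R T₀ r) = algebraMap A T (algebraMap R A r) := fun r => by
    rw [IsScalarTower.algebraMap_apply R S₀ T₀, hψ, IsScalarTower.algebraMap_apply A S T,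
      ← eS.commutes, Algebra.TensorProduct.algebraMap_apply, Algebra.algebraMap_self_apply,
      Algebra.algebraMap_eq_smul_one (A := S₀), TensorProduct.tmul_smul, TensorProduct.smul_tmul',
      ← Algebra.algebraMap_eq_smul_one]
  let L := q.ResidueField
  let kL : k →+* L := Ideal.ResidueField.map p q (algebraMap A T) hqp.symm
  letI : Algebra R L := ((algebraMap A L).comp (algebraMap R A)).toAlgebra
  have hkL : ∀ a : A, kL (algebraMap A k a) = algebraMap T L (algebraMap A T a) := fun a =>
    Ideal.ResidueField.map_algebraMap p q (algebraMap A T) hqp.symm a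
  let kL' : k →ₐ[R] L := AlgHom.mk kL fun r => by
    show kL (algebraMap R k r) = algebraMap A L (algebraMap R A r)
    rw [IsScalarTower.algebraMap_apply R A k, hkL, ← IsScalarTower.algebraMap_apply]
  let ψ' : T₀ →ₐ[R] L := AlgHom.mk ((algebraMap T L).comp ψ) fun r => by
    show algebraMap T L (ψ (algebraMap R T₀ r)) = algebraMap A L (algebraMap R A r)
    rw [hψR, ← IsScalarTower.algebraMap_apply]
  let χ : k ⊗[R] T₀ →ₐ[R] L := Algebra.TensorProduct.lift kL' ψ' fun _ _ => Commute.all _ _
  have hact : ∀ t : T, ∃ σ : k ⊗[R] T₀, χ σ = algebraMap T L t ∧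
      ∀ z : M ⊗[S] (k ⊗[R] N), τ (t • z) = tensorAct R k T₀ (M₀ ⊗[S₀] N) σ (τ z) := by
    intro t
    have htT : t ∈ Submodule.span A (Set.range ψ) := hT ▸ trivial
    induction htT using Submodule.span_induction with
    | mem t ht =>
      obtain ⟨t₀, rfl⟩ := ht
      refine ⟨1 ⊗ₜ t₀, by simp [χ, ψ'], fun z => ?_⟩
      induction z using TensorProduct.induction_on with
      | zero => simp
      | add z z' h h' => simp only [smul_add, map_add, h, h']
      | tmul m y =>
        obtain ⟨w, rfl⟩ := eM.surjective m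
        rw [TensorProduct.smul_tmul', hτ, hτ, LinearEquiv.symm_apply_apply]
        induction w using TensorProduct.induction_on with
        | zero => simp
        | add w w' h h' => simp only [map_add, smul_add, LinearMap.add_apply, h, h']
        | tmul b m =>
          rw [show eM.symm (ψ t₀ • eM (b ⊗ₜ m)) = b ⊗ₜ (t₀ • m) from by
            rw [LinearEquiv.symm_apply_eq, heM b, smul_comm, ← hM, ← heM]]
          induction y using TensorProduct.induction_on with
          | zero => simp
          | add y y' h h' => simp only [map_add, h, h']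
          | tmul c n => rw [hβ, hβ, tensorAct_tmul, one_mul, TensorProduct.smul_tmul']
    | zero => exact ⟨0, by simp, fun z => by simp⟩
    | add t t' _ _ h h' =>
      obtain ⟨σ, h1, h2⟩ := h
      obtain ⟨σ', h1', h2'⟩ := h'
      exact ⟨σ + σ', by rw [map_add, map_add, h1, h1'],
        fun z => by rw [add_smul, map_add, h2, h2', map_add, LinearMap.add_apply]⟩
    | smul a t _ h =>
      obtain ⟨σ, h1, h2⟩ := h
      refine ⟨algebraMap A k a • σ, ?_, fun z => ?_⟩
      · rw [Algebra.smul_def, Algebra.smul_def, map_mul, map_mul, h1,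
          Algebra.TensorProduct.algebraMap_apply]
        simp [χ, kL', hkL]
      · rw [smul_assoc, Algebra.smul_def (algebraMap A k a), map_mul, AlgHom.commutes,
          Module.End.mul_apply, Module.algebraMap_end_apply, ← h2]
        induction t • z using TensorProduct.induction_on with
        | zero => simp
        | add z z' h h' => simp only [smul_add, map_add, h, h']
        | tmul m y =>
          rw [TensorProduct.smul_tmul', hτ, hτ, map_smul]
          induction eM.symm m using TensorProduct.induction_on with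
          | zero => simp
          | add w w' h h' => simp only [smul_add, map_add, LinearMap.add_apply, h, h']
          | tmul b m =>
            induction y using TensorProduct.induction_on with
            | zero => simp
            | add y y' h h' => simp only [smul_add, map_add, h, h']
            | tmul c n =>
              rw [TensorProduct.smul_tmul', hβ, hβ, TensorProduct.smul_tmul']
              simp [mul_assoc]
  obtain ⟨σ, hσ1, hσ2⟩ := hact t
  have hjτ : τ (j x) = (1 : k) ⊗ₜ x := by
    clear hjx ht hne hx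
    induction x using TensorProduct.induction_on with
    | zero => simp
    | add a b ha hb => simp only [map_add, tmul_add, ha, hb]
    | tmul m n =>
      show β (eM.symm (eM (1 ⊗ₜ m))) ((1 : k) ⊗ₜ n) = _
      rw [LinearEquiv.symm_apply_apply, hβ, map_one, one_mul]
  have h0 : tensorAct R k T₀ (M₀ ⊗[S₀] N) σ ((1 : k) ⊗ₜ x) = 0 := by
    rw [← hjτ, ← hσ2, ht, map_zero]
  let u : T₀ →ₗ[R] M₀ ⊗[S₀] N := (LinearMap.toSpanSingleton T₀ _ x).restrictScalars R
  have hu : u.baseChange k σ = 0 := by
    rw [← h0]
    clear hσ1 hσ2 h0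
    induction σ using TensorProduct.induction_on with
    | zero => simp
    | tmul c t => simp [u, tensorAct_tmul]
    | add a b ha hb => simp only [map_add, LinearMap.add_apply, ha, hb]
  have hW : Module.IsTorsionBySet R (M₀ ⊗[S₀] N) (RingHom.ker (algebraMap R k) : Set R) := fun w r => by
    induction w using TensorProduct.induction_on with
    | zero => exact smul_zero _
    | tmul m n =>
      show ((r : R) • (m ⊗ₜ[S₀] n)) = 0
      rw [← algebraMap_smul S₀ (r : R), ← TensorProduct.tmul_smul, algebraMap_smul, @hNR n r,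
        TensorProduct.tmul_zero]
    | add a b ha hb => rw [smul_add, ha, hb, add_zero]
  have hW' : Module.IsTorsionBySet R (LinearMap.range u) (RingHom.ker (algebraMap R k) : Set R) :=
    fun w r => Subtype.ext (@hW w.1 r)
  have hrange : u.rangeRestrict.lTensor k σ = 0 := by
    apply baseChange_field_injective hW' hW (LinearMap.range u).subtype Subtype.val_injective
    rw [map_zero, ← hu]
    show (LinearMap.range u).subtype.lTensor k (u.rangeRestrict.lTensor k σ) = u.lTensor k σ
    rw [← LinearMap.lTensor_comp_apply, LinearMap.subtype_comp_codRestrict]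
  obtain ⟨ν, hν⟩ := (lTensor_exact k (f := (LinearMap.ker u).subtype) (g := u.rangeRestrict)
    (by rw [LinearMap.exact_iff, LinearMap.ker_rangeRestrict, Submodule.range_subtype])
    u.surjective_rangeRestrict σ).1 hrange
  have hχ : χ σ = 0 := by
    rw [← hν]
    clear hν
    induction ν using TensorProduct.induction_on with
    | zero => simp
    | add a b ha hb => simp only [map_add, ha, hb, add_zero]
    | tmul c w =>
      have hw : ψ w.1 ∈ q := by
        by_contra hwq
        exact hne w.1 hwq w.2
      rw [LinearMap.lTensor_tmul, Submodule.subtype_apply, Algebra.TensorProduct.lift_tmul]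
      show kL c * algebraMap T L (ψ w.1) = 0
      rw [Ideal.algebraMap_residueField_eq_zero.2 hw, mul_zero]
  rw [hσ1, Ideal.algebraMap_residueField_eq_zero] at hχ
  exact htq hχ

end Descend

end Groth.Agent.FlatH4
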