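import Groth.Agent.Lib.FlatH4.FibreCrit
import Groth.Agent.Lib.FlatH4.FlatLocus

/-!
# The fibrewise criterion of flatness, from noetherian models
-/

universe u

namespace Groth.Agent.FlatH4

open TensorProduct LinearMap

/-- Base change along `S₀ → S` when `S` and `M` are base changes along `R → A`. -/
theorem exists_baseChange_equiv {R A S₀ M₀ S M : Type u} [CommRing R] [CommRing A] [Algebra R A]
    [CommRing S₀] [Algebra R S₀] [AddCommGroup M₀] [Module R M₀] [Module S₀ M₀]
    [IsScalarTower R S₀ M₀] [CommRing S] [Algebra A S] [Algebra S₀ S] [AddCommGroup M] [Module A M]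
    [Module S M] [IsScalarTower A S M] (eS : A ⊗[R] S₀ ≃ₐ[A] S)
    (heS : ∀ s : S₀, algebraMap S₀ S s = eS ((1 : A) ⊗ₜ s)) (eM : A ⊗[R] M₀ ≃ₗ[A] M)
    (hM : ∀ (s : S₀) (m : M₀), eM (1 ⊗ₜ (s • m)) = algebraMap S₀ S s • eM (1 ⊗ₜ m)) :
    ∃ e : S ⊗[S₀] M₀ ≃ₗ[S] M, ∀ m, e (1 ⊗ₜ m) = eM (1 ⊗ₜ m) := by
  letI : Module S₀ M := Module.compHom M (algebraMap S₀ S)
  haveI : IsScalarTower S₀ S M := IsScalarTower.of_algebraMap_smul fun _ _ => rfl
  let f : M₀ →ₗ[S₀] M :=
    { toFun := fun m => eM (1 ⊗ₜ m)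
      map_add' := fun a b => by simp [tmul_add]
      map_smul' := fun s m => hM s m }
  letI : Algebra R S := ((algebraMap A S).comp (algebraMap R A)).toAlgebra
  haveI : IsScalarTower R A S := IsScalarTower.of_algebraMap_eq fun _ => rfl
  haveI : IsScalarTower R S₀ S := IsScalarTower.of_algebraMap_eq fun r => by
    rw [heS, IsScalarTower.algebraMap_apply R A S, ← eS.commutes,
      Algebra.TensorProduct.algebraMap_apply, Algebra.algebraMap_self_apply,
      Algebra.algebraMap_eq_smul_one (A := S₀), TensorProduct.tmul_smul, TensorProduct.smul_tmul',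
      ← Algebra.algebraMap_eq_smul_one]
  let g : M₀ →ₗ[R] S ⊗[S₀] M₀ := (TensorProduct.mk S₀ S M₀ 1).restrictScalars R
  let b : A ⊗[R] M₀ →ₗ[A] S ⊗[S₀] M₀ := g.liftBaseChange A
  have hb : ∀ a m, b (a ⊗ₜ m) = algebraMap A S a ⊗ₜ[S₀] m := fun a m => by
    simp [b, g, TensorProduct.smul_tmul', Algebra.smul_def]
  let bk : M →+ S ⊗[S₀] M₀ := b.toAddMonoidHom.comp eM.symm.toAddMonoidHom
  have h1 : ∀ y, bk (f.liftBaseChange S y) = y := by
    intro y
    induction y using TensorProduct.induction_on with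
    | zero => simp
    | add a c ha hc => simp only [map_add, ha, hc]
    | tmul s m =>
      obtain ⟨σ, rfl⟩ := eS.surjective s
      induction σ using TensorProduct.induction_on with
      | zero => simp
      | add a c ha hc => simp only [map_add, TensorProduct.add_tmul, ha, hc]
      | tmul a s =>
        have h : eS (a ⊗ₜ s) = a • algebraMap S₀ S s := by
          rw [heS, ← map_smul, TensorProduct.smul_tmul', smul_eq_mul, mul_one]
        rw [LinearMap.liftBaseChange_tmul]
        show b (eM.symm (eS (a ⊗ₜ s) • eM (1 ⊗ₜ m))) = _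
        rw [h, smul_assoc, ← hM, ← map_smul, LinearEquiv.symm_apply_apply,
          TensorProduct.smul_tmul', smul_eq_mul, mul_one, hb, ← TensorProduct.smul_tmul]
        congr 1
        rw [Algebra.smul_def, Algebra.smul_def, mul_comm]
  have h2 : ∀ y, f.liftBaseChange S (bk y) = y := by
    intro y
    obtain ⟨w, rfl⟩ := eM.surjective y
    show f.liftBaseChange S (b (eM.symm (eM w))) = eM w
    rw [LinearEquiv.symm_apply_apply]
    induction w using TensorProduct.induction_on with
    | zero => simp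
    | add a c ha hc => simp only [map_add, ha, hc]
    | tmul a m =>
      rw [hb, LinearMap.liftBaseChange_tmul, algebraMap_smul]
      show a • eM (1 ⊗ₜ m) = _
      rw [← map_smul, TensorProduct.smul_tmul', smul_eq_mul, mul_one]
  exact ⟨{ f.liftBaseChange S with invFun := bk, left_inv := h1, right_inv := h2 },
    fun m => by show f.liftBaseChange S (1 ⊗ₜ m) = _; simp [f]⟩

/-- The fibrewise criterion of flatness at a point, for data coming from noetherian models. -/
theorem flat_localized_of_fibFlat_models {R A S₀ T₀ M₀ S T M P₀ F : Type u} [CommRing R]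
    [IsNoetherianRing R] [CommRing A] [Algebra R A]
    [CommRing S₀] [Algebra R S₀] [Algebra.FiniteType R S₀]
    [CommRing T₀] [Algebra R T₀] [Algebra S₀ T₀] [IsScalarTower R S₀ T₀]
    [AddCommGroup M₀] [Module R M₀] [Module S₀ M₀] [Module T₀ M₀] [IsScalarTower R S₀ M₀]
    [IsScalarTower S₀ T₀ M₀] [IsScalarTower R T₀ M₀] [Module.Finite T₀ M₀]
    [CommRing P₀] [Algebra R P₀] [Algebra.FiniteType R P₀] [Module P₀ M₀] [IsScalarTower R P₀ M₀]
    [AddCommGroup F] [Module R F] [Module P₀ F] [IsScalarTower R P₀ F] [Module.Finite P₀ F]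
    [Module.Flat R F] (π : F →ₗ[P₀] M₀) (hπ : Function.Surjective π)
    (φ : P₀ →ₐ[R] T₀) (hφ : Function.Surjective φ) (hact : ∀ (s : P₀) (m : M₀), s • m = φ s • m)
    [CommRing S] [Algebra A S] [CommRing T] [Algebra A T] [Algebra S T] [IsScalarTower A S T]
    [AddCommGroup M] [Module A M] [Module S M] [Module T M] [IsScalarTower A S M]
    [IsScalarTower S T M] [IsScalarTower A T M]
    (eS : A ⊗[R] S₀ ≃ₐ[A] S) (ψ : T₀ →+* T)
    (hψ : ∀ s : S₀, ψ (algebraMap S₀ T₀ s) = algebraMap S T (eS ((1 : A) ⊗ₜ s)))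
    (hT : Submodule.span A (Set.range ψ) = ⊤)
    (eM : A ⊗[R] M₀ ≃ₗ[A] M) (hM : ∀ (t : T₀) (m : M₀), eM (1 ⊗ₜ (t • m)) = ψ t • eM (1 ⊗ₜ m))
    (q : Ideal T) [q.IsPrime] [Module.Flat A (LocalizedModule q.primeCompl M)]
    (hfib : FibFlat S M ((q.comap (algebraMap A T)).map (algebraMap A S)) q) :
    Module.Flat S (LocalizedModule q.primeCompl M) := by
  letI : Algebra R T := ((algebraMap A T).comp (algebraMap R A)).toAlgebra
  haveI : IsScalarTower R A T := IsScalarTower.of_algebraMap_eq fun _ => rfl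
  have hψR : ∀ r : R, ψ (algebraMap R T₀ r) = algebraMap R T r := fun r => by
    rw [IsScalarTower.algebraMap_apply R S₀ T₀, hψ]
    show _ = algebraMap A T (algebraMap R A r)
    rw [IsScalarTower.algebraMap_apply A S T,
      ← eS.commutes, Algebra.TensorProduct.algebraMap_apply, Algebra.algebraMap_self_apply,
      Algebra.algebraMap_eq_smul_one (A := S₀), TensorProduct.tmul_smul, TensorProduct.smul_tmul',
      ← Algebra.algebraMap_eq_smul_one]
  let ψ' : T₀ →ₐ[R] T := AlgHom.mk ψ hψR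
  -- flatness descends along `P₀`
  let Φ : A ⊗[R] P₀ →ₐ[A] T :=
    Algebra.TensorProduct.lift (Algebra.ofId A T) (ψ'.comp φ) fun _ _ => Commute.all _ _
  have hΦ : Function.Surjective Φ := by
    intro t
    have ht : t ∈ Submodule.span A (Set.range ψ) := hT ▸ trivial
    induction ht using Submodule.span_induction with
    | mem t ht =>
      obtain ⟨t₀, rfl⟩ := ht
      obtain ⟨s, rfl⟩ := hφ t₀
      exact ⟨1 ⊗ₜ s, by simp [Φ, ψ']⟩
    | zero => exact ⟨0, map_zero _⟩
    | add a b _ _ ha hb =>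
      obtain ⟨x, rfl⟩ := ha
      obtain ⟨y, rfl⟩ := hb
      exact ⟨x + y, map_add _ _ _⟩
    | smul a t _ h =>
      obtain ⟨x, rfl⟩ := h
      exact ⟨a • x, map_smul _ _ _⟩
  letI := tensorModule R A P₀ M₀
  haveI := tensorModule_isScalarTower R A P₀ M₀
  letI : Module (A ⊗[R] P₀) M := Module.compHom M Φ.toRingHom
  haveI : IsScalarTower A (A ⊗[R] P₀) M := IsScalarTower.of_algebraMap_smul fun a m => by
    show Φ (algebraMap A _ a) • m = a • m
    rw [AlgHom.commutes, algebraMap_smul]
  let eP : A ⊗[R] M₀ ≃ₗ[A ⊗[R] P₀] M :=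
    { eM with
      map_smul' := fun s x => by
        show eM (tensorAct R A P₀ M₀ s x) = Φ s • eM x
        induction s using TensorProduct.induction_on with
        | zero => simp
        | add a b ha hb => simp only [map_add, LinearMap.add_apply, add_smul, ha, hb]
        | tmul a s =>
          induction x using TensorProduct.induction_on with
          | zero => simp
          | add a b ha hb => simp only [map_add, smul_add, ha, hb]
          | tmul b m =>
            rw [tensorAct_tmul, hact, show (a * b) ⊗ₜ[R] (φ s • m) = (a * b) • ((1 : A) ⊗ₜ (φ s • m)) by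
              rw [TensorProduct.smul_tmul', smul_eq_mul, mul_one], map_smul, hM,
              show b ⊗ₜ[R] m = b • ((1 : A) ⊗ₜ m) by
                rw [TensorProduct.smul_tmul', smul_eq_mul, mul_one], map_smul,
              show Φ (a ⊗ₜ s) = a • ψ (φ s) by simp [Φ, ψ', Algebra.smul_def],
              smul_assoc, smul_comm (ψ _) b, mul_smul] }
  haveI : Module.Finite P₀ M₀ := Module.Finite.of_surjective π hπ
  obtain ⟨B, hB, hflat⟩ := exists_subalgebra_flatAt_of_presentation π hπ (q.comap Φ)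
    ((flat_localized_congr _ eP).2 ((flat_localized_comap_iff (M := M) Φ hΦ q fun _ _ => rfl).2 ‹_›))
  have hflatB := hflat B le_rfl hB
  -- the models over `B`
  haveI : IsNoetherianRing B := isNoetherianRing_of_fg hB
  haveI : Algebra.FiniteType R T₀ := Algebra.FiniteType.of_surjective φ hφ
  haveI : IsNoetherianRing (B ⊗[R] S₀) := Algebra.FiniteType.isNoetherianRing B _
  haveI : IsNoetherianRing (B ⊗[R] T₀) := Algebra.FiniteType.isNoetherianRing B _
  letI : Algebra (B ⊗[R] S₀) (B ⊗[R] T₀) :=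
    (Algebra.TensorProduct.map (AlgHom.id B B) (IsScalarTower.toAlgHom R S₀ T₀)).toRingHom.toAlgebra
  haveI : IsScalarTower B (B ⊗[R] S₀) (B ⊗[R] T₀) := IsScalarTower.of_algebraMap_eq fun b =>
    ((Algebra.TensorProduct.map (AlgHom.id B B) (IsScalarTower.toAlgHom R S₀ T₀)).commutes b).symm
  letI := tensorModule R B T₀ M₀
  haveI := tensorModule_isScalarTower R B T₀ M₀
  haveI := tensorModule_finite R B T₀ M₀
  letI : Module (B ⊗[R] S₀) (B ⊗[R] M₀) :=
    Module.compHom _ (algebraMap (B ⊗[R] S₀) (B ⊗[R] T₀))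
  haveI : IsScalarTower (B ⊗[R] S₀) (B ⊗[R] T₀) (B ⊗[R] M₀) :=
    IsScalarTower.of_algebraMap_smul fun _ _ => rfl
  haveI : IsScalarTower B (B ⊗[R] S₀) (B ⊗[R] M₀) :=
    IsScalarTower.of_algebraMap_smul (R := B) (A := B ⊗[R] S₀) (M := B ⊗[R] M₀) fun b x => by
    show algebraMap (B ⊗[R] S₀) (B ⊗[R] T₀) (algebraMap B _ b) • x = b • x
    rw [← IsScalarTower.algebraMap_apply, algebraMap_smul]
  let ψB : B ⊗[R] T₀ →ₐ[B] T :=
    Algebra.TensorProduct.lift (Algebra.ofId B T) ψ' fun _ _ => Commute.all _ _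
  let eS' : A ⊗[B] (B ⊗[R] S₀) ≃ₐ[A] S :=
    (Algebra.TensorProduct.cancelBaseChange R B A A S₀).trans eS
  have heS' : ∀ (b : B) (s : S₀), eS' (1 ⊗ₜ (b ⊗ₜ s)) = (b : A) • eS (1 ⊗ₜ s) := fun b s => by
    rw [← map_smul, TensorProduct.smul_tmul', smul_eq_mul, mul_one]
    simp [eS', Algebra.smul_def]
  have hψB : ∀ σ : B ⊗[R] S₀, ψB (algebraMap (B ⊗[R] S₀) (B ⊗[R] T₀) σ) =
      algebraMap S T (eS' ((1 : A) ⊗ₜ σ)) := by
    intro σ
    induction σ using TensorProduct.induction_on with
    | zero => simp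
    | add a b ha hb => simp only [map_add, TensorProduct.tmul_add, ha, hb]
    | tmul b s =>
      rw [heS', RingHom.algebraMap_toAlgebra]
      simp [ψB, ψ', hψ, Algebra.smul_def, ← IsScalarTower.algebraMap_apply]
      rfl
  let eM' : A ⊗[B] (B ⊗[R] M₀) ≃ₗ[A] M :=
    (AlgebraTensorModule.cancelBaseChange R B A A M₀).trans eM
  have heM' : ∀ (b : B) (m : M₀), eM' (1 ⊗ₜ (b ⊗ₜ m)) = (b : A) • eM (1 ⊗ₜ m) := fun b m => by
    rw [← map_smul, TensorProduct.smul_tmul', smul_eq_mul, mul_one]
    simp [eM', Algebra.smul_def]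
  have hM' : ∀ (t : B ⊗[R] T₀) (x : B ⊗[R] M₀),
      eM' (1 ⊗ₜ tensorAct R B T₀ M₀ t x) = ψB t • eM' (1 ⊗ₜ x) := by
    intro t x
    induction t using TensorProduct.induction_on with
    | zero => simp
    | add a b ha hb => simp only [map_add, LinearMap.add_apply, TensorProduct.tmul_add, add_smul, ha, hb]
    | tmul b t =>
      induction x using TensorProduct.induction_on with
      | zero => simp
      | add a b ha hb => simp only [map_add, TensorProduct.tmul_add, smul_add, ha, hb]
      | tmul c m =>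
        rw [tensorAct_tmul, heM', heM', hM,
          show ψB (b ⊗ₜ t) = (b : A) • ψ t by simp [ψB, ψ', Algebra.smul_def]; rfl,
          smul_assoc, smul_comm (ψ t) (c : A), Subalgebra.coe_mul, mul_smul]
  have hTB : Submodule.span A (Set.range ψB) = ⊤ := by
    rw [eq_top_iff, ← hT]
    refine Submodule.span_mono ?_
    rintro _ ⟨t, rfl⟩
    exact ⟨1 ⊗ₜ t, by simp [ψB, ψ']⟩
  have hfibB : FibFlat (B ⊗[R] S₀) (B ⊗[R] M₀)
      (((q.comap (algebraMap A T)).comap (algebraMap B A)).map (algebraMap B (B ⊗[R] S₀))) (q.comap ψB) :=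
    fibFlat_descend (R := B) (S₀ := B ⊗[R] S₀) (T₀ := B ⊗[R] T₀) (M₀ := B ⊗[R] M₀) (A := A) (S := S) (T := T) (M := M) eS' ψB.toRingHom hψB hTB eM' hM' (q.comap (algebraMap A T)) q rfl hfib
  -- flatness over `B` at the induced prime
  haveI : Module.Flat B (LocalizedModule (q.comap ψB).primeCompl (B ⊗[R] M₀)) := by
    let ΦB : B ⊗[R] P₀ →ₐ[B] B ⊗[R] T₀ := Algebra.TensorProduct.map (AlgHom.id B B) φ
    letI := tensorModule R B P₀ M₀
    haveI := tensorModule_isScalarTower R B P₀ M₀
    have hactB : ∀ (s : B ⊗[R] P₀) (x : B ⊗[R] M₀), s • x = ΦB s • x := by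
      intro s x
      show tensorAct R B P₀ M₀ s x = tensorAct R B T₀ M₀ (ΦB s) x
      induction s using TensorProduct.induction_on with
      | zero => simp
      | add a b ha hb => simp only [map_add, LinearMap.add_apply, ha, hb]
      | tmul b s =>
        induction x using TensorProduct.induction_on with
        | zero => simp
        | add a b ha hb => simp only [map_add, ha, hb]
        | tmul c m => simp [ΦB, tensorAct_tmul, hact]
    have hΦB : Function.Surjective ΦB := Algebra.TensorProduct.map_surjective _ _ Function.surjective_id hφ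
    have key := (flat_localized_comap_iff (M := B ⊗[R] M₀) ΦB hΦB (q.comap ψB) hactB)
    refine key.1 (flat_localized_mono (primeAt (q.comap Φ) B) _ (le_of_eq ?_) (S := B ⊗[R] P₀))
    ext s
    show ψB (ΦB s) ∈ q ↔ Φ (Algebra.TensorProduct.map B.val (AlgHom.id R P₀) s) ∈ q
    suffices ψB (ΦB s) = Φ (Algebra.TensorProduct.map B.val (AlgHom.id R P₀) s) by rw [this]
    induction s using TensorProduct.induction_on with
    | zero => simp
    | add a b ha hb => simp only [map_add, ha, hb]
    | tmul b s => simp [ψB, ψ', ΦB, Φ]; rfl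
  have hpq : ((q.comap (algebraMap A T)).comap (algebraMap B A)).map (algebraMap B (B ⊗[R] T₀)) ≤
      q.comap ψB := by
    rw [Ideal.map_le_iff_le_comap]
    intro b hb
    show ψB (algebraMap B _ b) ∈ q
    rw [AlgHom.commutes]
    exact hb
  have hflatS : Module.Flat (B ⊗[R] S₀) (LocalizedModule (q.comap ψB).primeCompl (B ⊗[R] M₀)) :=
    flat_localized_of_fibFlat (R := B) _ _ hpq hfibB
  letI : Algebra (B ⊗[R] S₀) S := (eS'.toAlgHom.toRingHom.comp
    (Algebra.TensorProduct.includeRight (R := B) (A := A) (B := B ⊗[R] S₀)).toRingHom).toAlgebra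
  obtain ⟨e, he⟩ := exists_baseChange_equiv eS' (fun _ => rfl) eM' (fun s x => by
    show eM' (1 ⊗ₜ tensorAct R B T₀ M₀ (algebraMap (B ⊗[R] S₀) (B ⊗[R] T₀) s) x) = _
    rw [hM', hψB, algebraMap_smul]
    rfl)
  exact @flat_localized_baseChange (B ⊗[R] S₀) (B ⊗[R] T₀) _ _ _ (B ⊗[R] M₀) _ _ _ _ S _ _ T _ _
    ψB.toRingHom q _ M _ _ _ _ e (fun s m => by
    rw [he, he]
    exact hM' s m) hflatS

end Groth.Agent.FlatH4
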