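import Groth.Agent.Lib.FlatH4.FibreCritApps
import Groth.Agent.Lib.FlatH4.FlatLocusScheme
import Mathlib.AlgebraicGeometry.Pullbacks

/-!
# Flatness at a point and flatness on the fibre over a field
-/

universe u

namespace Groth.Agent.FlatH4

open TensorProduct LinearMap AlgebraicGeometry CategoryTheory

/-- Flat stalk maps of maps of spectra. -/
theorem flat_stalkMap_SpecMap_iff {R S : Type u} [CommRing R] [CommRing S] [Algebra R S]
    (p : ↥(Spec (CommRingCat.of S))) :
    ((Spec.map (CommRingCat.ofHom (algebraMap R S))).stalkMap p).hom.Flat ↔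
      Module.Flat R (LocalizedModule (PrimeSpectrum.asIdeal (show PrimeSpectrum S from p)).primeCompl S) := by
  refine (RingHom.Flat.respectsIso.arrow_mk_iso_iff (Scheme.arrowStalkMapSpecIso _ p)).trans ?_
  let q : PrimeSpectrum S := p
  show (Localization.localRingHom (q.asIdeal.comap (algebraMap R S)) q.asIdeal (algebraMap R S) rfl).Flat ↔
    Module.Flat R (LocalizedModule q.asIdeal.primeCompl S)
  let Rp := Localization.AtPrime (q.asIdeal.comap (algebraMap R S))
  let Sq := Localization.AtPrime q.asIdeal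
  let r := Localization.localRingHom (q.asIdeal.comap (algebraMap R S)) q.asIdeal (algebraMap R S) rfl
  change r.Flat ↔ _
  letI : Algebra Rp Sq := r.toAlgebra
  haveI : IsScalarTower R Rp Sq := IsScalarTower.of_algebraMap_eq fun x => by
    simp [r, Rp, Sq, RingHom.algebraMap_toAlgebra, Localization.localRingHom_to_map,
      IsScalarTower.algebraMap_apply R S (Localization.AtPrime q.asIdeal)]
  refine (RingHom.flat_algebraMap_iff).trans (Iff.trans ?_ (flat_localization_iff q.asIdeal).symm)
  exact Module.flat_iff_of_isLocalization Rp (q.asIdeal.comap (algebraMap R S)).primeCompl Sq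

variable (A B C K : Type u) [CommRing A] [CommRing B] [CommRing C] [Field K] [Algebra A B]
  [Algebra A C] [Algebra B C] [IsScalarTower A B C] [Algebra A K]

/-- The map `K ⊗ B → K ⊗ C`. -/
noncomputable def fibMap : K ⊗[A] B →ₐ[K] K ⊗[A] C :=
  Algebra.TensorProduct.map (AlgHom.id K K) (IsScalarTower.toAlgHom A B C)

variable {A B C K} in
/-- Flatness at a point passes to the fibre. -/
theorem flat_fibMap_of_flat (q' : Ideal (K ⊗[A] C)) [q'.IsPrime]
    [Module.Flat B (LocalizedModule (q'.comap
      (Algebra.TensorProduct.includeRight (R := A) (A := K) (B := C)).toRingHom).primeCompl C)] :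
    letI := (fibMap A B C K).toRingHom.toAlgebra
    Module.Flat (K ⊗[A] B) (LocalizedModule q'.primeCompl (K ⊗[A] C)) := by
  letI := (fibMap A B C K).toRingHom.toAlgebra
  haveI : IsScalarTower K (K ⊗[A] B) (K ⊗[A] C) :=
    IsScalarTower.of_algebraMap_eq fun k => ((fibMap A B C K).commutes k).symm
  letI : Algebra B (K ⊗[A] B) := Algebra.TensorProduct.rightAlgebra
  have hmap : ∀ b : B, algebraMap (K ⊗[A] B) (K ⊗[A] C) (algebraMap B (K ⊗[A] B) b) =
      (1 : K) ⊗ₜ algebraMap B C b := fun b => Algebra.TensorProduct.map_tmul _ _ _ _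
  obtain ⟨e, he⟩ := exists_baseChange_equiv (R := A) (A := K) (S₀ := B) (S := K ⊗[A] B) (M₀ := C)
    (M := K ⊗[A] C) AlgEquiv.refl (fun _ => rfl) (LinearEquiv.refl K _) (fun s m => by
      show (1 : K) ⊗ₜ[A] (s • m) = algebraMap (K ⊗[A] B) (K ⊗[A] C) (algebraMap B (K ⊗[A] B) s) * ((1 : K) ⊗ₜ[A] m)
      rw [hmap, Algebra.TensorProduct.tmul_mul_tmul, one_mul, Algebra.smul_def])
  refine flat_localized_baseChange (K ⊗[A] B)
    (Algebra.TensorProduct.includeRight (R := A) (A := K) (B := C)).toRingHom q' e fun s m => ?_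
  rw [he, he]
  show (1 : K) ⊗ₜ[A] (s * m) = ((1 : K) ⊗ₜ[A] s) * ((1 : K) ⊗ₜ[A] m)
  rw [Algebra.TensorProduct.tmul_mul_tmul, one_mul]

variable {A B C K} in
/-- Flatness at a point follows from flatness on the fibre and over the base. -/
theorem flat_of_flat_fibMap [Algebra.FiniteType A B] [Algebra.FinitePresentation A C]
    (q' : Ideal (K ⊗[A] C)) [q'.IsPrime]
    [Module.Flat A (LocalizedModule (q'.comap
      (Algebra.TensorProduct.includeRight (R := A) (A := K) (B := C)).toRingHom).primeCompl C)]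
    (h : letI := (fibMap A B C K).toRingHom.toAlgebra
      Module.Flat (K ⊗[A] B) (LocalizedModule q'.primeCompl (K ⊗[A] C))) :
    Module.Flat B (LocalizedModule (q'.comap
      (Algebra.TensorProduct.includeRight (R := A) (A := K) (B := C)).toRingHom).primeCompl C) := by
  letI := (fibMap A B C K).toRingHom.toAlgebra
  haveI : IsScalarTower K (K ⊗[A] B) (K ⊗[A] C) :=
    IsScalarTower.of_algebraMap_eq fun k => ((fibMap A B C K).commutes k).symm
  let ψ := (Algebra.TensorProduct.includeRight (R := A) (A := K) (B := C)).toRingHom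
  have hfib : FibFlat (K ⊗[A] B) (K ⊗[A] C) ((⊥ : Ideal K).map (algebraMap K (K ⊗[A] B))) q' := by
    intro N N' _ _ _ _ hN hN' g hg x hx
    exact exists_smul_eq_zero_of_flat_localized q' g hg x hx
  have hbot : q'.comap (algebraMap K (K ⊗[A] C)) = ⊥ :=
    (Ideal.eq_bot_or_top _).resolve_right (Ideal.IsPrime.ne_top inferInstance)
  have hfib₀ : FibFlat B C (((⊥ : Ideal K).comap (algebraMap A K)).map (algebraMap A B)) (q'.comap ψ) :=
    fibFlat_descend (R := A) (A := K) (S₀ := B) (T₀ := C) (M₀ := C) (S := K ⊗[A] B)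
    (T := K ⊗[A] C) (M := K ⊗[A] C) AlgEquiv.refl ψ
    (fun s => by
      show (1 : K) ⊗ₜ[A] algebraMap B C s = fibMap A B C K ((1 : K) ⊗ₜ[A] s)
      simp [fibMap])
    (by
      rw [eq_top_iff]
      intro z hz
      clear hz
      induction z using TensorProduct.induction_on with
      | zero => exact zero_mem _
      | add a b ha hb => exact add_mem ha hb
      | tmul k c =>
        rw [show k ⊗ₜ[A] c = k • ((1 : K) ⊗ₜ[A] c) by rw [TensorProduct.smul_tmul', smul_eq_mul, mul_one]]
        exact Submodule.smul_mem _ _ (Submodule.subset_span ⟨c, rfl⟩))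
    (LinearEquiv.refl K _)
    (fun t m => by
      show (1 : K) ⊗ₜ[A] (t * m) = ((1 : K) ⊗ₜ[A] t) * ((1 : K) ⊗ₜ[A] m)
      rw [Algebra.TensorProduct.tmul_mul_tmul, one_mul])
    ⊥ q' hbot hfib
  refine flat_localized_of_fibFlat_ft (A := A) (q'.comap ψ) ?_
  rw [show (q'.comap ψ).comap (algebraMap A C) = (⊥ : Ideal K).comap (algebraMap A K) by
    rw [← hbot, Ideal.comap_comap, Ideal.comap_comap]
    congr 1
    ext a
    show (1 : K) ⊗ₜ[A] algebraMap A C a = algebraMap A K a ⊗ₜ[A] (1 : C)
    rw [Algebra.algebraMap_eq_smul_one, Algebra.algebraMap_eq_smul_one, TensorProduct.smul_tmul]]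
  exact hfib₀

end Groth.Agent.FlatH4
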