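import Groth.Agent.Lib.FlatH4.GenFree

/-!
# Generic freeness of cokernels
-/

universe u

namespace Groth.Agent.FlatH4

open TensorProduct LinearMap

variable {R : Type u} [CommRing R]

/-- The variant of `GenFree.of_generating_endomorphism` for the quotient by the generators. -/
theorem GenFree.quotient_of_generating_endomorphism [IsDomain R] {P : Type u} [CommRing P] [Algebra R P]
    [IsNoetherianRing P]
    (IH : ∀ (Q : Type u) [AddCommGroup Q] [Module R Q] [Module P Q] [IsScalarTower R P Q]
      [Module.Finite P Q], GenFree R Q)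
    {M : Type u} [AddCommGroup M] [Module R M] [Module P M] [IsScalarTower R P M]
    (x : M →ₗ[P] M) (N : Submodule P M) (hN : N.FG)
    (hgen : ∀ U : Submodule P M, N ≤ U → U.map x ≤ U → U = ⊤) : GenFree R (M ⧸ N) := by
  let Ns : ℕ → Submodule P M := fun j => (fun U : Submodule P M => N ⊔ U.map x)^[j] ⊥
  have hsucc : ∀ j, Ns (j + 1) = N ⊔ (Ns j).map x := fun j => Function.iterate_succ_apply' _ j ⊥
  have hmono : Monotone Ns := monotone_nat_of_le_succ fun j => by
    induction j with
    | zero => exact bot_le
    | succ j ih =>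
      rw [hsucc j, hsucc (j + 1)]
      exact sup_le_sup le_rfl (Submodule.map_mono ih)
  have hpow : ∀ j, Ns (j + 1) = Ns j ⊔ N.map (x ^ j) := by
    intro j
    induction j with
    | zero =>
      show N ⊔ Submodule.map x ⊥ = ⊥ ⊔ N.map (x ^ 0)
      simp only [Submodule.map_bot, sup_bot_eq, bot_sup_eq, pow_zero, Module.End.one_eq_id,
        Submodule.map_id]
    | succ j ih =>
      rw [hsucc (j + 1)]
      conv_lhs => rw [ih, Submodule.map_sup, ← Submodule.map_comp, ← sup_assoc, ← hsucc j]
      rw [pow_succ', Module.End.mul_eq_comp]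
  let ψ : ∀ j : ℕ, N →ₗ[P] M ⧸ Ns j := fun j => ((Ns j).mkQ ∘ₗ ((x ^ j : Module.End P M) : M →ₗ[P] M)) ∘ₗ N.subtype
  let ker' : ℕ →o Submodule P N := ⟨fun j => LinearMap.ker (ψ j), monotone_nat_of_le_succ fun j y hy => by
    simp only [ψ, LinearMap.mem_ker, LinearMap.comp_apply, Submodule.mkQ_apply,
      Submodule.Quotient.mk_eq_zero] at hy ⊢
    rw [pow_succ', Module.End.mul_apply, hsucc j]
    exact Submodule.mem_sup_right (Submodule.mem_map_of_mem hy)⟩
  haveI : Module.Finite P N := Module.Finite.iff_fg.2 hN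
  haveI : IsNoetherian P N := isNoetherian_of_isNoetherianRing_of_finite P N
  obtain ⟨k, hk⟩ := monotone_stabilizes_iff_noetherian.2 inferInstance ker'
  have hQ : ∀ j, GenFree R (N ⧸ LinearMap.ker (ψ j)) := fun j => IH _
  choose f hf0 hf using hQ
  refine ⟨∏ j ∈ Finset.range (k + 1), f j, Finset.prod_ne_zero_iff.2 fun j _ => hf0 j,
    fun R' _ _ hflat hu => ?_⟩
  have hunit : ∀ j ≤ k, IsUnit (algebraMap R R' (f j)) := fun j hj => by
    rw [map_prod] at hu
    exact isUnit_of_dvd_unit (Finset.dvd_prod_of_mem (fun i => algebraMap R R' (f i)) (Finset.mem_range.2 (Nat.lt_succ_of_le hj))) hu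
  have hfree : ∀ j, Module.Free R' (R' ⊗[R] (N ⧸ LinearMap.ker (ψ j))) := by
    intro j
    rcases le_total j k with hj | hj
    · exact hf j R' hflat (hunit j hj)
    · have : LinearMap.ker (ψ j) = LinearMap.ker (ψ k) := (hk j hj).symm
      rw [this]
      exact hf k R' hflat (hunit k le_rfl)
  let Ms : ℕ → Submodule P (M ⧸ N) := fun j => (Ns (j + 1)).map N.mkQ
  have hmono' : Monotone Ms := fun a b hab => Submodule.map_mono (hmono (Nat.succ_le_succ hab))
  have hN1 : ∀ j, N ≤ Ns (j + 1) := fun j => by rw [hsucc j]; exact le_sup_left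
  have hle : ∀ {a b : ℕ}, a ≤ b →
      LinearMap.range (((Ms a).subtype.restrictScalars R).baseChange R') ≤
        LinearMap.range (((Ms b).subtype.restrictScalars R).baseChange R') := fun hab =>
    range_baseChange_le _ _ fun y hy => by
      obtain ⟨⟨y, hy'⟩, rfl⟩ := hy
      exact ⟨⟨y, hmono' hab hy'⟩, rfl⟩
  refine free_of_chain (fun j => LinearMap.range (((Ms j).subtype.restrictScalars R).baseChange R'))
    ?_ (fun a b hab => hle hab) ?_ fun j => ?_
  · rw [eq_bot_iff]
    rintro _ ⟨z, rfl⟩
    induction z using TensorProduct.induction_on with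
    | zero => simp
    | tmul r a =>
      obtain ⟨y, hy, hya⟩ := a.2
      have hy' : y ∈ N := by
        rw [hsucc 0] at hy
        simpa [Ns] using hy
      have : (a : M ⧸ N) = 0 := by
        rw [← hya]; exact (Submodule.Quotient.mk_eq_zero _).2 hy'
      simp [this]
    | add a b ha hb => rw [map_add]; exact add_mem ha hb
  · intro z
    have htop : (⨆ j, Ns j) = ⊤ := hgen _ (le_trans (hN1 0) (le_iSup Ns 1))
      (by
        rw [Submodule.map_iSup]
        exact iSup_le fun j => le_trans le_sup_right ((hsucc j).ge.trans (le_iSup Ns (j + 1))))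
    induction z using TensorProduct.induction_on with
    | zero => exact ⟨0, zero_mem _⟩
    | tmul r m =>
      obtain ⟨m, rfl⟩ := N.mkQ_surjective m
      obtain ⟨j, hj⟩ := (Submodule.mem_iSup_of_directed Ns hmono.directed_le).1
        (htop.ge (Submodule.mem_top (x := m)))
      exact ⟨j, r ⊗ₜ ⟨N.mkQ m, Submodule.mem_map_of_mem (hmono j.le_succ hj)⟩, by simp⟩
    | add a b ha hb =>
      obtain ⟨i, hi⟩ := ha
      obtain ⟨j, hj⟩ := hb
      exact ⟨max i j, add_mem (hle (le_max_left i j) hi) (hle (le_max_right i j) hj)⟩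
  · let i₀ : (N ⧸ LinearMap.ker (ψ (j + 1))) →ₗ[P] M ⧸ Ns (j + 1) :=
      (LinearMap.ker (ψ (j + 1))).liftQ (ψ (j + 1)) le_rfl
    let π : (M ⧸ N) →ₗ[P] M ⧸ Ns (j + 1) := N.liftQ (Ns (j + 1)).mkQ (by
      rw [Submodule.ker_mkQ]; exact hN1 j)
    refine ⟨R' ⊗[R] (N ⧸ LinearMap.ker (ψ (j + 1))), R' ⊗[R] (M ⧸ Ns (j + 1)), inferInstance,
      inferInstance, inferInstance, inferInstance, (π.restrictScalars R).baseChange R',
      (i₀.restrictScalars R).baseChange R', hfree (j + 1), ?_, ?_, ?_⟩
    · have hex : Function.Exact ((Ms j).subtype.restrictScalars R) (π.restrictScalars R) := fun y => by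
        obtain ⟨y, rfl⟩ := N.mkQ_surjective y
        constructor
        · intro h
          have hy : y ∈ Ns (j + 1) := (Submodule.Quotient.mk_eq_zero _).1 h
          exact ⟨⟨N.mkQ y, Submodule.mem_map_of_mem hy⟩, rfl⟩
        · rintro ⟨⟨_, z, hz, rfl⟩, hzy⟩
          rw [← hzy]
          exact (Submodule.Quotient.mk_eq_zero _).2 hz
      have hs : Function.Surjective (π.restrictScalars R) := fun y => by
        obtain ⟨y, rfl⟩ := (Ns (j + 1)).mkQ_surjective y
        exact ⟨N.mkQ y, rfl⟩
      ext z
      simp only [LinearMap.mem_ker, LinearMap.mem_range, LinearMap.baseChange_eq_ltensor]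
      exact (lTensor_exact R' hex hs) z
    · have hi : Function.Injective i₀ := LinearMap.ker_eq_bot.1
        (Submodule.ker_liftQ_eq_bot (LinearMap.ker (ψ (j + 1))) (ψ (j + 1)) le_rfl le_rfl)
      have hi' : Function.Injective (i₀.restrictScalars R) := fun a b h => hi h
      intro a b h
      exact Module.Flat.lTensor_preserves_injective_linearMap (M := R') (i₀.restrictScalars R) hi' h
    · rw [← LinearMap.range_comp, ← LinearMap.baseChange_comp]
      have heq : LinearMap.range (i₀.restrictScalars R) =
          LinearMap.range ((π.restrictScalars R) ∘ₗ ((Ms (j + 1)).subtype.restrictScalars R)) := by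
        apply le_antisymm
        · rintro _ ⟨q, rfl⟩
          obtain ⟨y, rfl⟩ := Submodule.mkQ_surjective _ q
          exact ⟨⟨N.mkQ ((x ^ (j + 1)) y), Submodule.mem_map_of_mem ((hpow (j + 1)).ge
            (Submodule.mem_sup_right (Submodule.mem_map_of_mem y.2)))⟩, rfl⟩
        · rintro _ ⟨⟨_, z, hz, rfl⟩, rfl⟩
          obtain ⟨a, ha, _, ⟨y, hy, rfl⟩, rfl⟩ := Submodule.mem_sup.1 ((hpow (j + 1)).le hz)
          refine ⟨Submodule.mkQ _ ⟨y, hy⟩, ?_⟩
          show (Ns (j + 1)).mkQ ((x ^ (j + 1)) y) = (Ns (j + 1)).mkQ (a + (x ^ (j + 1)) y)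
          simp only [map_add, Submodule.mkQ_apply, (Submodule.Quotient.mk_eq_zero _).2 ha, zero_add]
      exact le_antisymm (range_baseChange_le _ _ heq.le) (range_baseChange_le _ _ heq.ge)

theorem GenFree.of_equiv {M M' : Type u} [AddCommGroup M] [Module R M] [AddCommGroup M'] [Module R M']
    (e : M ≃ₗ[R] M') (h : GenFree R M) : GenFree R M' := by
  obtain ⟨f, hf, h⟩ := h
  refine ⟨f, hf, fun R' _ _ h1 h2 => ?_⟩
  haveI := h R' h1 h2
  exact Module.Free.of_equiv (e.baseChange R R')

theorem GenFree.of_extension [IsDomain R] {Q M P : Type u} [AddCommGroup Q] [Module R Q]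
    [AddCommGroup M] [Module R M] [AddCommGroup P] [Module R P] (i : Q →ₗ[R] M) (p : M →ₗ[R] P)
    (hi : Function.Injective i) (hex : Function.Exact i p) (hp : Function.Surjective p)
    (hQ : GenFree R Q) (hP : GenFree R P) : GenFree R M := by
  obtain ⟨f, hf, hQ⟩ := hQ
  obtain ⟨g, hg, hP⟩ := hP
  refine ⟨f * g, mul_ne_zero hf hg, fun R' _ _ hflat hu => ?_⟩
  rw [map_mul, IsUnit.mul_iff] at hu
  haveI := hQ R' hflat hu.1
  haveI := hP R' hflat hu.2
  obtain ⟨l, hl⟩ := Module.projective_lifting_property (p.baseChange R') LinearMap.id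
    (LinearMap.lTensor_surjective R' hp)
  have hi' : Function.Injective (i.baseChange R') :=
    Module.Flat.lTensor_preserves_injective_linearMap (M := R') i hi
  have hex' : Function.Exact (i.baseChange R') (p.baseChange R') := lTensor_exact R' hex hp
  refine Module.Free.of_equiv (LinearEquiv.ofBijective ((i.baseChange R').coprod l) ⟨?_, fun y => ?_⟩)
  · rw [injective_iff_map_eq_zero]
    rintro ⟨a, b⟩ hab
    rw [LinearMap.coprod_apply] at hab
    have hb : b = 0 := by
      have := congrArg (p.baseChange R') hab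
      rw [map_add, map_zero, hex'.apply_apply_eq_zero, zero_add] at this
      rwa [show (p.baseChange R') (l b) = b from LinearMap.congr_fun hl b] at this
    subst hb
    rw [map_zero, add_zero] at hab
    rw [(injective_iff_map_eq_zero _).1 hi' a hab]
    rfl
  · obtain ⟨a, ha⟩ := (hex' (y - l (p.baseChange R' y))).1 (by
      rw [map_sub, show (p.baseChange R') (l _) = _ from LinearMap.congr_fun hl _, LinearMap.id_apply,
        sub_self])
    exact ⟨(a, p.baseChange R' y), by rw [LinearMap.coprod_apply, ha, sub_add_cancel]⟩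

/-- Generic freeness of the quotient of a module over a polynomial ring by a finitely generated
submodule over the coefficients. -/
theorem GenFree.quotient_of_mvPolynomial [IsDomain R] [IsNoetherianRing R] (A : Type u) [CommRing A]
    [Algebra R A] [Algebra.FiniteType R A] :
    ∀ (n : ℕ) (M : Type u) [AddCommGroup M] [Module R M] [Module A M] [IsScalarTower R A M]
      [Module (MvPolynomial (Fin n) A) M] [IsScalarTower A (MvPolynomial (Fin n) A) M]
      [Module.Finite (MvPolynomial (Fin n) A) M] (M₀ : Submodule A M), M₀.FG →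
      GenFree R (M ⧸ M₀) := by
  haveI : IsNoetherianRing A := Algebra.FiniteType.isNoetherianRing R A
  intro n
  induction n with
  | zero =>
    intro M _ _ _ _ _ _ _ M₀ _
    haveI : Module.Finite A (MvPolynomial (Fin 0) A) :=
      Module.Finite.equiv (MvPolynomial.isEmptyAlgEquiv A (Fin 0)).symm.toLinearEquiv
    haveI : Module.Finite A M := Module.Finite.trans (MvPolynomial (Fin 0) A) M
    exact GenFree.of_finiteType A (M ⧸ M₀)
  | succ n ih =>
    intro M _ _ _ _ _ _ hfin M₀ hM₀
    let ι : MvPolynomial (Fin n) A →ₐ[A] MvPolynomial (Fin (n + 1)) A :=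
      MvPolynomial.rename Fin.succ
    letI : Module (MvPolynomial (Fin n) A) M := Module.compHom M ι.toRingHom
    haveI : IsScalarTower A (MvPolynomial (Fin n) A) M := IsScalarTower.of_algebraMap_smul fun r m => by
      show ι (algebraMap A _ r) • m = r • m
      rw [AlgHom.commutes, algebraMap_smul]
    haveI : IsScalarTower R (MvPolynomial (Fin n) A) M := IsScalarTower.of_algebraMap_smul fun r m => by
      rw [IsScalarTower.algebraMap_apply R A (MvPolynomial (Fin n) A), algebraMap_smul, algebraMap_smul]
    let x : M →ₗ[MvPolynomial (Fin n) A] M :=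
      { toFun := fun m => (MvPolynomial.X 0 : MvPolynomial (Fin (n + 1)) A) • m
        map_add' := fun a b => smul_add _ a b
        map_smul' := fun p m => by
          show (MvPolynomial.X 0 : MvPolynomial (Fin (n + 1)) A) • ι p • m =
            ι p • (MvPolynomial.X 0 : MvPolynomial (Fin (n + 1)) A) • m
          rw [← mul_smul, mul_comm, mul_smul] }
    obtain ⟨s, hs⟩ := hfin.fg_top
    obtain ⟨s₀, hs₀⟩ := hM₀
    let U₁ := Submodule.span (MvPolynomial (Fin n) A) ((s : Set M) ∪ s₀)
    have hU₁ : U₁.FG := Submodule.fg_span (s.finite_toSet.union s₀.finite_toSet)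
    have hM₀U : M₀ ≤ U₁.restrictScalars A := hs₀ ▸ Submodule.span_le.2 fun y hy =>
      Submodule.subset_span (Or.inr hy)
    have hgen : ∀ U : Submodule (MvPolynomial (Fin n) A) M, U₁ ≤ U → U.map x ≤ U → U = ⊤ := by
      intro U hU hxU
      rw [eq_top_iff]
      intro m _
      have hstable : ∀ (p : MvPolynomial (Fin (n + 1)) A), ∀ u ∈ U, p • u ∈ U := by
        intro p
        induction p using MvPolynomial.induction_on with
        | C r =>
          intro u hu
          have := U.smul_mem (algebraMap A (MvPolynomial (Fin n) A) r) hu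
          rw [algebraMap_smul] at this
          rwa [← MvPolynomial.algebraMap_eq, algebraMap_smul]
        | add p q hp hq => intro u hu; rw [add_smul]; exact add_mem (hp u hu) (hq u hu)
        | mul_X p i hp =>
          intro u hu
          rw [mul_smul]
          refine hp _ ?_
          induction i using Fin.cases with
          | zero => exact hxU (Submodule.mem_map_of_mem (f := x) hu)
          | succ i =>
            have : ι (MvPolynomial.X i) • u ∈ U := U.smul_mem (MvPolynomial.X i) hu
            simpa [ι] using this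
      have hm : m ∈ Submodule.span (MvPolynomial (Fin (n + 1)) A) (s : Set M) := hs.ge Submodule.mem_top
      induction hm using Submodule.span_induction with
      | mem y hy => exact hU (Submodule.subset_span (Or.inl hy))
      | zero => exact zero_mem _
      | add a b _ _ ha hb => exact add_mem (ha trivial) (hb trivial)
      | smul p a _ ha => exact hstable p a (ha trivial)
    haveI : Algebra.FiniteType R (MvPolynomial (Fin n) A) :=
      Algebra.FiniteType.trans (S := A) inferInstance inferInstance
    have hP : GenFree R (M ⧸ U₁) := GenFree.quotient_of_generating_endomorphism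
      (fun Q _ _ _ _ _ => GenFree.of_finiteType (MvPolynomial (Fin n) A) Q) x U₁ hU₁ hgen
    haveI : Module.Finite (MvPolynomial (Fin n) A) U₁ := Module.Finite.iff_fg.2 hU₁
    have hQ : GenFree R (U₁ ⧸ M₀.comap (U₁.subtype.restrictScalars A)) :=
      ih U₁ _ (Submodule.fg_of_fg_map_injective (U₁.subtype.restrictScalars A)
        (fun a b h => Subtype.ext h) (by
          rw [Submodule.map_comap_eq]
          have : LinearMap.range (U₁.subtype.restrictScalars A) ⊓ M₀ = M₀ :=
            inf_eq_right.2 fun y hy => ⟨⟨y, hM₀U hy⟩, rfl⟩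
          rw [this]
          exact ⟨s₀, hs₀⟩))
    refine GenFree.of_extension
      (((M₀.comap (U₁.subtype.restrictScalars A)).mapQ M₀ (U₁.subtype.restrictScalars A) le_rfl).restrictScalars R)
      ((M₀.liftQ (U₁.mkQ.restrictScalars A) fun y hy => (Submodule.Quotient.mk_eq_zero _).2 (hM₀U hy)).restrictScalars R)
      ?_ ?_ ?_ hQ hP
    · rw [injective_iff_map_eq_zero]
      intro y hy
      obtain ⟨y, rfl⟩ := Submodule.mkQ_surjective _ y
      exact (Submodule.Quotient.mk_eq_zero _).2
        (show (U₁.subtype y) ∈ M₀ from (Submodule.Quotient.mk_eq_zero M₀).1 hy)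
    · intro y
      obtain ⟨y, rfl⟩ := Submodule.mkQ_surjective _ y
      constructor
      · intro h
        have hy : y ∈ U₁ := (Submodule.Quotient.mk_eq_zero _).1 h
        exact ⟨Submodule.mkQ _ ⟨y, hy⟩, rfl⟩
      · rintro ⟨z, hz⟩
        obtain ⟨z, rfl⟩ := Submodule.mkQ_surjective _ z
        rw [← hz]
        exact (Submodule.Quotient.mk_eq_zero _).2 z.2
    · intro y
      obtain ⟨y, rfl⟩ := Submodule.mkQ_surjective _ y
      exact ⟨Submodule.mkQ _ y, rfl⟩

end Groth.Agent.FlatH4
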