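import Groth.Agent.Lib.FlatH4.GenFree
import Mathlib.RingTheory.MvPolynomial.Localization
import Mathlib.RingTheory.TensorProduct.MvPolynomial
import Mathlib.LinearAlgebra.TensorProduct.Pi
import Mathlib.RingTheory.Adjoin.FG
import Mathlib.RingTheory.Localization.BaseChange
import Mathlib.RingTheory.Localization.FractionRing

/-!
# Generic freeness over arbitrary domains
-/

universe u

namespace Groth.Agent.FlatH4

open TensorProduct LinearMap

variable {R : Type u} [CommRing R] [IsDomain R] {n m : ℕ}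
variable {M : Type u} [AddCommGroup M] [Module R M] [Module (MvPolynomial (Fin n) R) M]
  [IsScalarTower R (MvPolynomial (Fin n) R) M]

local notation "P" => MvPolynomial (Fin n) R

/-- Torsion is preserved by tensor products. -/
theorem exists_smul_eq_zero_tensor {R : Type u} [CommRing R] [IsDomain R] (F N : Type u)
    [AddCommGroup F] [Module R F] [AddCommGroup N] [Module R N]
    (h : ∀ b : N, ∃ r : R, r ≠ 0 ∧ r • b = 0) (z : F ⊗[R] N) : ∃ r : R, r ≠ 0 ∧ r • z = 0 := by
  induction z using TensorProduct.induction_on with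
  | zero => exact ⟨1, one_ne_zero, by simp⟩
  | tmul a b =>
    obtain ⟨r, hr, hrb⟩ := h b
    exact ⟨r, hr, by rw [← TensorProduct.tmul_smul, hrb, TensorProduct.tmul_zero]⟩
  | add a b ha hb =>
    obtain ⟨ra, hra, ha⟩ := ha
    obtain ⟨rb, hrb, hb⟩ := hb
    refine ⟨ra * rb, mul_ne_zero hra hrb, ?_⟩
    rw [smul_add, mul_smul, mul_smul, smul_comm ra rb a, ha, hb, smul_zero, smul_zero, add_zero]

/-- A surjection with torsion kernel becomes bijective where the source becomes free. -/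
theorem baseChange_bijective_of_torsion {R : Type u} [CommRing R] [IsDomain R] (F : Type u)
    [CommRing F] [IsDomain F] [Algebra R F] {N M : Type u} [AddCommGroup N] [Module R N]
    [AddCommGroup M] [Module R M] [Module.Free F (F ⊗[R] N)] (Θ : N →ₗ[R] M)
    (hΘ : Function.Surjective Θ) (htors : ∀ z, Θ z = 0 → ∃ r : R, r ≠ 0 ∧ r • z = 0)
    (hinjF : Function.Injective (algebraMap R F)) : Function.Bijective (Θ.baseChange F) := by
  refine ⟨?_, LinearMap.lTensor_surjective F hΘ⟩
  rw [injective_iff_map_eq_zero]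
  intro z hz
  obtain ⟨η, rfl⟩ := (lTensor_exact F (LinearMap.exact_subtype_ker_map Θ) hΘ z).1 hz
  obtain ⟨r, hr, hrη⟩ := exists_smul_eq_zero_tensor F (LinearMap.ker Θ) (fun b => by
      obtain ⟨r, hr, hrb⟩ := htors b b.2
      exact ⟨r, hr, Subtype.ext hrb⟩) η
  have h1 : r • (LinearMap.ker Θ).subtype.lTensor F η = 0 := by
    rw [← map_smul, hrη, map_zero]
  rw [← algebraMap_smul F r] at h1
  exact (smul_eq_zero.1 h1).resolve_left ((map_ne_zero_iff _ hinjF).2 hr)

/-- The kernel of a base-changed surjection is spanned by the kernel of the surjection. -/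
theorem apply_mem_of_baseChange_eq_zero {R₀ R : Type u} [CommRing R₀] [CommRing R] [Algebra R₀ R]
    {V U X : Type u} [AddCommGroup V] [Module R₀ V] [AddCommGroup U] [Module R₀ U]
    [AddCommGroup X] [Module R X] (p : V →ₗ[R₀] U) (hp : Function.Surjective p)
    (Ψ : R ⊗[R₀] V →ₗ[R] X) (W : Submodule R X) (h : ∀ v, p v = 0 → Ψ ((1 : R) ⊗ₜ[R₀] v) ∈ W)
    (w : R ⊗[R₀] V) (hw : p.baseChange R w = 0) : Ψ w ∈ W := by
  obtain ⟨η, rfl⟩ := (lTensor_exact R (LinearMap.exact_subtype_ker_map p) hp w).1 hw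
  clear hw
  induction η using TensorProduct.induction_on with
  | zero => simp
  | add a b ha hb => rw [map_add, map_add]; exact add_mem ha hb
  | tmul r v =>
    rw [LinearMap.lTensor_tmul, show r ⊗ₜ[R₀] ((LinearMap.ker p).subtype v) =
      r • ((1 : R) ⊗ₜ[R₀] (v : V)) by simp [TensorProduct.smul_tmul'], map_smul]
    exact W.smul_mem r (h v v.2)

/-- Abstract core of generic freeness: descend a presentation to `R₀`. -/
theorem exists_free_of_descent {R₀ R : Type u} [CommRing R₀] [CommRing R] [IsDomain R] [Algebra R₀ R]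
    {V U X M : Type u} [AddCommGroup V] [Module R₀ V] [AddCommGroup U] [Module R₀ U]
    [AddCommGroup X] [Module R X] [AddCommGroup M] [Module R M]
    (p : V →ₗ[R₀] U) (hp : Function.Surjective p) (Ψ : R ⊗[R₀] V ≃ₗ[R] X)
    (π : X →ₗ[R] M) (hπ : Function.Surjective π) (Θ : R ⊗[R₀] U →ₗ[R] M)
    (hΘρ : ∀ w, Θ (p.baseChange R w) = π (Ψ w))
    (htors : ∀ z, Θ z = 0 → ∃ r : R, r ≠ 0 ∧ r • z = 0)
    (W : Submodule R X) (hW : ∀ v, p v = 0 → Ψ ((1 : R) ⊗ₜ[R₀] v) ∈ W)
    (hinj : Function.Injective (algebraMap R₀ R)) (f₀ : R₀) (hf₀ : f₀ ≠ 0)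
    (hfree₀ : ∀ (R' : Type u) [CommRing R'] [Algebra R₀ R'], Module.Flat R₀ R' →
      IsUnit (algebraMap R₀ R' f₀) → Module.Free R' (R' ⊗[R₀] U)) :
    ∃ f : R, f ≠ 0 ∧
      (∀ (R' : Type u) [CommRing R'] [Algebra R R'], IsUnit (algebraMap R R' f) →
        Module.Free R' (R' ⊗[R] M)) ∧
      ∀ ℓ, π ℓ = 0 → ∃ k : ℕ, f ^ k • ℓ ∈ W := by
  let f : R := algebraMap R₀ R f₀
  have hf : f ≠ 0 := fun h => hf₀ (hinj (h.trans (map_zero _).symm))
  have hΘ : Function.Surjective Θ := fun x => by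
    obtain ⟨y, rfl⟩ := hπ x
    exact ⟨p.baseChange R (Ψ.symm y), by rw [hΘρ, Ψ.apply_symm_apply]⟩
  let A := Localization.Away f₀
  let F := Localization.Away f
  haveI : IsDomain F := IsLocalization.isDomain_localization
    (powers_le_nonZeroDivisors_of_noZeroDivisors hf)
  have hinjF : Function.Injective (algebraMap R F) :=
    IsLocalization.injective F (powers_le_nonZeroDivisors_of_noZeroDivisors hf)
  haveI : Module.Flat R₀ A := IsLocalization.flat A (Submonoid.powers f₀)
  haveI : Module.Free A (A ⊗[R₀] U) := hfree₀ A inferInstance (IsLocalization.Away.algebraMap_isUnit f₀)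
  have huF : IsUnit (algebraMap R₀ F f₀) := by
    rw [IsScalarTower.algebraMap_apply R₀ R F]
    exact IsLocalization.Away.algebraMap_isUnit f
  letI : Algebra A F := (IsLocalization.Away.lift f₀ huF).toAlgebra
  haveI : IsScalarTower R₀ A F := IsScalarTower.of_algebraMap_eq fun x =>
    (IsLocalization.Away.lift_eq f₀ huF x).symm
  haveI : Module.Free F (F ⊗[R₀] U) :=
    Module.Free.of_equiv (AlgebraTensorModule.cancelBaseChange R₀ A F F U)
  haveI : Module.Free F (F ⊗[R] (R ⊗[R₀] U)) :=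
    Module.Free.of_equiv (AlgebraTensorModule.cancelBaseChange R₀ R F F U).symm
  have hbij : Function.Bijective (Θ.baseChange F) :=
    baseChange_bijective_of_torsion F Θ hΘ htors hinjF
  haveI : Module.Free F (F ⊗[R] M) :=
    Module.Free.of_equiv (LinearEquiv.ofBijective (Θ.baseChange F) hbij)
  refine ⟨f, hf, fun R' _ _ hu => ?_, fun ℓ hℓ => ?_⟩
  · letI : Algebra F R' := (IsLocalization.Away.lift f hu).toAlgebra
    haveI : IsScalarTower R F R' := IsScalarTower.of_algebraMap_eq fun x =>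
      (IsLocalization.Away.lift_eq f hu x).symm
    exact Module.Free.of_equiv (AlgebraTensorModule.cancelBaseChange R F R' R' M)
  · let z := p.baseChange R (Ψ.symm ℓ)
    have hz : Θ z = 0 := by rw [hΘρ, Ψ.apply_symm_apply, hℓ]
    have h1 : (1 : F) ⊗ₜ[R] z = 0 := hbij.1 (by simp [hz])
    haveI : IsLocalizedModule (Submonoid.powers f) (TensorProduct.mk R F (R ⊗[R₀] U) 1) :=
      (isLocalizedModule_iff_isBaseChange (Submonoid.powers f) F _).2
        (TensorProduct.isBaseChange R _ F)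
    obtain ⟨⟨_, k, rfl⟩, hk⟩ :=
      (IsLocalizedModule.eq_zero_iff (Submonoid.powers f) (TensorProduct.mk R F _ 1)).1 h1
    refine ⟨k, ?_⟩
    rw [← Ψ.apply_symm_apply (f ^ k • ℓ)]
    refine apply_mem_of_baseChange_eq_zero p hp Ψ.toLinearMap W hW _ ?_
    rw [map_smul Ψ.symm, map_smul]
    exact hk

omit [Module R M] [IsScalarTower R P M] in
/-- A finitely generated kernel up to `R`-torsion. -/
theorem exists_finset_torsion (π : (Fin m → P) →ₗ[P] M) :
    ∃ s : Finset (Fin m → P), (∀ ℓ ∈ s, π ℓ = 0) ∧ ∀ ℓ, π ℓ = 0 →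
      ∃ r : R, r ≠ 0 ∧ r • ℓ ∈ Submodule.span P (s : Set (Fin m → P)) := by
  classical
  let K := FractionRing R
  let Q := MvPolynomial (Fin n) K
  let φ : P →+* Q := MvPolynomial.map (algebraMap R K)
  letI : Algebra P Q := MvPolynomial.algebraMvPolynomial
  let e : (Fin m → P) → (Fin m → Q) := fun v i => φ (v i)
  have he : Function.Injective e := fun a b h => funext fun i =>
    MvPolynomial.map_injective _ (IsFractionRing.injective R K) (congrFun h i)
  haveI : IsNoetherian Q (Fin m → Q) := isNoetherian_pi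
  obtain ⟨t, ht, hspan⟩ := (Submodule.fg_span_iff_fg_span_finset_subset (e '' {ℓ | π ℓ = 0})).1
    (IsNoetherian.noetherian (Submodule.span Q (e '' {ℓ | π ℓ = 0})))
  obtain ⟨s, hs, rfl⟩ := Finset.subset_set_image_iff.1 ht
  refine ⟨s, fun ℓ hℓ => hs hℓ, fun ℓ hℓ => ?_⟩
  have h1 : e ℓ ∈ Submodule.span Q (e '' (s : Set (Fin m → P))) := by
    rw [← Finset.coe_image, ← hspan]
    exact Submodule.subset_span ⟨ℓ, hℓ, rfl⟩
  suffices ∀ y ∈ Submodule.span Q (e '' (s : Set (Fin m → P))),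
      ∃ r : R, r ≠ 0 ∧ ∃ v ∈ Submodule.span P (s : Set (Fin m → P)),
        ∀ i, φ (MvPolynomial.C r) * y i = φ (v i) by
    obtain ⟨r, hr, v, hv, hrv⟩ := this _ h1
    refine ⟨r, hr, ?_⟩
    convert hv
    refine he (funext fun i => ?_)
    show φ (r • ℓ i) = φ (v i)
    rw [← hrv i, MvPolynomial.smul_eq_C_mul, map_mul]
  intro y hy
  induction hy using Submodule.span_induction with
  | mem y hy =>
    obtain ⟨v, hv, rfl⟩ := hy
    exact ⟨1, one_ne_zero, v, Submodule.subset_span hv, fun i => by simp [e]⟩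
  | zero => exact ⟨1, one_ne_zero, 0, zero_mem _, fun i => by simp⟩
  | add a b _ _ ha hb =>
    obtain ⟨ra, hra, va, hva, hea⟩ := ha
    obtain ⟨rb, hrb, vb, hvb, heb⟩ := hb
    refine ⟨ra * rb, mul_ne_zero hra hrb, MvPolynomial.C rb • va + MvPolynomial.C ra • vb,
      add_mem (Submodule.smul_mem _ _ hva) (Submodule.smul_mem _ _ hvb), fun i => ?_⟩
    simp only [Pi.add_apply, Pi.smul_apply, smul_eq_mul, map_add, map_mul, mul_add, ← hea, ← heb]
    ring
  | smul q a _ ha =>
    obtain ⟨ra, hra, va, hva, hea⟩ := ha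
    obtain ⟨⟨p, ⟨_, ⟨d, hd, rfl⟩⟩⟩, hp⟩ := IsLocalization.surj
      ((nonZeroDivisors R).map (MvPolynomial.C (σ := Fin n))) q
    refine ⟨d * ra, mul_ne_zero (nonZeroDivisors.ne_zero hd) hra, p • va,
      Submodule.smul_mem _ _ hva, fun i => ?_⟩
    simp only [Pi.smul_apply, smul_eq_mul, map_mul, ← hea]
    have hp' : q * φ (MvPolynomial.C d) = φ p := hp
    rw [← hp']
    ring

set_option maxHeartbeats 600000 in
/-- The main technical statement of generic freeness over a domain. -/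
theorem exists_free_and_fg_kernel (π : (Fin m → P) →ₗ[P] M) (hπ : Function.Surjective π) :
    ∃ f : R, f ≠ 0 ∧
      (∀ (R' : Type u) [CommRing R'] [Algebra R R'], IsUnit (algebraMap R R' f) →
        Module.Free R' (R' ⊗[R] M)) ∧
      ∃ W : Submodule P (Fin m → P), W.FG ∧ W ≤ LinearMap.ker π ∧
        ∀ ℓ, π ℓ = 0 → ∃ k : ℕ, f ^ k • ℓ ∈ W := by
  classical
  obtain ⟨s, hs0, hstors⟩ := exists_finset_torsion π
  let cs : Finset R := s.biUnion fun ℓ =>
    Finset.univ.biUnion fun i => (ℓ i).support.image fun d => (ℓ i).coeff d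
  let R₀ := Algebra.adjoin ℤ (cs : Set R)
  haveI : IsNoetherianRing R₀ :=
    isNoetherianRing_of_fg (Subalgebra.fg_def.2 ⟨_, cs.finite_toSet, rfl⟩)
  let ι := algebraMap R₀ R
  letI : Algebra (MvPolynomial (Fin n) R₀) P := MvPolynomial.algebraMvPolynomial
  letI : Module (MvPolynomial (Fin n) R₀) M :=
    Module.compHom M (MvPolynomial.map (σ := Fin n) ι)
  haveI : IsScalarTower (MvPolynomial (Fin n) R₀) P M :=
    IsScalarTower.of_algebraMap_smul fun p x => rfl
  haveI : IsScalarTower R₀ (MvPolynomial (Fin n) R₀) M := IsScalarTower.of_algebraMap_smul fun r x => by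
    show MvPolynomial.map (σ := Fin n) ι (algebraMap R₀ _ r) • x = r • x
    rw [MvPolynomial.algebraMap_eq, MvPolynomial.map_C, ← MvPolynomial.algebraMap_eq, algebraMap_smul]
    rfl
  let c : (Fin m → MvPolynomial (Fin n) R₀) →ₗ[MvPolynomial (Fin n) R₀] (Fin m → P) :=
    (Algebra.linearMap (MvPolynomial (Fin n) R₀) P).compLeft (Fin m)
  let π₀ := (π.restrictScalars (MvPolynomial (Fin n) R₀)) ∘ₗ c
  haveI : Module.Finite (MvPolynomial (Fin n) R₀) (LinearMap.range π₀) := Module.Finite.range _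
  obtain ⟨f₀, hf₀, hfree₀⟩ :=
    GenFree.of_finiteType (R := R₀) (MvPolynomial (Fin n) R₀) (LinearMap.range π₀)
  let Ψ : R ⊗[R₀] (Fin m → MvPolynomial (Fin n) R₀) ≃ₗ[R] (Fin m → P) :=
    TensorProduct.piRight R₀ R R (fun _ : Fin m => MvPolynomial (Fin n) R₀) ≪≫ₗ
      LinearEquiv.piCongrRight fun _ => (MvPolynomial.algebraTensorAlgEquiv R₀ R).toLinearEquiv
  have hΨ : ∀ (r : R) v, Ψ (r ⊗ₜ[R₀] v) = r • c v := fun r v => funext fun i =>
    MvPolynomial.algebraTensorAlgEquiv_tmul R₀ R r (v i)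
  let ρ : R ⊗[R₀] (Fin m → MvPolynomial (Fin n) R₀) →ₗ[R] R ⊗[R₀] (LinearMap.range π₀) :=
    (π₀.rangeRestrict.restrictScalars R₀).baseChange R
  let Θ : R ⊗[R₀] (LinearMap.range π₀) →ₗ[R] M :=
    ((LinearMap.range π₀).subtype.restrictScalars R₀).liftBaseChange R
  have hρ : Function.Surjective ρ := LinearMap.lTensor_surjective R π₀.surjective_rangeRestrict
  have hΘρ : ∀ w, Θ (ρ w) = π (Ψ w) := by
    intro w
    induction w using TensorProduct.induction_on with
    | zero => simp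
    | tmul r v =>
      rw [hΨ, π.map_smul_of_tower]
      simp [Θ, ρ, π₀]
    | add a b ha hb => simp only [map_add, ha, hb]
  have hΘ : Function.Surjective Θ := fun x => by
    obtain ⟨y, rfl⟩ := hπ x
    exact ⟨ρ (Ψ.symm y), by rw [hΘρ, Ψ.apply_symm_apply]⟩
  -- the kernel of `Θ` is torsion
  have hvanish : ∀ y ∈ Submodule.span P (s : Set (Fin m → P)), ∀ p : P, ρ (Ψ.symm (p • y)) = 0 := by
    intro y hy
    induction hy using Submodule.span_induction with
    | zero => intro p; simp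
    | add a b _ _ ha hb => intro p; rw [smul_add, map_add, map_add, ha p, hb p, add_zero]
    | smul q a _ ha => intro p; rw [← mul_smul]; exact ha _
    | mem ℓ hℓ =>
      have hr : ∀ i, ℓ i ∈ (MvPolynomial.map (σ := Fin n) ι).range := fun i => by
        rw [RingHom.mem_range, ← Set.mem_range, MvPolynomial.mem_range_map_iff_coeffs_subset]
        intro a ha
        obtain ⟨d, hd, rfl⟩ := MvPolynomial.mem_coeffs_iff.1 ha
        exact ⟨⟨_, Algebra.subset_adjoin (Finset.mem_biUnion.2 ⟨ℓ, hℓ, Finset.mem_biUnion.2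
          ⟨i, Finset.mem_univ _, Finset.mem_image.2 ⟨d, hd, rfl⟩⟩⟩)⟩, rfl⟩
      choose ℓ₀ hℓ₀ using hr
      have hc : c ℓ₀ = ℓ := funext hℓ₀
      intro p
      induction p using MvPolynomial.induction_on' with
      | add a b ha hb => rw [add_smul, map_add, map_add, ha, hb, add_zero]
      | monomial d a =>
        have : Ψ.symm (MvPolynomial.monomial d a • ℓ) =
            a ⊗ₜ[R₀] ((MvPolynomial.monomial d (1 : R₀)) • ℓ₀) := by
          apply Ψ.injective
          rw [Ψ.apply_symm_apply, hΨ, map_smul, hc, ← algebraMap_smul P (MvPolynomial.monomial d (1 : R₀)) ℓ,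
            ← smul_assoc]
          congr 1
          rw [MvPolynomial.algebraMap_def, MvPolynomial.map_monomial, map_one, MvPolynomial.smul_monomial,
            smul_eq_mul, mul_one]
        rw [this]
        have h0 : π₀.rangeRestrict (MvPolynomial.monomial d (1 : R₀) • ℓ₀) = 0 := by
          apply Subtype.ext
          show π₀ _ = 0
          rw [map_smul, show π₀ ℓ₀ = π (c ℓ₀) from rfl, hc, hs0 ℓ hℓ, smul_zero]
        show ((π₀.rangeRestrict.restrictScalars R₀).baseChange R) _ = 0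
        rw [LinearMap.baseChange_tmul, LinearMap.coe_restrictScalars, h0, TensorProduct.tmul_zero]
  have htors : ∀ z, Θ z = 0 → ∃ r : R, r ≠ 0 ∧ r • z = 0 := by
    intro z hz
    obtain ⟨w, rfl⟩ := hρ z
    obtain ⟨r, hr, hmem⟩ := hstors (Ψ w) (by rw [← hΘρ, hz])
    refine ⟨r, hr, ?_⟩
    have := hvanish _ hmem 1
    rwa [one_smul, ← map_smul Ψ, Ψ.symm_apply_apply, map_smul] at this
  obtain ⟨s₀, hs₀⟩ := IsNoetherian.noetherian (LinearMap.ker π₀)
  let W := Submodule.span P (c '' (↑s₀ : Set (Fin m → MvPolynomial (Fin n) R₀)))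
  have hWmem : ∀ v, π₀.rangeRestrict.restrictScalars R₀ v = 0 →
      Ψ ((1 : R) ⊗ₜ[R₀] v) ∈ W.restrictScalars R := by
    intro v hv
    show Ψ ((1 : R) ⊗ₜ[R₀] v) ∈ W
    rw [hΨ, one_smul]
    have hv0 : π₀ v = 0 := congrArg Subtype.val hv
    exact Submodule.span_le_restrictScalars (MvPolynomial (Fin n) R₀) P _
      (Submodule.apply_mem_span_image_of_mem_span c (hs₀.ge hv0))
  let p₀ : (Fin m → MvPolynomial (Fin n) R₀) →ₗ[R₀] LinearMap.range π₀ :=
    π₀.rangeRestrict.restrictScalars R₀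
  obtain ⟨f, hf, hfree, hW⟩ := exists_free_of_descent (U := LinearMap.range π₀) p₀
    π₀.surjective_rangeRestrict Ψ (π.restrictScalars R) hπ Θ hΘρ htors (W.restrictScalars R)
    hWmem Subtype.val_injective f₀ hf₀ hfree₀
  refine ⟨f, hf, hfree, W, Submodule.fg_span (s₀.finite_toSet.image c), ?_, hW⟩
  rw [Submodule.span_le]
  rintro _ ⟨v, hv, rfl⟩
  exact (hs₀.le (Submodule.subset_span hv) : v ∈ LinearMap.ker π₀)

end Groth.Agent.FlatH4
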