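import Groth.Agent.Lib.FlatH4.GenFlatScheme
import Groth.Agent.Lib.H2Alg.WeakAss
import Mathlib.RingTheory.Ideal.MinimalPrime.Localization
import Mathlib.AlgebraicGeometry.Morphisms.FiniteType
import Mathlib.RingTheory.Flat.TorsionFree

/-!
# Generic going down for morphisms of finite type
-/

universe u

open AlgebraicGeometry CategoryTheory

namespace Groth.Agent.FlatH4

/-- For a finite type algebra over a ring with prime nilradical, all primes avoiding some element
outside the nilradical generalize to a prime over the nilradical. -/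
theorem exists_le_comap_eq_nilradical {A B : Type u} [CommRing A] [CommRing B] [Algebra A B]
    [Algebra.FiniteType A B] (hA : (nilradical A).IsPrime) :
    ∃ g : A, g ∉ nilradical A ∧ ∀ (q : Ideal B), q.IsPrime → algebraMap A B g ∉ q →
      ∃ q' : Ideal B, q'.IsPrime ∧ q' ≤ q ∧ q'.comap (algebraMap A B) = nilradical A := by
  let J := (nilradical A).map (algebraMap A B)
  haveI : Algebra.FiniteType (A ⧸ nilradical A) (B ⧸ J) :=
    Algebra.FiniteType.of_restrictScalars_finiteType A (A ⧸ nilradical A) (B ⧸ J)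
  obtain ⟨f, hf, hflat⟩ := exists_flat_localized_of_finite (R := A ⧸ nilradical A) (T := B ⧸ J)
    (M := B ⧸ J)
  obtain ⟨g, rfl⟩ := Ideal.Quotient.mk_surjective f
  refine ⟨g, fun h => hf (Ideal.Quotient.eq_zero_iff_mem.2 h), fun q hq hgq => ?_⟩
  have hJq : J ≤ q := Ideal.map_le_iff_le_comap.2 fun a ha =>
    nilpotent_iff_mem_prime.1 (mem_nilradical.1 ha) _ (Ideal.IsPrime.comap (algebraMap A B))
  let q₀ : Ideal (B ⧸ J) := q.map (Ideal.Quotient.mk J)
  haveI hq₀ : q₀.IsPrime :=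
    Ideal.map_isPrime_of_surjective Ideal.Quotient.mk_surjective (by rwa [Ideal.mk_ker])
  have hq₀c : q₀.comap (Ideal.Quotient.mk J) = q := by
    rw [Ideal.comap_map_of_surjective _ Ideal.Quotient.mk_surjective, ← RingHom.ker_eq_comap_bot,
      Ideal.mk_ker, sup_eq_left.2 hJq]
  have hfq : algebraMap (A ⧸ nilradical A) (B ⧸ J) (Ideal.Quotient.mk _ g) ∉ q₀ := fun h => by
    apply hgq
    rw [← hq₀c]
    exact h
  obtain ⟨m, hm, hmq⟩ := Ideal.exists_minimalPrimes_le (bot_le : (⊥ : Ideal (B ⧸ J)) ≤ q₀)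
  haveI := hm.1.1
  refine ⟨m.comap (Ideal.Quotient.mk J), inferInstance, (Ideal.comap_mono hmq).trans hq₀c.le, ?_⟩
  refine le_antisymm (fun a ha => ?_) fun a ha => ?_
  · by_contra hna
    let c := algebraMap (A ⧸ nilradical A) (B ⧸ J) (Ideal.Quotient.mk _ a)
    have hcm : c ∈ m := ha
    obtain ⟨n, y, hy, hn⟩ := (Groth.Agent.H2Alg.mem_minimalPrimes_iff_exists_mul_pow_mem.1 hm).2 c hcm
    haveI := hflat q₀ hq₀ hfq
    have ha0 : (Ideal.Quotient.mk (nilradical A) a) ^ n ≠ 0 :=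
      pow_ne_zero n fun h => hna (Ideal.Quotient.eq_zero_iff_mem.1 h)
    have h0 : (Ideal.Quotient.mk (nilradical A) a) ^ n •
        LocalizedModule.mkLinearMap q₀.primeCompl (B ⧸ J) y = 0 := by
      rw [← LinearMap.map_smul_of_tower, Algebra.smul_def, map_pow, mul_comm]
      rw [Submodule.mem_bot] at hn
      rw [hn, map_zero]
    obtain ⟨⟨s, hs⟩, hsy⟩ := (IsLocalizedModule.eq_zero_iff q₀.primeCompl _).1
      ((smul_eq_zero.1 h0).resolve_left ha0)
    have : s * y ∈ m := by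
      rw [show s * y = 0 from hsy]
      exact m.zero_mem
    exact (hm.1.1.mem_or_mem this).elim (fun h => hs (hmq h)) hy
  · exact Ideal.map_le_iff_le_comap.1 (le_trans le_rfl (fun b hb => by
      change Ideal.Quotient.mk J b ∈ m
      rw [Ideal.Quotient.eq_zero_iff_mem.2 hb]
      exact m.zero_mem) : J ≤ m.comap (Ideal.Quotient.mk J)) ha

/-- For a quasi-compact morphism of finite type to an irreducible scheme, all points over some
nonempty open generalize to points of the generic fibre. -/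
theorem exists_open_generalizes_to_genericFibre {X Y : Scheme.{u}} (f : X ⟶ Y) [IrreducibleSpace Y]
    [LocallyOfFiniteType f] [QuasiCompact f] :
    ∃ V : Y.Opens, (V : Set Y).Nonempty ∧ ∀ x : X, f x ∈ V →
      ∃ x' : X, x' ⤳ x ∧ f x' = genericPoint Y := by
  obtain ⟨U, hU, hηU, -⟩ :=
    exists_isAffineOpen_mem_and_subset (X := Y) (x := genericPoint Y) (U := ⊤) trivial
  let p := hU.primeIdealOf ⟨genericPoint Y, hηU⟩
  have hp : nilradical Γ(Y, U) = p.asIdeal := by
    refine le_antisymm (fun a ha => nilpotent_iff_mem_prime.1 (mem_nilradical.1 ha) _ p.2) ?_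
    rw [nilradical_eq_sInf]
    refine le_sInf fun r hr => ?_
    have h : hU.fromSpec p ⤳ hU.fromSpec (⟨r, hr⟩ : PrimeSpectrum _) := by
      rw [hU.fromSpec_primeIdealOf]
      exact genericPoint_specializes _
    rw [hU.fromSpec.isOpenEmbedding.isInducing.specializes_iff] at h
    exact (PrimeSpectrum.le_iff_specializes _ _).2 h
  have hc : IsCompact (f ⁻¹ᵁ U : Set X) := QuasiCompact.isCompact_preimage _ U.2 hU.isCompact
  choose W hW hxW hWU using fun x : ↥(f ⁻¹ᵁ U) =>
    exists_isAffineOpen_mem_and_subset (X := X) (x := x.1) (U := f ⁻¹ᵁ U) x.2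
  obtain ⟨t, ht⟩ := hc.elim_finite_subcover (fun x => (W x : Set X)) (fun x => (W x).2)
    fun x hx => Set.mem_iUnion.2 ⟨⟨x, hx⟩, hxW ⟨x, hx⟩⟩
  have key : ∀ i : ↥(f ⁻¹ᵁ U), ∃ g : Γ(Y, U), g ∉ p.asIdeal ∧ ∀ x : X, x ∈ W i →
      f x ∈ Y.basicOpen g → ∃ x' : X, x' ⤳ x ∧ f x' = genericPoint Y := by
    intro i
    letI : Algebra Γ(Y, U) Γ(X, W i) := (f.appLE U (W i) (hWU i)).hom.toAlgebra
    haveI : Algebra.FiniteType Γ(Y, U) Γ(X, W i) := f.finiteType_appLE hU (hW i) (hWU i)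
    obtain ⟨g, hg, hgood⟩ := exists_le_comap_eq_nilradical (A := Γ(Y, U)) (B := Γ(X, W i))
      (hp ▸ p.2)
    refine ⟨g, hp ▸ hg, fun x hx hxg => ?_⟩
    let q := (hW i).primeIdealOf ⟨x, hx⟩
    have hgq : algebraMap Γ(Y, U) Γ(X, W i) g ∉ q.asIdeal := by
      intro hmem
      have h1 : hU.primeIdealOf ⟨f x, hWU i hx⟩ ∈ hU.fromSpec ⁻¹ᵁ Y.basicOpen g := by
        show hU.fromSpec _ ∈ Y.basicOpen g
        rw [hU.fromSpec_primeIdealOf]
        exact hxg
      rw [hU.fromSpec_preimage_basicOpen] at h1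
      apply h1
      rw [← congr($(IsAffineOpen.comap_primeIdealOf_appLE U hU (W i) (hW i) (hWU i) hx).1)]
      exact hmem
    obtain ⟨q', hq', hle, hcomap⟩ := hgood q.asIdeal q.2 hgq
    refine ⟨(hW i).fromSpec (⟨q', hq'⟩ : PrimeSpectrum _), ?_, ?_⟩
    · have h : (⟨q', hq'⟩ : PrimeSpectrum Γ(X, W i)) ⤳ q := (PrimeSpectrum.le_iff_specializes _ _).1 hle
      have := h.map (hW i).fromSpec.continuous
      rwa [(hW i).fromSpec_primeIdealOf] at this
    · rw [← Scheme.Hom.comp_apply, ← hU.SpecMap_appLE_fromSpec f (hW i) (hWU i),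
        Scheme.Hom.comp_apply]
      have : Spec.map (f.appLE U (W i) (hWU i)) (⟨q', hq'⟩ : PrimeSpectrum _) = p :=
        PrimeSpectrum.ext (hcomap.trans hp)
      rw [this]
      exact hU.fromSpec_primeIdealOf _
  choose g hg hgood using key
  classical
  refine ⟨Y.basicOpen (∏ i ∈ t, g i), ⟨genericPoint Y, ?_⟩, fun x hx => ?_⟩
  · have h1 : p ∈ hU.fromSpec ⁻¹ᵁ Y.basicOpen (∏ i ∈ t, g i) := by
      rw [hU.fromSpec_preimage_basicOpen]
      intro hmem
      obtain ⟨i, -, hi⟩ := p.2.prod_mem_iff.1 hmem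
      exact hg i hi
    have := h1
    change hU.fromSpec p ∈ Y.basicOpen (∏ i ∈ t, g i) at this
    rwa [hU.fromSpec_primeIdealOf] at this
  · obtain ⟨i, hi, hxi⟩ := Set.mem_iUnion₂.1 (ht (show x ∈ f ⁻¹ᵁ U from Y.basicOpen_le _ hx))
    refine hgood i x hxi ?_
    rw [← Finset.mul_prod_erase t g hi, Scheme.basicOpen_mul] at hx
    exact hx.1

end Groth.Agent.FlatH4
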