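import Mathlib.RingTheory.Flat.EquationalCriterion
import Mathlib.RingTheory.Flat.Stability
import Mathlib.RingTheory.QuasiFinite.Basic
import Mathlib.RingTheory.Ideal.MinimalPrime.Localization
import Mathlib.RingTheory.Algebraic.Basic
import Mathlib.RingTheory.Algebraic.Integral
import Mathlib.RingTheory.Localization.Integral
import Mathlib.RingTheory.Localization.Free
import Mathlib.RingTheory.Finiteness.ModuleFinitePresentation
import Mathlib.RingTheory.TensorProduct.Quotient
import Mathlib.RingTheory.LocalRing.Module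
import Mathlib.RingTheory.Ideal.GoingUp

/-!
# Torsion sections of flat quasi-finite algebras
-/

universe u

open Polynomial

noncomputable section

namespace Groth.Agent.FlatH4

section Core

/-- A section killed by `J` lies in `(0 : J)` times lifts of a basis of `T / J T`. -/
theorem exists_injective_of_basis_mod {R T : Type u} [CommRing R] [CommRing T] [Algebra R T]
    [Module.Flat R T] {r l : ℕ} (j : Fin l → R) (e : Fin r → T)
    (hspan : ∀ t : T, ∃ c : Fin r → R,
      t - ∑ i, algebraMap R T (c i) * e i ∈ (Ideal.span (Set.range j)).map (algebraMap R T))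
    (hindep : ∀ a : Fin r → R,
      ∑ i, algebraMap R T (a i) * e i ∈ (Ideal.span (Set.range j)).map (algebraMap R T) →
      ∀ i, a i ∈ Ideal.span (Set.range j))
    (g : T) (hg : ∀ m, algebraMap R T (j m) * g = 0) :
    ∃ (F : Ideal R) (φ : (Fin r → ↥F) →ₗ[R] T), Function.Injective φ ∧ g ∈ LinearMap.range φ := by
  let J := Ideal.span (Set.range j)
  let F : Ideal R := Submodule.annihilator J
  have hJF : ∀ a ∈ F, ∀ t ∈ J.map (algebraMap R T), algebraMap R T a * t = 0 := by
    intro a ha t ht
    induction ht using Submodule.span_induction with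
    | mem x hx =>
      obtain ⟨y, hy, rfl⟩ := hx
      rw [← map_mul, show a * y = 0 from Submodule.mem_annihilator.1 ha y hy, map_zero]
    | zero => rw [mul_zero]
    | add x y _ _ hx hy => rw [mul_add, hx, hy, add_zero]
    | smul c x _ hx => rw [smul_eq_mul, mul_left_comm, hx, mul_zero]
  let φ : (Fin r → ↥F) →ₗ[R] T :=
    ∑ i, ((Algebra.linearMap R T).smulRight (e i)).restrictScalars R ∘ₗ F.subtype ∘ₗ LinearMap.proj i
  have hφ : ∀ v, φ v = ∑ i, algebraMap R T (v i).1 * e i := fun v => by
    simp [φ]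
  refine ⟨F, φ, (injective_iff_map_eq_zero φ).2 fun v hv => ?_, ?_⟩
  · obtain ⟨k, c, y, hey, hc⟩ := Module.Flat.isTrivialRelation_of_sum_smul_eq_zero
      (f := fun i => (v i).1) (x := e) (by simpa only [hφ, Algebra.smul_def] using hv)
    choose d hd using fun q => hspan (y q)
    funext i
    refine Subtype.ext ?_
    have hJ : ∀ s, ∀ i', (∑ q, c s q * d q i') - (if i' = s then 1 else 0) ∈ J := by
      intro s
      apply hindep
      have h1 : e s - ∑ q, algebraMap R T (c s q) * ∑ i', algebraMap R T (d q i') * e i' ∈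
          J.map (algebraMap R T) := by
        rw [hey s, ← Finset.sum_sub_distrib]
        refine Submodule.sum_mem _ fun q _ => ?_
        rw [Algebra.smul_def, ← mul_sub]
        exact Ideal.mul_mem_left _ _ (hd q)
      convert (J.map (algebraMap R T)).neg_mem h1 using 1
      simp only [map_sub, sub_mul, Finset.sum_sub_distrib, map_sum, map_mul, Finset.sum_mul,
        Finset.mul_sum, neg_sub, apply_ite (algebraMap R T), map_one, map_zero, ite_mul, one_mul,
        zero_mul, Finset.sum_ite_eq', Finset.mem_univ, if_true]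
      rw [Finset.sum_comm]
      simp only [mul_assoc]
    show (v i).1 = 0
    have h2 : ∀ s, (v s).1 * ((∑ q, c s q * d q i) - if i = s then 1 else 0) = 0 := fun s =>
      Submodule.mem_annihilator.1 (v s).2 _ (hJ s i)
    have h3 : ∑ s, (v s).1 * ((∑ q, c s q * d q i) - if i = s then 1 else 0) = 0 :=
      Finset.sum_eq_zero fun s _ => h2 s
    simp only [mul_sub, Finset.sum_sub_distrib, Finset.mul_sum, mul_ite, mul_one, mul_zero,
      Finset.sum_ite_eq, Finset.mem_univ, if_true] at h3
    rw [Finset.sum_comm] at h3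
    simp only [← mul_assoc, ← Finset.sum_mul, hc, zero_mul, Finset.sum_const_zero, zero_sub,
      neg_eq_zero] at h3
    exact h3
  · let fK : R →ₗ[R] (Fin l → R) := LinearMap.pi fun m => LinearMap.toSpanSingleton R R (j m)
    let f' : (Fin l → R) →ₗ[R] R := ∑ m, LinearMap.smulRight (LinearMap.proj m) (j m)
    obtain ⟨k, a, y, hxy, haf⟩ := Module.Flat.exists_factorization_of_comp_eq_zero_of_free
      (f := f') (x := LinearMap.toSpanSingleton R T g) (LinearMap.ext fun w => by
        simp only [f', LinearMap.comp_apply, LinearMap.zero_apply, LinearMap.toSpanSingleton_apply,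
          LinearMap.coe_sum, Finset.sum_apply, LinearMap.smulRight_apply, LinearMap.proj_apply,
          Finset.sum_smul]
        refine Finset.sum_eq_zero fun m _ => ?_
        rw [smul_eq_mul, mul_smul, Algebra.smul_def (j m), hg, smul_zero])
    have ha : ∀ q, a 1 q ∈ F := fun q => Submodule.mem_annihilator.2 fun x hx => by
      induction hx using Submodule.span_induction with
      | mem x hx =>
        obtain ⟨m, rfl⟩ := hx
        have h := congr($haf (Pi.single m 1) q)
        simp only [f', LinearMap.comp_apply, LinearMap.coe_sum, Finset.sum_apply,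
          LinearMap.smulRight_apply, LinearMap.proj_apply, Pi.single_apply, ite_smul, zero_smul,
          Finset.sum_ite_eq', Finset.mem_univ, if_true, one_smul, LinearMap.zero_apply,
          Finsupp.zero_apply] at h
        rw [show j m = j m • (1 : R) by rw [smul_eq_mul, mul_one], map_smul, Finsupp.smul_apply,
          smul_eq_mul] at h
        rw [smul_eq_mul, mul_comm]
        exact h
      | zero => rw [smul_zero]
      | add x y _ _ hx hy => rw [smul_add, hx, hy, add_zero]
      | smul c x _ hx => rw [smul_comm, hx, smul_zero]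
    choose d hd using fun q => hspan (y (Finsupp.single q 1))
    refine ⟨fun i => ⟨∑ q, a 1 q * d q i, Submodule.sum_mem _ fun q _ => Ideal.mul_mem_right _ _ (ha q)⟩, ?_⟩
    rw [hφ]
    have hg1 : g = ∑ q, algebraMap R T (a 1 q) * y (Finsupp.single q 1) := by
      calc g = y (a 1) := by
            have := congr($hxy 1)
            rwa [LinearMap.toSpanSingleton_apply, one_smul] at this
        _ = _ := by
          conv_lhs => rw [← Finsupp.univ_sum_single (a 1)]
          rw [map_sum]
          refine Finset.sum_congr rfl fun q _ => ?_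
          rw [← Algebra.smul_def, ← map_smul, Finsupp.smul_single, smul_eq_mul, mul_one]
    symm
    refine hg1.trans (sub_eq_zero.1 ?_)
    simp only [map_sum, map_mul, Finset.sum_mul]
    rw [Finset.sum_comm, ← Finset.sum_sub_distrib]
    refine Finset.sum_eq_zero fun q _ => ?_
    rw [show (∑ i, algebraMap R T (a 1 q) * algebraMap R T (d q i) * e i) =
      algebraMap R T (a 1 q) * ∑ i, algebraMap R T (d q i) * e i by
        rw [Finset.mul_sum]; simp only [mul_assoc], ← mul_sub]
    exact hJF _ (ha q) _ (hd q)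

end Core

section Finite

/-- The annihilator of an element. -/
def sectionAnn {B : Type u} [CommRing B] (g : B) : Ideal B :=
  LinearMap.ker (LinearMap.toSpanSingleton B B g)

theorem mem_sectionAnn {B : Type u} [CommRing B] {g x : B} : x ∈ sectionAnn g ↔ x * g = 0 := Iff.rfl

variable {A B : Type u} [CommRing A] [CommRing B] [Algebra A B]

/-- Elements of the minimal prime over the annihilator become nilpotent modulo the elements of the
base killing the section near it. -/
theorem exists_pow_mul_mem_killer (g : B) (q : Ideal B) [q.IsPrime]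
    (hq : q ∈ (sectionAnn g).minimalPrimes) {a : A}
    (ha : a ∈ q.under A) : ∃ (n : ℕ) (s : B), s ∉ q ∧ s * algebraMap A B (a ^ n) * g = 0 := by
  have h1 : algebraMap B (Localization.AtPrime q) (algebraMap A B a) ∈
      ((sectionAnn g).map
        (algebraMap B (Localization.AtPrime q))).radical := by
    rw [IsLocalization.AtPrime.radical_map_of_mem_minimalPrimes (Localization.AtPrime q) q _ hq]
    exact Ideal.mem_map_of_mem _ ha
  obtain ⟨n, hn⟩ := h1
  rw [← map_pow, IsLocalization.algebraMap_mem_map_algebraMap_iff q.primeCompl] at hn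
  obtain ⟨s, hs, hsn⟩ := hn
  exact ⟨n, s, hs, mem_sectionAnn.1 (by rw [map_pow]; exact hsn)⟩

variable [Algebra.QuasiFinite A B]

/-- Every element satisfies a relation with unit leading coefficient modulo a prime. -/
theorem exists_poly_mem (q : Ideal B) [q.IsPrime] (b : B) :
    ∃ P : A[X], P.leadingCoeff ∉ q.under A ∧ aeval b P ∈ q ∧ (b ∉ q → P.coeff 0 ∉ q.under A) := by
  let p := q.under A
  let k := p.ResidueField
  letI := Localization.AtPrime.algebraOfLiesOver p q
  let K := q.ResidueField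
  haveI : Module.Finite k K := inferInstance
  letI : Algebra (A ⧸ p) K := ((algebraMap k K).comp (algebraMap (A ⧸ p) k)).toAlgebra
  haveI : IsScalarTower (A ⧸ p) k K := IsScalarTower.of_algebraMap_eq fun _ => rfl
  have hAK : (algebraMap (A ⧸ p) K).comp (Ideal.Quotient.mk p) = (algebraMap B K).comp (algebraMap A B) := by
    refine RingHom.ext fun a => ?_
    show algebraMap k K (algebraMap (A ⧸ p) k (Ideal.Quotient.mk p a)) = algebraMap B K (algebraMap A B a)
    rw [← IsScalarTower.algebraMap_apply A B K, ← Ideal.Quotient.algebraMap_eq,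
      ← IsScalarTower.algebraMap_apply A (A ⧸ p) k, ← IsScalarTower.algebraMap_apply A k K]
  have halg : IsAlgebraic (A ⧸ p) (algebraMap B K b) :=
    (IsFractionRing.isAlgebraic_iff (A ⧸ p) k K).2 (Algebra.IsAlgebraic.isAlgebraic _)
  have key : ∃ P₀ : (A ⧸ p)[X], P₀ ≠ 0 ∧ aeval (algebraMap B K b) P₀ = 0 ∧ (b ∉ q → P₀.coeff 0 ≠ 0) := by
    by_cases hb : b ∈ q
    · obtain ⟨P₀, h1, h2⟩ := halg
      exact ⟨P₀, h1, h2, fun h => absurd hb h⟩
    · obtain ⟨P₀, h1, h2⟩ := halg.exists_nonzero_coeff_and_aeval_eq_zero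
        (mem_nonZeroDivisors_of_ne_zero fun h => hb (Ideal.algebraMap_residueField_eq_zero.1 h))
      exact ⟨P₀, fun h => h1 (by rw [h, coeff_zero]), h2, fun _ => h1⟩
  obtain ⟨P₀, h0, hP₀, hc⟩ := key
  obtain ⟨P, hP, hdeg⟩ := exists_natDegree_eq_of_mem_lifts
    (mem_lifts_of_surjective (Ideal.Quotient.mk_surjective (I := p)) P₀)
  refine ⟨P, fun h => h0 (leadingCoeff_eq_zero.1 ?_), ?_, fun hb h => hc hb ?_⟩
  · rw [Polynomial.leadingCoeff, ← hdeg, ← hP, coeff_map]
    exact Ideal.Quotient.eq_zero_iff_mem.2 h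
  · rw [← Ideal.algebraMap_residueField_eq_zero, aeval_def, hom_eval₂]
    rw [← hP, aeval_def, eval₂_map, hAK] at hP₀
    exact hP₀
  · rw [← hP, coeff_map]
    exact Ideal.Quotient.eq_zero_iff_mem.2 h

variable [Algebra.FiniteType A B]

omit [Algebra.FiniteType A B] in
/-- Some element outside `q` lies in all other primes of the fibre of `q`. -/
theorem exists_isolating (q : Ideal B) [q.IsPrime] :
    ∃ h ∉ q, ∀ Q : Ideal B, Q.IsPrime → Q.under A = q.under A → Q ≠ q → h ∈ Q := by
  classical
  have hfin : ((q.under A).primesOver B).Finite := Algebra.QuasiFinite.finite_primesOver _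
  let s := hfin.toFinset.erase q
  have hne : ∀ Q ∈ s, ∃ x ∈ Q, x ∉ q := by
    intro Q hQ
    obtain ⟨hQq, hQ'⟩ := Finset.mem_erase.1 hQ
    obtain ⟨hQp, hQo⟩ := hfin.mem_toFinset.1 hQ'
    haveI := hQp
    by_contra! hle
    exact hQq (Algebra.QuasiFinite.eq_of_le_of_under_eq (R := A) Q q hle hQo.over.symm)
  choose x hx hxq using hne
  refine ⟨∏ Q ∈ s.attach, x Q.1 Q.2, fun h => ?_, fun Q hQ hQu hQne => ?_⟩
  · obtain ⟨Q, -, hQ⟩ := (Ideal.IsPrime.prod_mem_iff (p := q)).1 h
    exact hxq _ _ hQ
  · have : Q ∈ s := Finset.mem_erase.2 ⟨hQne, hfin.mem_toFinset.2 ⟨hQ, ⟨hQu.symm⟩⟩⟩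
    exact (Ideal.IsPrime.prod_mem_iff (p := Q)).2 ⟨⟨Q, this⟩, Finset.mem_attach _ _, hx Q this⟩

omit [Algebra.FiniteType A B] in
/-- In a `B`-algebra where enough elements are units, images of `B` are integral modulo `J`. -/
theorem integral_aux {R T : Type u} [CommRing R] [CommRing T] [Algebra R T] [Algebra A R]
    [Algebra A T] [Algebra B T] [IsScalarTower A R T] [IsScalarTower A B T]
    (I : Ideal T) (t : Set B) (ht : Algebra.adjoin A t = ⊤)
    (hx : ∀ b ∈ t, ∃ P : A[X], IsUnit (algebraMap A R P.leadingCoeff) ∧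
      ∃ n, algebraMap B T (aeval b P) ^ n ∈ I) (b : B) :
    IsIntegral R (Ideal.Quotient.mk I (algebraMap B T b)) := by
  have hb : b ∈ Algebra.adjoin A t := ht ▸ Algebra.mem_top
  induction hb using Algebra.adjoin_induction with
  | mem b hb =>
    obtain ⟨P, hu, n, hn⟩ := hx b hb
    obtain ⟨u, hu⟩ := (hu.pow n)
    nontriviality R
    let Q := C (↑u⁻¹ : R) * P.map (algebraMap A R) ^ n
    refine ⟨Q, ?_, ?_⟩
    · have hlc : (P.map (algebraMap A R)).leadingCoeff = algebraMap A R P.leadingCoeff :=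
        leadingCoeff_map_of_leadingCoeff_ne_zero _ (IsUnit.ne_zero ‹IsUnit (algebraMap A R P.leadingCoeff)›)
      rw [Monic, leadingCoeff_mul', leadingCoeff_C, leadingCoeff_pow', hlc, ← hu, Units.inv_mul]
      · rw [hlc, ← hu]; exact u.ne_zero
      · rw [leadingCoeff_C, leadingCoeff_pow' (by rw [hlc, ← hu]; exact u.ne_zero), hlc, ← hu, Units.inv_mul]
        exact one_ne_zero
    · have h2 : Ideal.Quotient.mk I (algebraMap B T (aeval b P)) ^ n = 0 := by
        rw [← map_pow, Ideal.Quotient.eq_zero_iff_mem]; exact hn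
      rw [eval₂_mul, eval₂_C, eval₂_pow, eval₂_map]
      convert mul_zero (algebraMap R (T ⧸ I) (↑u⁻¹ : R))
      rw [← h2, aeval_def, hom_eval₂, hom_eval₂]
      congr 2
      refine RingHom.ext fun a => ?_
      show algebraMap R (T ⧸ I) (algebraMap A R a) = Ideal.Quotient.mk I (algebraMap B T (algebraMap A B a))
      rw [← IsScalarTower.algebraMap_apply A B T, IsScalarTower.algebraMap_apply A R T]
      rfl
  | algebraMap a =>
    rw [← IsScalarTower.algebraMap_apply A B T, IsScalarTower.algebraMap_apply A R T]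
    exact isIntegral_algebraMap
  | add x y _ _ hx hy => rw [map_add, map_add]; exact hx.add hy
  | mul x y _ _ hx hy => rw [map_mul, map_mul]; exact hx.mul hy

/-- A neighbourhood on which `T / J T` is finite and `J` kills `g`. -/
theorem exists_finite_nhd (g : B) (q : Ideal B) [q.IsPrime]
    (hq : q ∈ (sectionAnn g).minimalPrimes) :
    ∃ (f : A) (h : B) (l : ℕ) (j : Fin l → A), f ∉ q.under A ∧ h ∉ q ∧ (∀ m, j m ∈ q.under A) ∧
      (∀ m, h * algebraMap A B (j m) * g = 0) ∧
      ∀ (R T : Type u) [CommRing R] [CommRing T] [Algebra R T] [Algebra A R] [Algebra A T]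
        [Algebra B T] [IsScalarTower A R T] [IsScalarTower A B T] [IsLocalization.Away f R]
        [IsLocalization.Away (algebraMap A B f * h) T],
        Module.Finite R (T ⧸ ((Ideal.span (Set.range j)).map (algebraMap A T))) := by
  classical
  let p := q.under A
  obtain ⟨h₀, hh₀, hiso⟩ := exists_isolating (A := A) q
  obtain ⟨t₀, ht₀⟩ := Algebra.FiniteType.out (R := A) (A := B)
  let K : Set A := {a | a ∈ p ∧ ∃ s : B, s ∉ q ∧ s * algebraMap A B a * g = 0}
  let JB := Ideal.span (algebraMap A B '' K)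
  -- elements of `q` are nilpotent modulo `J`
  have key : ∀ x ∈ q, ∃ (n k : ℕ) (s : A), s ∉ p ∧ h₀ ^ k * algebraMap A B s * x ^ n ∈ JB := by
    intro x hx
    by_contra! hne
    let M : Submonoid B :=
      Submonoid.powers h₀ ⊔ (p.primeCompl.map (algebraMap A B).toMonoidHom ⊔ Submonoid.powers x)
    have hdis : Disjoint (JB : Set B) M := Set.disjoint_left.2 fun y hy hyM => by
      obtain ⟨_, ⟨k, rfl⟩, z, hz, rfl⟩ := Submonoid.mem_sup.1 hyM
      obtain ⟨_, ⟨s, hs, rfl⟩, _, ⟨n, rfl⟩, rfl⟩ := Submonoid.mem_sup.1 hz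
      refine hne n k s hs ?_
      rw [mul_assoc]; exact hy
    obtain ⟨Q, hQ, hJQ, hQM⟩ := Ideal.exists_le_prime_disjoint _ M hdis
    haveI := hQ
    have hMQ : ∀ y ∈ M, y ∉ Q := fun y hy hyQ => Set.disjoint_left.1 hQM hyQ hy
    have hQp : Q.under A = p := by
      refine le_antisymm (fun a ha => by_contra fun hap => hMQ _ ?_ ha) fun a ha => ?_
      · exact Submonoid.mem_sup_right (Submonoid.mem_sup_left ⟨a, hap, rfl⟩)
      · obtain ⟨n, s, hs, hsg⟩ := exists_pow_mul_mem_killer g q hq ha
        have hn : n ≠ 0 := by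
          rintro rfl
          rw [pow_zero, map_one, mul_one] at hsg
          exact hs (hq.1.2 (mem_sectionAnn.2 hsg))
        refine hQ.mem_of_pow_mem n ?_
        rw [← map_pow]
        exact hJQ (Ideal.subset_span ⟨a ^ n, ⟨Ideal.pow_mem_of_mem _ ha n (Nat.pos_of_ne_zero hn), s, hs, hsg⟩, rfl⟩)
    refine hMQ h₀ (Submonoid.mem_sup_left (Submonoid.mem_powers _)) (hiso Q hQ hQp fun h => ?_)
    exact hMQ x (Submonoid.mem_sup_right (Submonoid.mem_sup_right (Submonoid.mem_powers _))) (h ▸ hx)
  choose P hPl hPq hP0 using fun b : B => exists_poly_mem (A := A) q b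
  choose n k s hs hmem using fun b : B => key _ (hPq b)
  let gens := insert h₀ t₀
  have hT : ∀ b, ∃ U : Finset B, ↑U ⊆ algebraMap A B '' K ∧
      h₀ ^ k b * algebraMap A B (s b) * aeval b (P b) ^ n b ∈ Ideal.span (U : Set B) := fun b =>
    Submodule.mem_span_finite_of_mem_span (hmem b)
  choose U hUK hU using hT
  have hpreU : ∀ y ∈ gens.biUnion U, ∃ a ∈ K, algebraMap A B a = y := fun y hy => by
    obtain ⟨b, -, hb⟩ := Finset.mem_biUnion.1 hy
    exact hUK b hb
  choose pre hpre hpre' using hpreU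
  choose tt htt htt' using fun y hy => (hpre y hy).2
  let e := (gens.biUnion U).equivFin
  let j : Fin (gens.biUnion U).card → A := fun m => pre _ (e.symm m).2
  let I : Ideal A := Ideal.span (Set.range j)
  let t : B := ∏ y ∈ (gens.biUnion U).attach, tt y.1 y.2
  have htq : t ∉ q := fun h => by
    obtain ⟨y, -, hy⟩ := (Ideal.IsPrime.prod_mem_iff (p := q)).1 h
    exact htt _ _ hy
  have hjq : ∀ m, j m ∈ p := fun m => (hpre _ (e.symm m).2).1
  have hjg : ∀ m, t * algebraMap A B (j m) * g = 0 := fun m => by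
    obtain ⟨c, hc⟩ : tt _ (e.symm m).2 ∣ t :=
      Finset.dvd_prod_of_mem (fun y : { x // x ∈ gens.biUnion U } => tt y.1 y.2)
        (Finset.mem_attach _ (e.symm m))
    rw [hc, mul_comm _ c, mul_assoc c, mul_assoc c, htt', mul_zero]
  have hUI : ∀ b ∈ gens, ∀ y ∈ U b, y ∈ I.map (algebraMap A B) := fun b hb y hy => by
    have hy' : y ∈ gens.biUnion U := Finset.mem_biUnion.2 ⟨b, hb, hy⟩
    rw [← hpre' y hy']
    refine Ideal.mem_map_of_mem _ (Ideal.subset_span ⟨e ⟨y, hy'⟩, ?_⟩)
    simp only [j, Equiv.symm_apply_apply]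
  -- integrality wherever the denominators are units
  let c₀ := (P h₀).coeff 0 ^ n h₀
  have hint : ∀ (R T : Type u) [CommRing R] [CommRing T] [Algebra R T] [Algebra A R] [Algebra A T]
      [Algebra B T] [IsScalarTower A R T] [IsScalarTower A B T],
      (∀ b ∈ gens, IsUnit (algebraMap A R (P b).leadingCoeff) ∧ IsUnit (algebraMap A R (s b))) →
      IsUnit (algebraMap A R ((P h₀).coeff 0)) → IsUnit (algebraMap B T h₀) →
      (∀ b : B, IsIntegral R (Ideal.Quotient.mk (I.map (algebraMap A T)) (algebraMap B T b))) ∧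
      ∃ c, IsIntegral R c ∧ Ideal.Quotient.mk (I.map (algebraMap A T)) (algebraMap B T h₀) * c = 1 := by
    intro R T _ _ _ _ _ _ _ _ hu h0 hh
    let mk := Ideal.Quotient.mk (I.map (algebraMap A T))
    have hpow : ∀ b ∈ gens, algebraMap B T (aeval b (P b)) ^ n b ∈ I.map (algebraMap A T) := by
      intro b hb
      have h1 : h₀ ^ k b * algebraMap A B (s b) * aeval b (P b) ^ n b ∈ I.map (algebraMap A B) :=
        Ideal.span_le.2 (fun y hy => hUI b hb y hy) (hU b)
      have h2 := Ideal.mem_map_of_mem (algebraMap B T) h1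
      rw [Ideal.map_map, ← IsScalarTower.algebraMap_eq, map_mul, map_mul, map_pow, map_pow,
        ← IsScalarTower.algebraMap_apply, IsScalarTower.algebraMap_apply A R T] at h2
      exact (Ideal.unit_mul_mem_iff_mem _ ((hh.pow _).mul ((hu b hb).2.map _))).1 h2
    have hall : ∀ b, IsIntegral R (mk (algebraMap B T b)) :=
      integral_aux (A := A) _ (t₀ : Set B) ht₀ fun b hb =>
        ⟨P b, (hu b (Finset.mem_insert_of_mem hb)).1, n b, hpow b (Finset.mem_insert_of_mem hb)⟩
    refine ⟨hall, ?_⟩
    let Q := P h₀ ^ n h₀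
    let S := divX Q
    obtain ⟨v, hv⟩ : IsUnit (algebraMap A R (Q.coeff 0)) := by
      rw [coeff_zero_eq_eval_zero, eval_pow, ← coeff_zero_eq_eval_zero, map_pow]
      exact h0.pow _
    have h3 : mk (algebraMap B T (aeval h₀ Q)) = 0 := by
      rw [Ideal.Quotient.eq_zero_iff_mem, map_pow, map_pow]
      exact hpow h₀ (Finset.mem_insert_self _ _)
    rw [← X_mul_divX_add Q, map_add, map_mul, aeval_X, aeval_C, map_add, map_mul, map_add, map_mul,
      ← IsScalarTower.algebraMap_apply, IsScalarTower.algebraMap_apply A R T, ← hv,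
      show mk (algebraMap R T (v : R)) = algebraMap R (T ⧸ I.map (algebraMap A T)) v from rfl] at h3
    refine ⟨-(algebraMap R (T ⧸ I.map (algebraMap A T)) (↑v⁻¹ : R)) * mk (algebraMap B T (aeval h₀ (divX Q))),
      (isIntegral_algebraMap.neg).mul (hall _), ?_⟩
    have h4 : algebraMap R (T ⧸ I.map (algebraMap A T)) (v : R) * algebraMap R _ (↑v⁻¹ : R) = 1 := by
      rw [← map_mul, Units.mul_inv, map_one]
    linear_combination (-(algebraMap R (T ⧸ I.map (algebraMap A T)) (↑v⁻¹ : R))) * h3 + h4
  -- `t` is a unit modulo `J` near `p`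
  obtain ⟨s₂, hs₂, k₂, hm₂⟩ : ∃ s₂ ∉ p, ∃ k₂ : ℕ,
      h₀ ^ k₂ * algebraMap A B s₂ ∈ Ideal.span {t} ⊔ I.map (algebraMap A B) := by
    by_contra! hne
    let M : Submonoid B := Submonoid.powers h₀ ⊔ p.primeCompl.map (algebraMap A B).toMonoidHom
    let R := Localization.AtPrime p
    let T := Localization M
    have hAu : ∀ a : p.primeCompl, IsUnit (((algebraMap B T).comp (algebraMap A B)) a) := fun a =>
      IsLocalization.map_units T (⟨algebraMap A B a, Submonoid.mem_sup_right ⟨a, a.2, rfl⟩⟩ : M)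
    letI : Algebra R T := (IsLocalization.lift (M := p.primeCompl) (S := R) hAu).toAlgebra
    haveI : IsScalarTower A R T := IsScalarTower.of_algebraMap_eq fun a => by
      rw [IsScalarTower.algebraMap_apply A B T]
      exact (IsLocalization.lift_eq hAu a).symm
    have hRu : ∀ a ∉ p, IsUnit (algebraMap A R a) := fun a ha =>
      IsLocalization.map_units R (⟨a, ha⟩ : p.primeCompl)
    obtain ⟨hall, c, hc, hc1⟩ := hint R T (fun b _ => ⟨hRu _ (hPl b), hRu _ (hs b)⟩)
      (hRu _ (hP0 h₀ hh₀)) (IsLocalization.map_units T (⟨h₀, Submonoid.mem_sup_left (Submonoid.mem_powers _)⟩ : M))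
    haveI : Algebra.IsIntegral R (T ⧸ I.map (algebraMap A T)) := ⟨fun z => by
      obtain ⟨z, rfl⟩ := Ideal.Quotient.mk_surjective z
      obtain ⟨⟨b, ⟨m, hm⟩⟩, rfl⟩ := IsLocalization.mk'_surjective M z
      obtain ⟨_, ⟨i, rfl⟩, _, ⟨a, ha, rfl⟩, rfl⟩ := Submonoid.mem_sup.1 hm
      obtain ⟨ua, hua⟩ := hRu a ha
      rw [show Ideal.Quotient.mk (I.map (algebraMap A T)) (IsLocalization.mk' T b ⟨_, hm⟩) =
        Ideal.Quotient.mk _ (algebraMap B T b) * c ^ i * algebraMap R _ (↑ua⁻¹ : R) from ?_]
      · exact ((hall b).mul (hc.pow i)).mul isIntegral_algebraMap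
      have h1 : IsLocalization.mk' T b ⟨_, hm⟩ * (algebraMap B T h₀ ^ i * algebraMap R T ua) =
          algebraMap B T b := by
        rw [hua, ← IsScalarTower.algebraMap_apply A R T, IsScalarTower.algebraMap_apply A B T,
          ← map_pow, ← map_mul]
        exact IsLocalization.mk'_spec T b ⟨_, hm⟩
      have h2 := congrArg (Ideal.Quotient.mk (I.map (algebraMap A T))) h1
      rw [map_mul, map_mul, map_pow] at h2
      rw [← h2, Ideal.Quotient.mk_algebraMap]
      have h3 : Ideal.Quotient.mk (I.map (algebraMap A T)) (algebraMap B T h₀) ^ i * c ^ i = 1 := by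
        rw [← mul_pow, hc1, one_pow]
      have h4 : algebraMap R (T ⧸ I.map (algebraMap A T)) ua * algebraMap R _ (↑ua⁻¹ : R) = 1 := by
        rw [← map_mul, Units.mul_inv, map_one]
      linear_combination (Ideal.Quotient.mk (I.map (algebraMap A T))
        (IsLocalization.mk' T b ⟨_, hm⟩)) * (-(h3 * 1) - h4 * (Ideal.Quotient.mk (I.map (algebraMap A T))
          (algebraMap B T h₀) ^ i * c ^ i))⟩
    have hdis : Disjoint (↑(Ideal.span {t} ⊔ I.map (algebraMap A B)) : Set B) M :=
      Set.disjoint_left.2 fun y hy hyM => by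
        obtain ⟨_, ⟨i, rfl⟩, _, ⟨a, ha, rfl⟩, rfl⟩ := Submonoid.mem_sup.1 hyM
        exact hne a ha i hy
    obtain ⟨Q, hQ, hQle, hQM⟩ := Ideal.exists_le_prime_disjoint _ M hdis
    haveI := hQ
    haveI : (Q.map (algebraMap B T)).IsPrime := IsLocalization.isPrime_of_isPrime_disjoint M T Q hQ hQM.symm
    obtain ⟨N, hN, hNle⟩ := Ideal.exists_le_maximal (Q.map (algebraMap B T)) (Ideal.IsPrime.ne_top ‹_›)
    haveI := hN
    have hIN : I.map (algebraMap A T) ≤ N := by
      rw [IsScalarTower.algebraMap_eq A B T, ← Ideal.map_map]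
      exact (Ideal.map_mono (le_sup_right.trans hQle)).trans hNle
    haveI : (N.map (Ideal.Quotient.mk (I.map (algebraMap A T)))).IsMaximal :=
      Ideal.IsMaximal.map_of_surjective_of_ker_le Ideal.Quotient.mk_surjective (by rwa [Ideal.mk_ker])
    have hmax := Ideal.isMaximal_comap_of_isIntegral_of_isMaximal (R := R)
      (N.map (Ideal.Quotient.mk (I.map (algebraMap A T))))
    rw [show algebraMap R (T ⧸ I.map (algebraMap A T)) = (Ideal.Quotient.mk _).comp (algebraMap R T) from rfl,
      ← Ideal.comap_comap, Ideal.comap_map_mk hIN] at hmax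
    have hNA : (N.comap (algebraMap B T)).under A = p := by
      rw [Ideal.under, Ideal.comap_comap, ← IsScalarTower.algebraMap_eq,
        IsScalarTower.algebraMap_eq A R T, ← Ideal.comap_comap, IsLocalRing.eq_maximalIdeal hmax]
      exact IsLocalization.AtPrime.comap_maximalIdeal R p
    have hh₀N : h₀ ∉ N.comap (algebraMap B T) := fun h => (Ideal.IsMaximal.ne_top hN)
      (Ideal.eq_top_of_isUnit_mem _ h (IsLocalization.map_units T
        (⟨h₀, Submonoid.mem_sup_left (Submonoid.mem_powers _)⟩ : M)))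
    refine htq ?_
    have hNq : N.comap (algebraMap B T) = q :=
      by_contra fun hne' => hh₀N (hiso _ (Ideal.IsPrime.comap _) hNA hne')
    rw [← hNq]
    exact Ideal.map_le_iff_le_comap.1 hNle (hQle (Ideal.mem_sup_left (Ideal.mem_span_singleton_self t)))
  let f : A := (∏ b ∈ gens, (P b).leadingCoeff * s b) * (P h₀).coeff 0 * s₂
  refine ⟨f, h₀ * t, _, j, ?_, ?_, hjq, ?_, ?_⟩
  · refine fun h => ?_
    rcases Ideal.IsPrime.mem_or_mem inferInstance h with h | h
    · rcases Ideal.IsPrime.mem_or_mem inferInstance h with h | h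
      · obtain ⟨b, -, hb⟩ := (Ideal.IsPrime.prod_mem_iff (p := p)).1 h
        exact (Ideal.IsPrime.mem_or_mem inferInstance hb).elim (hPl b) (hs b)
      · exact hP0 h₀ hh₀ h
    · exact hs₂ h
  · exact fun h => (Ideal.IsPrime.mem_or_mem inferInstance h).elim hh₀ htq
  · intro m
    rw [mul_assoc h₀, mul_assoc h₀, hjg, mul_zero]
  intro R T _ _ _ _ _ _ _ _ _ _
  let y := algebraMap A B f * (h₀ * t)
  have hfu : IsUnit (algebraMap A R f) := IsLocalization.Away.algebraMap_isUnit f
  have hfd : ∀ a, a ∣ f → IsUnit (algebraMap A R a) := fun a ha => isUnit_of_dvd_unit (map_dvd _ ha) hfu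
  have hd : ∀ b ∈ gens, (P b).leadingCoeff * s b ∣ f := fun b hb =>
    ((Finset.dvd_prod_of_mem (fun b => (P b).leadingCoeff * s b) hb).trans (Dvd.intro _ rfl)).trans (Dvd.intro _ rfl)
  have hyu : IsUnit (algebraMap B T y) := IsLocalization.Away.algebraMap_isUnit y
  obtain ⟨hall, c, hc, hc1⟩ := hint R T
    (fun b hb => ⟨hfd _ ((Dvd.intro _ rfl).trans (hd b hb)), hfd _ ((Dvd.intro_left _ rfl).trans (hd b hb))⟩)
    (hfd _ ((Dvd.intro_left _ rfl).trans (Dvd.intro _ rfl)))
    (isUnit_of_dvd_unit (map_dvd _ ((Dvd.intro t rfl).trans (Dvd.intro_left _ rfl))) hyu)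
  let mk := Ideal.Quotient.mk (I.map (algebraMap A T))
  obtain ⟨uf, huf⟩ := hfu
  obtain ⟨us, hus⟩ := hfd s₂ (Dvd.intro_left _ rfl)
  obtain ⟨w, hw⟩ : ∃ w, IsIntegral R w ∧ mk (algebraMap B T t) * w = 1 := by
    obtain ⟨x, hx, i, hi, hxi⟩ := Submodule.mem_sup.1 hm₂
    obtain ⟨d, rfl⟩ := Ideal.mem_span_singleton'.1 hx
    have hi0 : mk (algebraMap B T i) = 0 := by
      rw [Ideal.Quotient.eq_zero_iff_mem, IsScalarTower.algebraMap_eq A B T, ← Ideal.map_map]
      exact Ideal.mem_map_of_mem _ hi
    refine ⟨mk (algebraMap B T d) * c ^ k₂ * algebraMap R _ (↑us⁻¹ : R),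
      ((hall d).mul (hc.pow _)).mul isIntegral_algebraMap, ?_⟩
    have h1 : mk (algebraMap B T d) * mk (algebraMap B T t) =
        mk (algebraMap B T h₀) ^ k₂ * algebraMap R (T ⧸ I.map (algebraMap A T)) us := by
      rw [hus, ← map_pow, ← map_pow, ← Ideal.Quotient.mk_algebraMap,
        ← IsScalarTower.algebraMap_apply A R T, IsScalarTower.algebraMap_apply A B T, ← map_mul,
        ← map_mul, ← map_mul, ← map_mul, ← hxi, map_add, map_add, hi0, add_zero]
    have h4 : algebraMap R (T ⧸ I.map (algebraMap A T)) us * algebraMap R _ (↑us⁻¹ : R) = 1 := by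
      rw [← map_mul, Units.mul_inv, map_one]
    have h3 : mk (algebraMap B T h₀) ^ k₂ * c ^ k₂ = 1 := by rw [← mul_pow, hc1, one_pow]
    calc _ = (mk (algebraMap B T d) * mk (algebraMap B T t)) * c ^ k₂ * algebraMap R _ (↑us⁻¹ : R) := by ring
      _ = (mk (algebraMap B T h₀) ^ k₂ * c ^ k₂) *
          (algebraMap R (T ⧸ I.map (algebraMap A T)) us * algebraMap R _ (↑us⁻¹ : R)) := by rw [h1]; ring
      _ = 1 := by rw [h3, h4, one_mul]
  have hinv : IsIntegral R (mk (IsLocalization.Away.invSelf y : T)) := by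
    have h1 : mk (algebraMap B T y) * (algebraMap R _ (↑uf⁻¹ : R) * c * w) = 1 := by
      have : mk (algebraMap B T y) = algebraMap R (T ⧸ I.map (algebraMap A T)) uf *
          mk (algebraMap B T h₀) * mk (algebraMap B T t) := by
        rw [huf, ← Ideal.Quotient.mk_algebraMap, ← IsScalarTower.algebraMap_apply A R T,
          IsScalarTower.algebraMap_apply A B T, ← map_mul, ← map_mul, ← map_mul, ← map_mul, mul_assoc]
      rw [this]
      calc _ = (algebraMap R (T ⧸ I.map (algebraMap A T)) uf * algebraMap R _ (↑uf⁻¹ : R)) *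
            (mk (algebraMap B T h₀) * c) * (mk (algebraMap B T t) * w) := by ring
        _ = 1 := by rw [← map_mul, Units.mul_inv, map_one, hc1, hw.2, one_mul, one_mul]
    have h2 : mk (algebraMap B T y) * mk (IsLocalization.Away.invSelf y : T) = 1 := by
      rw [← map_mul, IsLocalization.Away.mul_invSelf, map_one]
    rw [show mk (IsLocalization.Away.invSelf y : T) = algebraMap R _ (↑uf⁻¹ : R) * c * w from
      left_inv_eq_right_inv (by rw [mul_comm]; exact h2) h1]
    exact (isIntegral_algebraMap.mul hc).mul hw.1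
  haveI : Algebra.IsIntegral R (T ⧸ I.map (algebraMap A T)) := ⟨fun z => by
    obtain ⟨z, rfl⟩ := Ideal.Quotient.mk_surjective z
    obtain ⟨m, b, hb⟩ := IsLocalization.Away.surj y z
    have : z = algebraMap B T b * (IsLocalization.Away.invSelf y : T) ^ m := by
      rw [← hb, mul_assoc, ← mul_pow, IsLocalization.Away.mul_invSelf, one_pow, mul_one]
    rw [this, map_mul, map_pow]
    exact (hall b).mul (hinv.pow m)⟩
  haveI : Algebra.FiniteType A T :=
    Algebra.FiniteType.trans (S := B) inferInstance (Algebra.FiniteType.of_surjective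
      (aeval (IsLocalization.Away.invSelf y : T) : B[X] →ₐ[B] T) fun z => by
        obtain ⟨m, b, hb⟩ := IsLocalization.Away.surj y z
        refine ⟨C b * X ^ m, ?_⟩
        rw [map_mul, map_pow, aeval_C, aeval_X, ← hb, mul_assoc, ← mul_pow,
          IsLocalization.Away.mul_invSelf, one_pow, mul_one])
  haveI : Algebra.FiniteType A (T ⧸ I.map (algebraMap A T)) :=
    Algebra.FiniteType.of_surjective (Ideal.Quotient.mkₐ A _) Ideal.Quotient.mk_surjective
  haveI : Algebra.FiniteType R (T ⧸ I.map (algebraMap A T)) :=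
    Algebra.FiniteType.of_restrictScalars_finiteType A _ _
  exact Algebra.IsIntegral.finite

end Finite

section Free

/-- Lifts of a basis of a finite flat `T / J T` near a prime. -/
theorem exists_basis_mod {R T : Type u} [CommRing R] [CommRing T] [Algebra R T] [Module.Flat R T]
    [Algebra.FinitePresentation R T] (J : Ideal R) (hJ : J.FG)
    [Module.Finite R (T ⧸ J.map (algebraMap R T))] (q : Ideal T) [q.IsPrime] (hJq : J ≤ q.under R) :
    ∃ (f : R) (r : ℕ) (e : Fin r → T), f ∉ q.under R ∧ 0 < r ∧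
      (∀ t : T, ∃ (n : ℕ) (c : Fin r → R),
        algebraMap R T (f ^ n) * t - ∑ i, algebraMap R T (c i) * e i ∈ J.map (algebraMap R T)) ∧
      ∀ a : Fin r → R, ∑ i, algebraMap R T (a i) * e i ∈ J.map (algebraMap R T) →
        ∀ i, ∃ n, f ^ n * a i ∈ J := by
  classical
  let M := T ⧸ J.map (algebraMap R T)
  haveI : Algebra.FinitePresentation R M := Algebra.FinitePresentation.quotient (hJ.map _)
  haveI : Module.Finite (R ⧸ J) M := Module.Finite.of_restrictScalars_finite R _ _
  haveI : Algebra.FinitePresentation (R ⧸ J) M :=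
    Algebra.FinitePresentation.of_restrict_scalars_finitePresentation R (R ⧸ J) M
  haveI : Module.FinitePresentation (R ⧸ J) M := .of_finite_of_finitePresentation _ _
  haveI : Module.Flat (R ⧸ J) M := by
    let e₀ := (Algebra.TensorProduct.quotIdealMapEquivQuotTensor T J).toLinearEquiv.restrictScalars R
    refine Module.Flat.of_linearEquiv (M := TensorProduct R (R ⧸ J) T)
      ({ e₀ with map_smul' := fun c x => ?_ } : M ≃ₗ[R ⧸ J] _)
    obtain ⟨c, rfl⟩ := Ideal.Quotient.mk_surjective c
    show e₀ (Ideal.Quotient.mk J c • x) = Ideal.Quotient.mk J c • e₀ x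
    rw [show Ideal.Quotient.mk J c • x = c • x from algebraMap_smul (R ⧸ J) c x,
      show Ideal.Quotient.mk J c • e₀ x = c • e₀ x from algebraMap_smul (R ⧸ J) c (e₀ x), map_smul]
  let p := q.under R
  let pb := p.map (Ideal.Quotient.mk J)
  haveI : pb.IsPrime := Ideal.map_isPrime_of_surjective Ideal.Quotient.mk_surjective (by rwa [Ideal.mk_ker])
  let Rs := Localization.AtPrime pb
  let Ms := LocalizedModule pb.primeCompl M
  haveI : Module.Finite Rs Ms := Module.Finite.of_isLocalizedModule pb.primeCompl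
    (LocalizedModule.mkLinearMap pb.primeCompl M)
  haveI : Module.Free Rs Ms := Module.free_of_flat_of_isLocalRing
  obtain ⟨ρ, hρ, b, -⟩ := Module.FinitePresentation.exists_basis_localizedModule_powers
    pb.primeCompl (LocalizedModule.mkLinearMap pb.primeCompl M) Rs (Module.Free.chooseBasis Rs Ms)
  let ι := Module.Free.ChooseBasisIndex Rs Ms
  let ε := Fintype.equivFin ι
  let mkl := LocalizedModule.mkLinearMap (Submonoid.powers ρ) M
  have hlift : ∀ i, ∃ (k : ℕ) (m : M), ρ ^ k • b i = mkl m := fun i => by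
    obtain ⟨⟨m, ⟨_, k, rfl⟩⟩, hm⟩ := IsLocalizedModule.surj (Submonoid.powers ρ) mkl (b i)
    exact ⟨k, m, hm⟩
  choose k m hm using hlift
  choose e he using fun i => Ideal.Quotient.mk_surjective (m i)
  obtain ⟨f, rfl⟩ := Ideal.Quotient.mk_surjective ρ
  have hfp : f ∉ p := fun h => hρ (Ideal.mem_map_of_mem _ h)
  have hsmul : ∀ (a : R) (x : T), Ideal.Quotient.mk J a • (Ideal.Quotient.mk _ x : M) =
      Ideal.Quotient.mk _ (algebraMap R T a * x) := fun a x => by
    rw [map_mul]; exact Algebra.smul_def (A := M) _ _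
  refine ⟨f, Fintype.card ι, fun i => e (ε.symm i), hfp, ?_, fun x => ?_, fun a ha i => ?_⟩
  · refine Fintype.card_pos_iff.2 (not_isEmpty_iff.1 fun hempty => hfp ?_)
    have h0 : (mkl (1 : M)) = 0 := b.repr.injective (Finsupp.ext fun i => isEmptyElim i)
    obtain ⟨⟨_, n, rfl⟩, hn⟩ := (IsLocalizedModule.eq_zero_iff (Submonoid.powers (Ideal.Quotient.mk J f)) mkl).1 h0
    have hn' : Ideal.Quotient.mk J f ^ n • (Ideal.Quotient.mk _ 1 : M) = 0 := hn
    rw [← map_pow, hsmul, mul_one, Ideal.Quotient.eq_zero_iff_mem] at hn'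
    refine Ideal.IsPrime.mem_of_pow_mem inferInstance n ?_
    exact Ideal.map_le_iff_le_comap.2 hJq hn'
  · have hc := fun i => IsLocalization.surj (Submonoid.powers (Ideal.Quotient.mk J f))
      (b.repr (mkl (Ideal.Quotient.mk _ x)) i)
    choose au hau using hc
    have hpow : ∀ i, ∃ ν, Ideal.Quotient.mk J f ^ ν = (au i).2.1 := fun i => (au i).2.2
    choose ν hν using hpow
    let N := ∑ i, (ν i + k i)
    have hN : ∀ i, ν i + k i ≤ N := fun i =>
      Finset.single_le_sum (fun j _ => Nat.zero_le (ν j + k j)) (Finset.mem_univ i)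
    choose a' ha' using fun i => Ideal.Quotient.mk_surjective (au i).1
    have h1 : mkl (Ideal.Quotient.mk J f ^ N • (Ideal.Quotient.mk _ x : M)) =
        mkl (∑ i, Ideal.Quotient.mk J (f ^ (N - (ν i + k i)) * a' i) • m i) := by
      rw [map_sum, map_smul]
      conv_lhs => rw [← b.sum_repr (mkl (Ideal.Quotient.mk _ x)), Finset.smul_sum]
      refine Finset.sum_congr rfl fun i _ => ?_
      rw [map_smul, ← hm, map_mul, map_pow, ha', smul_smul,
        ← algebraMap_smul (Localization (Submonoid.powers (Ideal.Quotient.mk J f)))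
          (Ideal.Quotient.mk J f ^ N),
        ← algebraMap_smul (Localization (Submonoid.powers (Ideal.Quotient.mk J f)))
          (_ * Ideal.Quotient.mk J f ^ k i), smul_smul, map_mul, map_mul, ← hau i, ← hν i]
      congr 1
      conv_lhs => rw [show N = (N - (ν i + k i)) + ν i + k i by have := hN i; omega]
      simp only [map_mul, map_pow, pow_add]
      ring
    obtain ⟨⟨_, n, rfl⟩, hn⟩ := (IsLocalizedModule.eq_iff_exists (Submonoid.powers (Ideal.Quotient.mk J f)) mkl).1 h1
    refine ⟨n + N, fun i => f ^ n * (f ^ (N - (ν (ε.symm i) + k (ε.symm i))) * a' (ε.symm i)), ?_⟩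
    rw [← Ideal.Quotient.eq_zero_iff_mem, map_sub, map_sum, sub_eq_zero,
      ε.symm.sum_comp (fun i => Ideal.Quotient.mk (J.map (algebraMap R T))
        (algebraMap R T (f ^ n * (f ^ (N - (ν i + k i)) * a' i)) * e i))]
    have hn' : Ideal.Quotient.mk J f ^ n • (Ideal.Quotient.mk J f ^ N • (Ideal.Quotient.mk _ x : M)) =
        Ideal.Quotient.mk J f ^ n • ∑ i, Ideal.Quotient.mk J (f ^ (N - (ν i + k i)) * a' i) • m i := hn
    rw [smul_smul, ← pow_add, ← map_pow, ← map_pow, hsmul, Finset.smul_sum] at hn'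
    rw [hn']
    refine Finset.sum_congr rfl fun i _ => ?_
    rw [smul_smul, ← map_mul, ← he, hsmul]
  · rw [← Ideal.Quotient.eq_zero_iff_mem, map_sum,
      ← ε.sum_comp (fun i => Ideal.Quotient.mk (J.map (algebraMap R T)) (algebraMap R T (a i) * e (ε.symm i)))] at ha
    let A' := Localization (Submonoid.powers (Ideal.Quotient.mk J f))
    have h1 : ∑ i, algebraMap (R ⧸ J) A' (Ideal.Quotient.mk J (a (ε i) * f ^ k i)) • b i = 0 := by
      have := congrArg mkl ha
      rw [map_sum, map_zero] at this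
      refine Eq.trans (Finset.sum_congr rfl fun i _ => ?_) this
      rw [Equiv.symm_apply_apply, ← hsmul, he, map_smul, ← hm, smul_smul, algebraMap_smul, map_mul, map_pow]
    have h2 := Fintype.linearIndependent_iff.1 b.linearIndependent _ h1 (ε.symm i)
    rw [Equiv.apply_symm_apply] at h2
    obtain ⟨⟨_, n, rfl⟩, hn⟩ := (IsLocalization.map_eq_zero_iff
      (Submonoid.powers (Ideal.Quotient.mk J f)) A' _).1 h2
    refine ⟨n + k (ε.symm i), ?_⟩
    rw [← Ideal.Quotient.eq_zero_iff_mem, ← hn]
    simp only [map_mul, map_pow, pow_add]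
    ring

end Free

end Groth.Agent.FlatH4
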